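import Cfsg.Agent.Lib.SuzCo0.BoundStep

/-! Nodes 0 to 169. -/

set_option autoImplicit false
set_option maxRecDepth 100000
set_option Elab.async false

namespace CfsgLib.SuzCoZero

open CfsgLib.Sporadic

theorem nodes0 : allFrom 0 170 nodeOK = true := by decide +kernel

end CfsgLib.SuzCoZero
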