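import Cfsg.Agent.Lib.SuzCo0.BoundStep

/-! Nodes 170 to 339. -/

set_option autoImplicit false
set_option maxRecDepth 100000
set_option Elab.async false

namespace CfsgLib.SuzCoZero

open CfsgLib.Sporadic

theorem nodes1 : allFrom 170 170 nodeOK = true := by decide +kernel

end CfsgLib.SuzCoZero
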