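import Mathlib.GroupTheory.GroupAction.Quotient
import Mathlib.GroupTheory.Coset.Card
import Mathlib.Data.Fintype.Card

/-! Separated elements bound the index of a subgroup from below. -/

set_option autoImplicit false

namespace CfsgLib.SuzCoZero

variable {G : Type*} [Group G] {X : Type*}

/-- Elements told apart by an invariant of the cosets. -/
theorem mul_card_le [Finite G] {K H : Subgroup G} (hHK : H ≤ K) {n : ℕ} (g : Fin n → G)
    (hg : ∀ i, g i ∈ K) (f : G → X) (hf : ∀ i, ∀ h ∈ H, f (g i * h) = f (g i))
    (hi : Function.Injective (f ∘ g)) : n * Nat.card H ≤ Nat.card K := by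
  let m : Fin n × H → K := fun p => ⟨g p.1 * p.2, K.mul_mem (hg _) (hHK p.2.2)⟩
  have hm : Function.Injective m := by
    rintro ⟨i, a⟩ ⟨j, b⟩ e
    have e' : g i * a = g j * b := congrArg Subtype.val e
    have h := congrArg f e'
    rw [hf i _ a.2, hf j _ b.2] at h
    obtain rfl := hi h
    exact Prod.ext rfl (Subtype.ext (mul_left_cancel e'))
  simpa [Nat.card_prod] using Nat.card_le_card_of_injective m hm

/-- Separation from a strictly increasing listing. -/
theorem injective_of_sorted {n : ℕ} {key : Fin n → ℕ} {s : ℕ → ℕ} {T : ℕ → ℕ}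
    (hkey : ∀ i, key i = T i.1) (hs : ∀ j < n, s j < n)
    (hlt : ∀ j, j + 1 < n → T (s j) < T (s (j + 1))) : Function.Injective key := by
  have hmono : StrictMono fun j : Fin n => T (s j.1) := by
    obtain _ | m := n
    · exact fun a => a.elim0
    · exact Fin.strictMono_iff_lt_succ.2 fun i => by simpa using hlt i.1 (by omega)
  let σ : Fin n → Fin n := fun j => ⟨s j.1, hs j.1 j.2⟩
  have hσ : Function.Injective σ := fun a b e => hmono.injective (by
    have := congrArg Fin.val e
    simp only [σ] at this
    simp only [this])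
  intro a b e
  obtain ⟨a', rfl⟩ := (Finite.injective_iff_surjective.1 hσ) a
  obtain ⟨b', rfl⟩ := (Finite.injective_iff_surjective.1 hσ) b
  rw [hkey, hkey] at e
  exact congrArg σ (hmono.injective e)

end CfsgLib.SuzCoZero
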