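import Cfsg.Agent.Lib.SuzCo0.BoundData
import Cfsg.Agent.Lib.SuzCo0.BoundCheck0
import Cfsg.Agent.Lib.SuzCo0.BoundCheck1
import Cfsg.Agent.Lib.SuzCo0.BoundCheck2
import Cfsg.Agent.Lib.SuzCo0.BoundCheck3
import Cfsg.Agent.Lib.SuzCo0.Count
import Cfsg.Agent.Lib.Schur.MultiplierSuzModel
import Cfsg.Agent.Lib.Sporadic.ConwayPsu62.Iso

/-!
The centraliser of the element of order three in the automorphism group of the lattice is the
sixfold cover of the Suzuki group: an upper bound for its order through the stabiliser of two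
minimal vectors.
-/

set_option autoImplicit false
set_option maxRecDepth 100000
set_option Elab.async false

noncomputable section

namespace CfsgLib.SuzCoZero

open Cfsg CfsgLib.Golay CfsgLib.Golay.LeechOrbit CfsgLib.MonsterType CfsgLib.Sporadic
open CfsgLib.Schur.MatFThree CfsgLib.Schur.ConwayModel CfsgLib.Schur.MultiplierSuz
open CfsgLib.Sporadic.ConwayPsu62 (pairVec gWs gen_mem card_G0)

/-- The stabiliser of the two vectors. -/
abbrev PG : Subgroup Co0 := ConwayPsu62.G0

/-- The code is the matrix of the word. -/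
def codeOK (w : List Letter) (c : ℕ) : Bool :=
  (List.finRange 24).all fun j => forceL (appE w (e8L j)) fun l =>
    (List.finRange 24).all fun i => decide (decF3 24 c i j = 2 * ((l.getD i.val 0 : ℤ) : ZMod 3))

theorem rep0_wordW {w : List Letter} {c : ℕ} (h : codeOK w c = true) : Rep0 c (wordW w) := by
  refine Matrix.ext fun i j => ?_
  simp only [codeOK, List.all_eq_true, List.mem_finRange, forall_true_left, forceL_eq,
    decide_eq_true_eq] at h
  rw [h j i, appE_eq, ← toL_latE, ← toL_wordW, getD_toL]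
  rfl

theorem codeH_ok : codeOK wordH codeH = true := by decide +kernel

theorem inv_code : keyF3 24 (mulF3 24 codeH codeHi) = keyF3 24 (oneF3 24) := by decide +kernel

/-- The first generators check. -/
def genOK (k : ℕ) : Bool :=
  codeOK (gWs.getD k []) (genT.get k) &&
    keyF3 24 (mulF3 24 (genT.get k) (genIT.get k)) == keyF3 24 (oneF3 24)

theorem gens_codes : allFrom 0 8 genOK = true := by decide +kernel

theorem rep0_inv {a b : ℕ} {g : Co0} (hg : Rep0 a g)
    (h : keyF3 24 (mulF3 24 a b) = keyF3 24 (oneF3 24)) : Rep0 b g⁻¹ := by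
  have e : mat g * decF3 24 b = 1 := by
    rw [show mat g = decF3 24 a from hg, ← decF3_mulF3, decF3_eq_of_key h, decF3_oneF3]
  show mat g⁻¹ = _
  calc mat g⁻¹ = mat g⁻¹ * (mat g * decF3 24 b) := by rw [e, mul_one]
    _ = decF3 24 b := by rw [← mul_assoc, ← mat_mul, inv_mul_cancel, mat_one, one_mul]

theorem rep0_key {a : ℕ} {g : Co0} (h : Rep0 a g) : Rep0 (keyF3 24 a) g := by
  show mat g = _
  rw [decF3_keyF3]; exact h

/-- The image vector. -/
def imgVec : leechLattice := ⟨ofL imgU, mem_of_latA (by decide +kernel)⟩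

theorem img_facts : dotL imgU imgU = 32 ∧
    dotL [4, 0, 0, 0, 0, 0, 0, 0, 0, 0, 0, 0, 0, 0, 0, 0, 0, 0, 0, 0, 0, 0, 0, 4]
      [4, 0, 0, 0, 0, 0, 0, 0, 0, 0, 0, 0, 0, 0, 0, 0, 0, 0, 0, 0, 0, 0, 0, 4] = 32 ∧
    toL (Spor.leechU : GolayPt → ℤ) =
      [4, 0, 0, 0, 0, 0, 0, 0, 0, 0, 0, 0, 0, 0, 0, 0, 0, 0, 0, 0, 0, 0, 0, 4] ∧
    appE wordH [4, 0, 0, 0, 0, 0, 0, 0, 0, 0, 0, 0, 0, 0, 0, 0, 0, 0, 0, 0, 0, 0, 0, 4] =
      [4, 0, 0, 0, 0, 0, 0, 0, 0, 0, 0, 0, 0, 0, 0, 0, 0, 0, 0, 0, 0, 0, 0, 4] ∧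
    appE wordH imgU = toL (vecK ConwayPsu62.pairKey) ∧ imgU.length = 24 := by decide +kernel

theorem norm_U : sqNorm (Spor.leechU : GolayPt → ℤ) = 32 := by
  rw [sqNorm_eq_dotL, img_facts.2.2.1]; exact img_facts.2.1

theorem red_image : ∀ i : Fin 24,
    ∑ j : Fin 24, decF3 24 (liftT.get omegaI) i j * ((([4, 0, 0, 0, 0, 0, 0, 0, 0, 0, 0, 0, 0, 0, 0,
      0, 0, 0, 0, 0, 0, 0, 0, 4] : List ℤ).getD j.val 0 : ℤ) : ZMod 3) =
      ((imgU.getD i.val 0 : ℤ) : ZMod 3) := by decide +kernel

theorem omega_smul : omega • Spor.leechU = imgVec := by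
  refine eq_of_red_eq ?_ ?_ ?_
  · rw [sqNorm_smul_lat, norm_U]; norm_num
  · rw [sqNorm_eq_dotL, show toL (imgVec : GolayPt → ℤ) = imgU from toL_ofL img_facts.2.2.2.2.2,
      img_facts.1]
    norm_num
  funext i
  rw [← mat_mulVec, mat_omega, Matrix.mulVec, dotProduct]
  refine Eq.trans (Finset.sum_congr rfl fun j _ => ?_) ((red_image i).trans ?_)
  · simp only [red]
    rw [← getD_toL (Spor.leechU : GolayPt → ℤ) j, img_facts.2.2.1]
  · simp only [red]
    rw [← getD_toL (imgVec : GolayPt → ℤ) i,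
      show toL (imgVec : GolayPt → ℤ) = imgU from toL_ofL img_facts.2.2.2.2.2]

/-- The word element. -/
def hEl : Co0 := wordW wordH

theorem hEl_U : hEl • Spor.leechU = Spor.leechU := by
  refine Subtype.ext (toL_injective ?_)
  rw [hEl, toL_wordW, ← appE_eq, img_facts.2.2.1]
  exact img_facts.2.2.2.1

theorem hEl_img : hEl • imgVec = pairVec := by
  refine Subtype.ext (toL_injective ?_)
  rw [hEl, toL_wordW, ← appE_eq, show toL (imgVec : GolayPt → ℤ) = imgU from toL_ofL img_facts.2.2.2.2.2]
  exact img_facts.2.2.2.2.1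

/-- The conjugate of the element of order three. -/
def omega' : Co0 := hEl * omega * hEl⁻¹

theorem omega'_U : omega' • Spor.leechU = pairVec := by
  rw [omega', mul_smul, mul_smul, inv_smul_eq_iff.2 hEl_U.symm, omega_smul, hEl_img]

theorem nodes_ok : allFrom 0 672 nodeOK = true := by
  rw [allFrom_eq_true]
  intro i _ hi
  by_cases h1 : i < 170
  · exact allFrom_eq_true.1 nodes0 i (Nat.zero_le i) (by omega)
  by_cases h2 : i < 340
  · exact allFrom_eq_true.1 nodes1 i (by omega) (by omega)
  by_cases h3 : i < 510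
  · exact allFrom_eq_true.1 nodes2 i (by omega) (by omega)
  exact allFrom_eq_true.1 nodes3 i (by omega) (by omega)

/-- The order check at an index. -/
def srtOK (j : ℕ) : Bool :=
  Nat.blt (srtT.get j) 672 && (Nat.ble 671 j || Nat.blt (nodeT.get (srtT.get j)) (nodeT.get (srtT.get (j + 1))))

theorem srt_ok : allFrom 0 672 srtOK = true := by decide +kernel

theorem gen_rep {k : ℕ} (hk : k < 8) :
    ∃ g ∈ PG, Rep0 (genT.get k) g ∧ Rep0 (genIT.get k) g⁻¹ := by
  have h := of_allFrom_zero gens_codes hk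
  simp only [genOK, Bool.and_eq_true, beq_iff_eq] at h
  exact ⟨_, gen_mem ⟨k, hk⟩, rep0_wordW h.1, rep0_inv (rep0_wordW h.1) h.2⟩

theorem node_rep : ∀ t, t < 672 → ∃ g ∈ PG, Rep0 (nodeT.get t) (g * omega' * g⁻¹) := by
  intro t
  induction t using Nat.strong_induction_on with
  | _ t ih =>
    intro ht
    have h := of_allFrom_zero nodes_ok ht
    simp only [nodeOK, Bool.and_eq_true] at h
    by_cases h0 : t = 0
    · subst h0
      refine ⟨1, one_mem _, ?_⟩
      have h2 := h.2
      simp only [beq_self_eq_true, cond_true, beq_iff_eq] at h2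
      rw [one_mul, inv_one, mul_one, ← h2]
      exact rep0_key (rep0_mul (rep0_mul (rep0_wordW codeH_ok) mat_omega)
        (rep0_inv (rep0_wordW codeH_ok) inv_code))
    · have h2 := h.2
      rw [show (t == 0) = false from beq_eq_false_iff_ne.2 h0] at h2
      simp only [cond_false, CfsgLib.Schur.MatFThree.forceN_eq, Bool.and_eq_true, Nat.blt_eq, beq_iff_eq] at h2
      obtain ⟨⟨hlt, hk⟩, he⟩ := h2
      obtain ⟨g, hg, hr⟩ := ih _ hlt (by omega)
      obtain ⟨x, hx, hx1, hx2⟩ := gen_rep hk
      refine ⟨x * g, mul_mem hx hg, ?_⟩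
      rw [← he, show x * g * omega' * (x * g)⁻¹ = x * (g * omega' * g⁻¹) * x⁻¹ by group]
      exact rep0_key (rep0_mul (rep0_mul hx1 hr) hx2)

/-- The centraliser of the conjugate. -/
def cent' : Subgroup Co0 := Subgroup.centralizer {omega'}

theorem card_inf : Nat.card ↥(PG ⊓ cent') ≤ 13685760 := by
  have := co0_finite
  choose g hg hrep using fun t : Fin 672 => node_rep t.1 t.2
  have hs : ∀ j < 672, srtT.get j < 672 ∧ (j + 1 < 672 → nodeT.get (srtT.get j) < nodeT.get (srtT.get (j + 1))) := by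
    intro j hj
    have h := of_allFrom_zero srt_ok hj
    simp only [srtOK, Bool.and_eq_true, Bool.or_eq_true, Nat.blt_eq, Nat.ble_eq] at h
    exact ⟨h.1, fun hj' => h.2.resolve_left (by omega)⟩
  have hinj : Function.Injective fun t : Fin 672 => nodeT.get t.1 :=
    injective_of_sorted (s := srtT.get) (T := nodeT.get) (fun _ => rfl) (fun j hj => (hs j hj).1)
      (fun j hj => (hs j (by omega)).2 hj)
  have hkey : ∀ t : Fin 672, keyF3 24 (nodeT.get t.1) = nodeT.get t.1 := fun t => by
    have h := of_allFrom_zero nodes_ok t.2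
    simp only [nodeOK, Bool.and_eq_true, beq_iff_eq] at h
    exact h.1
  have h := mul_card_le (G := Co0) (K := PG) (H := PG ⊓ cent') inf_le_left g hg
    (fun x => x * omega' * x⁻¹) (fun i c hc => by
      have hc' : omega' * c = c * omega' :=
        Subgroup.mem_centralizer_iff.1 (Subgroup.mem_inf.1 hc).2 omega' rfl
      show g i * c * omega' * (g i * c)⁻¹ = _
      rw [mul_assoc (g i) c, ← hc']
      group)
    (fun a b e => hinj (by
      have e' : g a * omega' * (g a)⁻¹ = g b * omega' * (g b)⁻¹ := e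
      show nodeT.get a.1 = nodeT.get b.1
      rw [← hkey a, ← hkey b]
      exact keyF3_eq ((hrep a).symm.trans ((congrArg mat e').trans (hrep b)))))
  rw [card_G0] at h
  omega

theorem card_cent'_le : Nat.card cent' ≤ 196560 * 13685760 := by
  have := co0_finite
  have hos := (MulAction.stabilizer cent' Spor.leechU).card_mul_index
  rw [MulAction.index_stabilizer] at hos
  have hst : Nat.card (MulAction.stabilizer cent' Spor.leechU) ≤ 13685760 := by
    refine le_trans (Nat.card_le_card_of_injective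
      (fun x : MulAction.stabilizer cent' Spor.leechU => (⟨x.1.1, ?_⟩ : ↥(PG ⊓ cent'))) ?_) card_inf
    · refine Subgroup.mem_inf.2 ⟨Subgroup.mem_inf.2 ⟨x.2, ?_⟩, x.1.2⟩
      rw [MulAction.mem_stabilizer_iff, ← omega'_U, ← mul_smul,
        ← Subgroup.mem_centralizer_iff.1 x.1.2 omega' rfl, mul_smul]
      congr 1
      exact x.2
    · intro a b e
      exact Subtype.ext (Subtype.ext (Subtype.mk.inj e))
  have horb : (MulAction.orbit cent' Spor.leechU).ncard ≤ 196560 := by
    rw [← ncard_norm_32, ← Set.ncard_image_of_injective _ Subtype.val_injective]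
    refine Set.ncard_le_ncard ?_ (Set.finite_of_ncard_ne_zero (by rw [ncard_norm_32]; norm_num))
    rintro _ ⟨v, ⟨c, rfl⟩, rfl⟩
    refine ⟨Subtype.property _, ?_⟩
    show sqNorm (((c : Co0) • Spor.leechU : leechLattice) : GolayPt → ℤ) = 32
    rw [sqNorm_smul_lat, norm_U]
  rw [← hos, mul_comm 196560]
  exact Nat.mul_le_mul hst horb

theorem card_cent_le : Nat.card cent ≤ 6 * 448345497600 := by
  have := co0_finite
  refine le_trans (Nat.card_le_card_of_injective
    (fun x : cent => (⟨hEl * x.1 * hEl⁻¹, ?_⟩ : cent')) ?_) (card_cent'_le.trans (by norm_num))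
  · rw [cent', Subgroup.mem_centralizer_iff]
    intro y hy
    rw [Set.mem_singleton_iff.1 hy, omega']
    have := mem_cent_iff.1 x.2
    calc hEl * omega * hEl⁻¹ * (hEl * x.1 * hEl⁻¹) = hEl * (omega * x.1) * hEl⁻¹ := by group
      _ = hEl * (x.1 * omega) * hEl⁻¹ := by rw [this]
      _ = _ := by group
  · intro a b e
    exact Subtype.ext (mul_left_cancel (mul_right_cancel (Subtype.mk.inj e)))

/-- The section is the whole Suzuki group. -/
theorem phi_bijective : Function.Bijective phi := by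
  have := co0_finite
  have := finite_Suz
  have hq : Nat.card (cent ⧸ scal) ≤ Nat.card Spor.Suz := by
    have h := Subgroup.card_eq_card_quotient_mul_card_subgroup scal
    rw [show Nat.card scal = 6 from (Nat.card_zpowers unit).trans orderOf_unit] at h
    have := card_cent_le
    rw [natCard_Suz]
    omega
  exact phi_injective.bijective_of_nat_card_le hq

/-- The Suzuki group as the section. -/
def suzEquiv : Spor.Suz ≃* cent ⧸ scal := MulEquiv.ofBijective phi phi_bijective

end CfsgLib.SuzCoZero
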