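import Cfsg.Agent.Lib.SuzCo0.BoundData
import Cfsg.Agent.Lib.Schur.MultiplierSuzLift
import Cfsg.Agent.Lib.Schur.MatFThree

/-! The test of one node of the table of conjugates. -/

set_option autoImplicit false

noncomputable section

namespace CfsgLib.SuzCoZero

open CfsgLib.Sporadic CfsgLib.Schur.MatFThree CfsgLib.Schur.MultiplierSuz

/-- The tree check at an index. -/
def nodeOK (t : ℕ) : Bool :=
  (keyF3 24 (nodeT.get t) == nodeT.get t) &&
    bif t == 0 then keyF3 24 (mulF3 24 (mulF3 24 codeH (liftT.get omegaI)) codeHi) == nodeT.get 0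
    else CfsgLib.Schur.MatFThree.forceN (parT.get t) fun a =>
      Nat.blt (a % 1024) t && Nat.blt (a / 1024) 8 &&
        keyF3 24 (mulF3 24 (mulF3 24 (genT.get (a / 1024)) (nodeT.get (a % 1024))) (genIT.get (a / 1024))) ==
          nodeT.get t

end CfsgLib.SuzCoZero
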