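import Cfsg.Agent.Lib.SuzCo0.Words
import Cfsg.Agent.Lib.ThreeTrans.MinusSix
import Cfsg.Agent.Lib.ClassicalGroups.OrthCard
import Cfsg.Agent.Lib.Components.FStar
import Cfsg.Agent.Lib.PGroup.Frattini
import Cfsg.Prelude.Def_Local
import Cfsg.Prelude.Def_Transfer

/-!
The centraliser of the letter in the presented Suzuki group: an extraspecial group of order 2^7
with quotient the commutator subgroup of the orthogonal group of minus type in dimension six.
-/

set_option autoImplicit false
set_option maxRecDepth 100000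
set_option Elab.async false

noncomputable section

namespace CfsgLib.SuzCoZero

open Cfsg CfsgLib.Presented
open CfsgLib.Presented.SuzCosets (ev)
open scoped Matrix

/-- The coordinates. -/
abbrev Six := (Fin 2 ⊕ Fin 2) ⊕ Fin 2

/-- The form. -/
abbrev QF : (Six → ZMod 2) → ZMod 2 := Cfsg.quadFormMinus 2 (ZMod 2) 1 1

/-- The orthogonal group. -/
abbrev OSix := Cfsg.isometryGroup (ZMod 2) QF

/-- The position of a coordinate. -/
def posI : Six → ℕ
  | .inl (.inl i) => i.val
  | .inl (.inr i) => 2 + i.val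
  | .inr i => 4 + i.val

/-- The coordinate at a position. -/
def ofPos : ℕ → Six
  | 0 => .inl (.inl 0)
  | 1 => .inl (.inl 1)
  | 2 => .inl (.inr 0)
  | 3 => .inl (.inr 1)
  | 4 => .inr 0
  | _ => .inr 1

theorem posI_lt : ∀ i : Six, posI i < 6 := by decide +kernel

theorem ofPos_posI : ∀ i : Six, ofPos (posI i) = i := by decide +kernel

theorem posI_ofPos : ∀ k < 6, posI (ofPos k) = k := by decide +kernel

/-- The vector of a code. -/
def bitsM (n : ℕ) : Six → ZMod 2 := fun i => if n.testBit (posI i) then 1 else 0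

/-- The code of a vector. -/
def codeV (v : Six → ZMod 2) : ℕ :=
  ((List.range 6).map fun k => (v (ofPos k)).val * 2 ^ k).sum

theorem code_spec : ∀ v : Six → ZMod 2, codeV v < 64 ∧ bitsM (codeV v) = v := by decide +kernel

/-- A basis word. -/
def qW (k : ℕ) : List ℕ := qWords.getD k []

/-- The word of a code. -/
def wordUpto (k n : ℕ) : List ℕ :=
  (List.range k).flatMap fun i => bif n.testBit i then qW i else []

/-- The word of a code. -/
def wordV (n : ℕ) : List ℕ := wordUpto 6 n

/-- The word commutes with the involution. -/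
def comW (w : List ℕ) : Bool := eqW (w ++ [0]) (0 :: w)

/-- Equal up to the involution. -/
def modEq (u v : List ℕ) : Bool := eqW u v || eqW u (0 :: v)

theorem mem_cz {w : List ℕ} (h : comW w = true) : evW ev w ∈ cz := by
  rw [Subgroup.mem_centralizer_iff]
  intro y hy
  rw [Set.mem_singleton_iff.1 hy]
  have := eqW_spec h
  rw [evW_append, evW_cons ev 0 w] at this
  simpa [zEl] using this.symm

theorem zEl_mem : zEl ∈ cz := by
  rw [Subgroup.mem_centralizer_iff]
  intro y hy
  rw [Set.mem_singleton_iff.1 hy]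

/-- The involution in its centraliser. -/
def zC : cz := ⟨zEl, zEl_mem⟩

theorem zC_central (c : cz) : c * zC = zC * c :=
  Subtype.ext (Subgroup.mem_centralizer_iff.1 c.2 zEl rfl).symm

/-- The group of order two. -/
def zc : Subgroup cz := Subgroup.zpowers zC

instance zc_normal : zc.Normal := by
  refine ⟨fun n hn g => ?_⟩
  obtain ⟨k, rfl⟩ := Subgroup.mem_zpowers_iff.1 hn
  rw [((show Commute zC g from (zC_central g).symm).zpow_left k).symm.eq, mul_inv_cancel_right]
  exact Subgroup.zpow_mem_zpowers _ _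

theorem orderOf_zC : orderOf zC = 2 :=
  orderOf_eq_prime (Subtype.ext (by rw [pow_two]; exact z_sq)) fun e => z_ne (congrArg Subtype.val e)

theorem card_zc : Nat.card zc = 2 := (Nat.card_zpowers zC).trans orderOf_zC

theorem zc_cases {x : cz} (hx : x ∈ zc) : x = 1 ∨ x = zC := by
  have := finite_suz
  classical
  rw [zc, mem_zpowers_iff_mem_range_orderOf, orderOf_zC] at hx
  obtain ⟨k, hk, rfl⟩ := Finset.mem_image.1 hx
  rw [Finset.mem_range] at hk
  interval_cases k
  · exact Or.inl (pow_zero _)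
  · exact Or.inr (pow_one _)

/-- The quotient by the involution. -/
abbrev Bq := cz ⧸ zc

/-- The class of a word. -/
def prW (w : List ℕ) : Bq :=
  open Classical in if h : evW ev w ∈ cz then QuotientGroup.mk' zc ⟨_, h⟩ else 1

theorem prW_eq {w : List ℕ} (h : evW ev w ∈ cz) : prW w = QuotientGroup.mk' zc ⟨_, h⟩ := dif_pos h

theorem mem_append {u v : List ℕ} (hu : evW ev u ∈ cz) (hv : evW ev v ∈ cz) : evW ev (u ++ v) ∈ cz := by
  rw [evW_append]; exact mul_mem hu hv

theorem prW_append {u v : List ℕ} (hu : evW ev u ∈ cz) (hv : evW ev v ∈ cz) :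
    prW (u ++ v) = prW u * prW v := by
  rw [prW_eq (mem_append hu hv), prW_eq hu, prW_eq hv, ← map_mul]
  exact congrArg _ (Subtype.ext (evW_append ev u v))

theorem prW_nil : prW [] = 1 := by
  rw [prW_eq (show evW ev [] ∈ cz by simp)]
  exact map_one (QuotientGroup.mk' zc)

theorem prW_mod {u v : List ℕ} (hu : evW ev u ∈ cz) (hv : evW ev v ∈ cz) (h : modEq u v = true) :
    prW u = prW v := by
  rw [prW_eq hu, prW_eq hv]
  rw [modEq, Bool.or_eq_true] at h
  rcases h with h | h
  · exact congrArg _ (Subtype.ext (eqW_spec h))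
  · have e : (⟨_, hu⟩ : cz) = zC * ⟨_, hv⟩ := by
      refine Subtype.ext ((eqW_spec h).trans ?_)
      simp [zC, zEl]
    have hz : QuotientGroup.mk' zc zC = 1 :=
      (QuotientGroup.eq_one_iff (N := zc) zC).2 (Subgroup.mem_zpowers _)
    rw [e, map_mul, hz, one_mul]

/-- The basis checks. -/
def basisOK : Bool :=
  (List.range 6).all fun i => comW (qW i) && modEq (qW i ++ qW i) [] &&
    (List.range 6).all fun j => Nat.ble j i || modEq (qW i ++ qW j) (qW j ++ qW i)

theorem basis_ok : basisOK = true := by decide +kernel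

theorem q_mem {k : ℕ} (hk : k < 6) : evW ev (qW k) ∈ cz := by
  have h := basis_ok
  simp only [basisOK, List.all_eq_true, List.mem_range, Bool.and_eq_true] at h
  exact mem_cz (h k hk).1.1

/-- The class of a basis element. -/
def qB (i : Six) : Bq := prW (qW (posI i))

theorem qB_sq (i : Six) : qB i * qB i = 1 := by
  have h := basis_ok
  simp only [basisOK, List.all_eq_true, List.mem_range, Bool.and_eq_true] at h
  have hm := q_mem (posI_lt i)
  rw [qB, ← prW_append hm hm, prW_mod (mem_append hm hm) (by simp) (h _ (posI_lt i)).1.2, prW_nil]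

theorem qB_comm (i j : Six) : Commute (qB i) (qB j) := by
  have h := basis_ok
  simp only [basisOK, List.all_eq_true, List.mem_range, Bool.and_eq_true, Bool.or_eq_true, Nat.ble_eq] at h
  have hi := q_mem (posI_lt i)
  have hj := q_mem (posI_lt j)
  rcases Nat.lt_trichotomy (posI i) (posI j) with hlt | he | hlt
  · have h' := ((h _ (posI_lt i)).2 _ (posI_lt j)).resolve_left (by omega)
    show qB i * qB j = qB j * qB i
    rw [qB, qB, ← prW_append hi hj, ← prW_append hj hi,
      prW_mod (mem_append hi hj) (mem_append hj hi) h']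
  · rw [← ofPos_posI i, he, ofPos_posI]
  · have h' := ((h _ (posI_lt j)).2 _ (posI_lt i)).resolve_left (by omega)
    show qB i * qB j = qB j * qB i
    rw [qB, qB, ← prW_append hi hj, ← prW_append hj hi,
      prW_mod (mem_append hj hi) (mem_append hi hj) h']

theorem z2_cases : ∀ a : ZMod 2, a = 0 ∨ a = 1 := by decide

/-- One coordinate. -/
def fPow (i : Six) : Multiplicative (ZMod 2) →* Bq where
  toFun x := qB i ^ (Multiplicative.toAdd x).val
  map_one' := by simp
  map_mul' x y := by
    rw [toAdd_mul]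
    rcases z2_cases (Multiplicative.toAdd x) with a | a <;>
      rcases z2_cases (Multiplicative.toAdd y) with b | b <;> rw [a, b]
    · simp
    · simp
    · simp
    · rw [show (1 + 1 : ZMod 2).val = 0 from rfl, show (1 : ZMod 2).val = 1 from rfl, pow_zero, pow_one,
        qB_sq]

theorem fPow_comm : Pairwise fun i j => ∀ x y, Commute (fPow i x) (fPow j y) :=
  fun i j _ _ _ => (qB_comm i j).pow_pow _ _

/-- The coordinates. -/
def fHom : (Six → Multiplicative (ZMod 2)) →* Bq :=
  MonoidHom.noncommPiCoprod fPow fPow_comm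

/-- The class of a vector. -/
def fV (v : Six → ZMod 2) : Bq := fHom fun i => Multiplicative.ofAdd (v i)

theorem fV_add (v w : Six → ZMod 2) : fV (v + w) = fV v * fV w := by
  rw [fV, fV, fV, ← map_mul]; rfl

theorem fV_zero : fV 0 = 1 := map_one fHom

theorem fV_comm (v w : Six → ZMod 2) : fV v * fV w = fV w * fV v := by rw [← fV_add, ← fV_add, add_comm]

theorem fHom_single (i : Six) : fHom (Pi.mulSingle i (Multiplicative.ofAdd 1)) = qB i := by
  rw [fHom, MonoidHom.noncommPiCoprod_mulSingle]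
  exact pow_one _

theorem fV_single (i : Six) : fV (Pi.single i 1) = qB i := by
  rw [← fHom_single, fV]
  congr 1

/-- The vector of the low bits. -/
def bitsUpto (k n : ℕ) : Six → ZMod 2 := fun i => if posI i < k ∧ n.testBit (posI i) then 1 else 0

theorem bitsUpto_succ {k : ℕ} (hk : k < 6) (n : ℕ) :
    bitsUpto (k + 1) n = bitsUpto k n + if n.testBit k then Pi.single (ofPos k) 1 else 0 := by
  funext i
  have hp : posI i = k ↔ i = ofPos k :=
    ⟨fun e => by rw [← e, ofPos_posI], fun e => by rw [e, posI_ofPos k hk]⟩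
  by_cases hi : i = ofPos k
  · subst hi
    rw [Pi.add_apply, bitsUpto, bitsUpto, posI_ofPos k hk]
    cases n.testBit k <;> simp
  · have hne : posI i ≠ k := fun e => hi (hp.1 e)
    have h1 : (posI i < k + 1 ∧ n.testBit (posI i) = true) ↔ (posI i < k ∧ n.testBit (posI i) = true) := by
      constructor <;> rintro ⟨a, b⟩ <;> exact ⟨by omega, b⟩
    rw [Pi.add_apply, bitsUpto, bitsUpto, if_congr h1 rfl rfl]
    cases n.testBit k <;> simp [hi]

theorem fV_upto (n : ℕ) : ∀ k ≤ 6, evW ev (wordUpto k n) ∈ cz ∧ fV (bitsUpto k n) = prW (wordUpto k n) := by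
  intro k
  induction k with
  | zero =>
    intro _
    refine ⟨by simp [wordUpto], ?_⟩
    rw [show wordUpto 0 n = [] from rfl, prW_nil, ← fV_zero]
    exact congrArg fV (funext fun i => by simp [bitsUpto])
  | succ k ih =>
    intro hk
    obtain ⟨hm, he⟩ := ih (by omega)
    have hw : wordUpto (k + 1) n = wordUpto k n ++ bif n.testBit k then qW k else [] := by
      simp [wordUpto, List.range_succ]
    have hm' : evW ev (bif n.testBit k then qW k else []) ∈ cz := by
      cases n.testBit k
      · simp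
      · exact q_mem (by omega)
    refine ⟨hw ▸ mem_append hm hm', ?_⟩
    rw [bitsUpto_succ (by omega), fV_add, hw, prW_append hm hm', he]
    congr 1
    cases n.testBit k
    · simp [fV_zero, prW_nil]
    · simp only [if_true, cond_true, fV_single, qB, posI_ofPos k (by omega)]

theorem wordV_mem (n : ℕ) : evW ev (wordV n) ∈ cz := (fV_upto n 6 le_rfl).1

theorem fV_word (n : ℕ) : fV (bitsM n) = prW (wordV n) := by
  rw [wordV, ← (fV_upto n 6 le_rfl).2]
  congr 1
  funext i
  simp [bitsM, bitsUpto, posI_lt i]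

/-- No non-zero vector commutes with the whole basis. -/
def nondegOK : Bool :=
  (List.range 64).all fun n => Nat.beq n 0 ||
    (List.range 6).any fun j => neW (wordV n ++ qW j) (qW j ++ wordV n)

theorem nondeg_ok : nondegOK = true := by decide +kernel

/-- A lift of a non-zero vector is not central. -/
theorem not_central {v : Six → ZMod 2} (hv : v ≠ 0) {x : cz} (hx : QuotientGroup.mk' zc x = fV v) :
    ∃ j : Six, ¬ Commute x ⟨_, q_mem (posI_lt j)⟩ := by
  obtain ⟨hn, hb⟩ := code_spec v
  have h := nondeg_ok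
  simp only [nondegOK, List.all_eq_true, List.mem_range, Bool.or_eq_true, List.any_eq_true] at h
  rcases h _ hn with h0 | ⟨j, hj, hne⟩
  · exfalso
    refine hv ?_
    rw [← hb, Nat.eq_of_beq_eq_true h0]
    funext i
    simp [bitsM]
  refine ⟨ofPos j, fun hc => neW_spec hne ?_⟩
  rw [← hb, fV_word, prW_eq (wordV_mem _)] at hx
  have hz : x⁻¹ * ⟨_, wordV_mem (codeV v)⟩ ∈ zc := QuotientGroup.eq.1 hx
  set y : cz := ⟨_, wordV_mem (codeV v)⟩
  set q : cz := ⟨_, q_mem (posI_lt (ofPos j))⟩
  have hcy : Commute y q := by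
    rw [show y = x * (x⁻¹ * y) by group]
    refine Commute.mul_left hc ?_
    rcases zc_cases hz with e | e <;> rw [e]
    · exact Commute.one_left q
    · exact (zC_central q).symm
  have e := congrArg Subtype.val hcy.eq
  simp only [y, q, Subgroup.coe_mul] at e
  rw [evW_append, evW_append]
  simpa only [posI_ofPos j hj] using e

theorem fV_injective : Function.Injective fV := by
  intro v w e
  by_contra hne
  have hd : v + w ≠ 0 := fun h => hne (by
    have := congrArg (· + w) h
    simpa [add_assoc, CharTwo.add_self_eq_zero, show w + w = 0 from funext fun i => CharTwo.add_self_eq_zero _] using this)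
  have h1 : fV (v + w) = 1 := by
    rw [fV_add, e, ← fV_add, show w + w = 0 from funext fun i => CharTwo.add_self_eq_zero _, fV_zero]
  obtain ⟨j, hj⟩ := not_central hd (x := 1) (by rw [map_one, h1])
  exact hj (Commute.one_left _)

/-- The extraspecial subgroup. -/
def qSub : Subgroup cz := fHom.range.comap (QuotientGroup.mk' zc)

theorem mem_qSub {x : cz} : x ∈ qSub ↔ ∃ v, fV v = QuotientGroup.mk' zc x := by
  rw [qSub, Subgroup.mem_comap, MonoidHom.mem_range]
  constructor
  · rintro ⟨y, hy⟩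
    exact ⟨fun i => Multiplicative.toAdd (y i), hy⟩
  · rintro ⟨v, hv⟩
    exact ⟨_, hv⟩

theorem zc_le : zc ≤ qSub := fun x hx => mem_qSub.2 ⟨0, by
  rw [fV_zero, QuotientGroup.mk'_apply, (QuotientGroup.eq_one_iff x).2 hx]⟩

theorem qj_mem (j : Six) : (⟨_, q_mem (posI_lt j)⟩ : cz) ∈ qSub :=
  mem_qSub.2 ⟨Pi.single j 1, by rw [fV_single, qB, prW_eq (q_mem (posI_lt j))]⟩

theorem card_qSub : Nat.card qSub = 128 := by
  have := finite_suz
  have hinj : Function.Injective fHom := fun a b e => by
    have h := fV_injective (a₁ := fun i => Multiplicative.toAdd (a i)) (a₂ := fun i => Multiplicative.toAdd (b i)) e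
    funext i
    exact congrFun h i
  have hr : Nat.card fHom.range = 64 := by
    rw [← Nat.card_congr (MonoidHom.ofInjective hinj).toEquiv, Nat.card_pi]
    simp [Fintype.card_sum]
  have h1 := qSub.card_mul_index
  have h2 := fHom.range.card_mul_index
  rw [qSub, Subgroup.index_comap_of_surjective _ (QuotientGroup.mk'_surjective zc)] at h1
  rw [hr] at h2
  have h3 := Subgroup.card_eq_card_quotient_mul_card_subgroup zc
  rw [card_zc] at h3
  have hpos : 0 < fHom.range.index := Nat.pos_of_ne_zero Subgroup.index_ne_zero_of_finite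
  refine Nat.eq_of_mul_eq_mul_right hpos ?_
  rw [qSub, h1, h3, show Nat.card (cz ⧸ zc) = 64 * fHom.range.index from h2.symm]
  ring

theorem isExtraspecial_qSub : Cfsg.IsExtraspecial 2 qSub := by
  have := finite_suz
  have : Fact (Nat.Prime 2) := ⟨Nat.prime_two⟩
  have hp : IsPGroup 2 qSub := IsPGroup.of_card (n := 7) (by rw [card_qSub]; norm_num)
  have hcen : ∀ x : qSub, x ∈ Subgroup.center qSub ↔ (x : cz) ∈ zc := by
    intro x
    constructor
    · intro hx
      obtain ⟨v, hv⟩ := mem_qSub.1 x.2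
      by_cases h0 : v = 0
      · rw [h0, fV_zero] at hv
        exact (QuotientGroup.eq_one_iff (x : cz)).1 hv.symm
      · obtain ⟨j, hj⟩ := not_central h0 hv.symm
        exact absurd (congrArg Subtype.val (Subgroup.mem_center_iff.1 hx ⟨_, qj_mem j⟩)).symm hj
    · intro hx
      rw [Subgroup.mem_center_iff]
      intro y
      refine Subtype.ext ?_
      rcases zc_cases hx with e | e <;> rw [Subgroup.coe_mul, Subgroup.coe_mul, e]
      · rw [one_mul, mul_one]
      · exact zC_central _
  have hcard : Nat.card (Subgroup.center qSub) = 2 := by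
    rw [← card_zc]
    exact Nat.card_congr ⟨fun x => ⟨x.1.1, (hcen _).1 x.2⟩, fun x => ⟨⟨x.1, zc_le x.2⟩, (hcen _).2 x.2⟩,
      fun _ => rfl, fun _ => rfl⟩
  have hcomm_le : commutator qSub ≤ Subgroup.center qSub := by
    rw [commutator_def, Subgroup.commutator_le]
    intro a _ b _
    rw [hcen]
    obtain ⟨v, hv⟩ := mem_qSub.1 a.2
    obtain ⟨w, hw⟩ := mem_qSub.1 b.2
    rw [← QuotientGroup.eq_one_iff, commutatorElement_def]
    show QuotientGroup.mk' zc ((a : cz) * b * (a : cz)⁻¹ * (b : cz)⁻¹) = 1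
    rw [map_mul, map_mul, map_mul, map_inv, map_inv, ← hv, ← hw, fV_comm v w]
    group
  have hcomm : commutator qSub = Subgroup.center qSub := by
    refine Subgroup.eq_of_le_of_card_ge hcomm_le ?_
    rw [hcard]
    refine Subgroup.one_lt_card_iff_ne_bot _ |>.2 fun hb => ?_
    obtain ⟨j, hj⟩ := not_central (v := Pi.single (ofPos 0) 1)
      (fun e => by have := congrFun e (ofPos 0); simp at this)
      (x := ⟨_, q_mem (posI_lt (ofPos 0))⟩) (by rw [fV_single, qB, prW_eq (q_mem (posI_lt _))])
    refine hj ?_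
    have hm := Subgroup.commutator_mem_commutator (Subgroup.mem_top (⟨_, qj_mem (ofPos 0)⟩ : qSub))
      (Subgroup.mem_top (⟨_, qj_mem j⟩ : qSub))
    rw [← commutator_def, hb, Subgroup.mem_bot, commutatorElement_eq_one_iff_mul_comm] at hm
    exact congrArg Subtype.val hm
  refine ⟨⟨hp, le_antisymm ?_ ?_, hcomm⟩, hcard⟩
  · refine CfsgLib.PGroup.frattini_le_of (p := 2) _ hcomm_le fun x => ?_
    rw [hcen]
    obtain ⟨v, hv⟩ := mem_qSub.1 x.2
    rw [← QuotientGroup.eq_one_iff, Subgroup.coe_pow, QuotientGroup.mk_pow, ← QuotientGroup.mk'_apply, ← hv,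
      pow_two, ← fV_add, show v + v = 0 from funext fun i => CharTwo.add_self_eq_zero _, fV_zero]
  · exact hcomm.ge.trans (CfsgLib.PGroup.commutator_le_frattini hp)

/-- Conjugation follows an isometry. -/
def Tw (c : cz) (g : OSix) : Prop :=
  ∀ v, QuotientGroup.mk' zc c * fV v * (QuotientGroup.mk' zc c)⁻¹ = fV (g.1.1 *ᵥ v)

theorem conj_mul (p x y : Bq) : p * (x * y) * p⁻¹ = p * x * p⁻¹ * (p * y * p⁻¹) := by group

theorem tw_one : Tw 1 1 := fun v => by simp

theorem tw_mul {c c' : cz} {g g' : OSix} (h : Tw c g) (h' : Tw c' g') : Tw (c * c') (g * g') := by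
  intro v
  rw [map_mul, mul_inv_rev,
    show QuotientGroup.mk' zc c * QuotientGroup.mk' zc c' * fV v *
      ((QuotientGroup.mk' zc c')⁻¹ * (QuotientGroup.mk' zc c)⁻¹) =
      QuotientGroup.mk' zc c * (QuotientGroup.mk' zc c' * fV v * (QuotientGroup.mk' zc c')⁻¹) *
        (QuotientGroup.mk' zc c)⁻¹ by group, h' v, h]
  congr 1
  rw [Matrix.mulVec_mulVec]
  rfl

theorem tw_inv {c : cz} {g : OSix} (h : Tw c g) : Tw c⁻¹ g⁻¹ := by
  intro v
  have hv : g.1.1 *ᵥ (g⁻¹ : OSix).1.1 *ᵥ v = v := by
    rw [Matrix.mulVec_mulVec, ← Units.val_mul, ← Subgroup.coe_mul, mul_inv_cancel]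
    simp
  have := h ((g⁻¹ : OSix).1.1 *ᵥ v)
  rw [hv] at this
  rw [map_inv, inv_inv, ← this]
  group

theorem tw_unique {c : cz} {g g' : OSix} (h : Tw c g) (h' : Tw c g') : g = g' := by
  refine Subtype.ext (Units.ext ?_)
  refine Matrix.ext_of_mulVec_single fun i => ?_
  exact fV_injective ((h _).symm.trans (h' _))

theorem tw_qSub {x : cz} (hx : x ∈ qSub) : Tw x 1 := by
  obtain ⟨w, hw⟩ := mem_qSub.1 hx
  intro v
  rw [← hw, fV_comm w v, mul_inv_cancel_right]
  simp

/-- Two maps turning sums into products agree when they agree on the basis. -/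
theorem ext_single {f g : (Six → ZMod 2) → Bq} (hf : ∀ v w, f (v + w) = f v * f w)
    (hg : ∀ v w, g (v + w) = g v * g w) (h : ∀ i, f (Pi.single i 1) = g (Pi.single i 1)) :
    ∀ v, f v = g v := by
  have hf0 : f 0 = 1 := by have := hf 0 0; rwa [add_zero, left_eq_mul] at this
  have hg0 : g 0 = 1 := by have := hg 0 0; rwa [add_zero, left_eq_mul] at this
  have key : ∀ n, ∀ k ≤ 6, f (bitsUpto k n) = g (bitsUpto k n) := by
    intro n k
    induction k with
    | zero =>
      intro _
      rw [show bitsUpto 0 n = 0 from funext fun i => by simp [bitsUpto], hf0, hg0]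
    | succ k ih =>
      intro hk
      rw [bitsUpto_succ (by omega), hf, hg, ih (by omega)]
      congr 1
      split
      · exact h _
      · rw [hf0, hg0]
  intro v
  obtain ⟨-, hb⟩ := code_spec v
  have e : bitsUpto 6 (codeV v) = v := by
    conv_rhs => rw [← hb]
    funext i
    simp [bitsM, bitsUpto, posI_lt i]
  have := key (codeV v) 6 le_rfl
  rwa [e] at this

/-- The elements acting by isometries. -/
def sGrp : Subgroup cz where
  carrier := {c | ∃ g, Tw c g}
  one_mem' := ⟨1, tw_one⟩
  mul_mem' := fun {_ _} ⟨g, h⟩ ⟨g', h'⟩ => ⟨g * g', tw_mul h h'⟩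
  inv_mem' := fun {_} ⟨g, h⟩ => ⟨g⁻¹, tw_inv h⟩

/-- The isometry. -/
def thetaS : sGrp →* OSix where
  toFun c := c.2.choose
  map_one' := tw_unique (1 : sGrp).2.choose_spec tw_one
  map_mul' a b := tw_unique (a * b).2.choose_spec (tw_mul a.2.choose_spec b.2.choose_spec)

/-- A matrix from columns. -/
def matOf (cols : List ℕ) : Matrix Six Six (ZMod 2) :=
  Matrix.of fun i j => bitsM (cols.getD (posI j) 0) i

/-- The generators are isometries. -/
theorem gens_iso_fin : ∀ k : Fin 4, matOf (cMats.getD k.val []) * matOf (cInvs.getD k.val []) = 1 ∧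
    matOf (cInvs.getD k.val []) * matOf (cMats.getD k.val []) = 1 ∧
    ∀ v, QF (matOf (cMats.getD k.val []) *ᵥ v) = QF v := by decide +kernel

theorem gens_iso (k : ℕ) (hk : k < 4) : matOf (cMats.getD k []) * matOf (cInvs.getD k []) = 1 ∧
    matOf (cInvs.getD k []) * matOf (cMats.getD k []) = 1 ∧
    ∀ v, QF (matOf (cMats.getD k []) *ᵥ v) = QF v := gens_iso_fin ⟨k, hk⟩

/-- A generator as an isometry. -/
def gO (k : ℕ) (hk : k < 4) : OSix :=
  ⟨⟨matOf (cMats.getD k []), matOf (cInvs.getD k []), (gens_iso k hk).1, (gens_iso k hk).2.1⟩,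
    fun u _ => (gens_iso k hk).2.2 u⟩

/-- The conjugation check. -/
def conjOK : Bool :=
  (List.range 4).all fun k => comW (cWords.getD k []) && comW (cWords.getD k []).reverse &&
    eqW (cWords.getD k [] ++ (cWords.getD k []).reverse) [] &&
    (List.range 6).all fun i =>
      modEq (cWords.getD k [] ++ qW i ++ (cWords.getD k []).reverse) (wordV ((cMats.getD k []).getD i 0))

theorem conj_ok : conjOK = true := by decide +kernel

theorem tw_gen {k : ℕ} (hk : k < 4) : ∃ c : cz, Tw c (gO k hk) := by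
  have h := conj_ok
  simp only [conjOK, List.all_eq_true, List.mem_range, Bool.and_eq_true] at h
  obtain ⟨⟨⟨h1, h2⟩, h3⟩, h4⟩ := h k hk
  set w := cWords.getD k []
  have hm := mem_cz h1
  have hm' := mem_cz h2
  refine ⟨⟨_, hm⟩, ?_⟩
  have hinv : (QuotientGroup.mk' zc ⟨_, hm⟩ : Bq)⁻¹ = prW w.reverse := by
    refine inv_eq_of_mul_eq_one_right ?_
    rw [← prW_eq hm, ← prW_append hm hm', prW_eq (mem_append hm hm')]
    rw [show (⟨_, mem_append hm hm'⟩ : cz) = 1 from Subtype.ext (by simpa using eqW_spec h3), map_one]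
  refine ext_single (fun v w => ?_) (fun v w => ?_) fun i => ?_
  · rw [fV_add, conj_mul]
  · rw [Matrix.mulVec_add, fV_add]
  have hcol : (gO k hk).1.1 *ᵥ Pi.single i (1 : ZMod 2) = bitsM ((cMats.getD k []).getD (posI i) 0) := by
    rw [Matrix.mulVec_single_one]
    rfl
  rw [hcol, fV_single, hinv, ← prW_eq hm, qB, ← prW_append hm (q_mem (posI_lt i)),
    ← prW_append (mem_append hm (q_mem (posI_lt i))) hm', fV_word]
  exact prW_mod (mem_append (mem_append hm (q_mem (posI_lt i))) hm') (wordV_mem _) (h4 _ (posI_lt i))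

/-- A listed matrix. -/
def chainMat (t : ℕ) : Matrix Six Six (ZMod 2) := matOf (chainMats.getD t [])

/-- How a listed matrix arises. -/
def reachedOK (t : ℕ) : Bool :=
  if t = 0 then decide (chainMat 0 = 1)
  else
    let a := chainSteps.getD t 0
    Nat.blt (a % 1024) t && Nat.blt (a / 1024) 4 &&
      decide (chainMat t = matOf (cMats.getD (a / 1024) []) * chainMat (a % 1024))

theorem reached_ok : (List.range 165).all reachedOK = true := by decide +kernel

/-- The checks of the levels. -/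
def levelsOK : List ℕ → List (ℕ × List ℕ) → Bool
  | _, [] => true
  | prev, (b, idx) :: rest =>
    idx.all (fun t => Nat.blt t 165 && prev.all fun p => decide (chainMat t *ᵥ bitsM p = bitsM p)) &&
      decide (idx.map fun t => codeV (chainMat t *ᵥ bitsM b)).Nodup && levelsOK (b :: prev) rest

theorem levels_ok : levelsOK [] chainLevels = true ∧
    (chainLevels.map fun l => l.2.length).prod = 25920 := by decide +kernel

/-- The elements fixing a vector. -/
def fixO (b : ℕ) : Subgroup OSix where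
  carrier := {x | x.1.1 *ᵥ bitsM b = bitsM b}
  one_mem' := by simp
  mul_mem' := fun {x y} hx hy => by
    show (x.1.1 * y.1.1) *ᵥ bitsM b = bitsM b
    rw [← Matrix.mulVec_mulVec, show y.1.1 *ᵥ bitsM b = bitsM b from hy]
    exact hx
  inv_mem' := fun {x} hx => by
    show (x⁻¹ : OSix).1.1 *ᵥ bitsM b = bitsM b
    conv_lhs => rw [← show x.1.1 *ᵥ bitsM b = bitsM b from hx]
    rw [Matrix.mulVec_mulVec, ← Units.val_mul, ← Subgroup.coe_mul, inv_mul_cancel]
    simp

theorem finite_OSix : Finite OSix :=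
  Finite.of_injective (fun x : OSix => x.1.1) fun _ _ e => Subtype.ext (Units.ext e)

theorem card_ge_of_levels : ∀ (ls : List (ℕ × List ℕ)) (prev : List ℕ) (K : Subgroup OSix),
    levelsOK prev ls = true →
    (∀ t < 165, (∀ p ∈ prev, chainMat t *ᵥ bitsM p = bitsM p) → ∃ x ∈ K, x.1.1 = chainMat t) →
    (ls.map fun l => l.2.length).prod ≤ Nat.card K := by
  have := finite_OSix
  intro ls
  induction ls with
  | nil => exact fun _ K _ _ => Nat.one_le_iff_ne_zero.2 Nat.card_pos.ne'
  | cons l rest ih =>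
    obtain ⟨b, idx⟩ := l
    intro prev K hok hK
    simp only [levelsOK, Bool.and_eq_true, List.all_eq_true, Nat.blt_eq, decide_eq_true_eq] at hok
    obtain ⟨⟨hidx, hnd⟩, hrest⟩ := hok
    have hrec := ih (b :: prev) (K ⊓ fixO b) hrest fun t ht hp => by
      obtain ⟨x, hx, e⟩ := hK t ht fun p hp' => hp p (List.mem_cons_of_mem _ hp')
      refine ⟨x, Subgroup.mem_inf.2 ⟨hx, ?_⟩, e⟩
      show x.1.1 *ᵥ bitsM b = bitsM b
      rw [e]
      exact hp b List.mem_cons_self
    have hex : ∀ i : Fin idx.length, ∃ x ∈ K, x.1.1 = chainMat idx[i] := fun i =>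
      hK _ (hidx _ (List.getElem_mem _)).1 (hidx _ (List.getElem_mem _)).2
    choose g hg he using hex
    have h := mul_card_le (K := K) (H := K ⊓ fixO b) inf_le_left g hg (fun x : OSix => x.1.1 *ᵥ bitsM b)
      (fun i x hx => by
        show ((g i).1.1 * x.1.1) *ᵥ bitsM b = _
        rw [← Matrix.mulVec_mulVec, show x.1.1 *ᵥ bitsM b = bitsM b from (Subgroup.mem_inf.1 hx).2])
      (fun i j e => Fin.ext ((List.Nodup.getElem_inj_iff hnd (hi := by simp) (hj := by simp)).1 (by
        simp only [List.getElem_map]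
        exact congrArg codeV (by simpa [Function.comp, he] using e))))
    rw [List.map_cons, List.prod_cons]
    exact (Nat.mul_le_mul le_rfl hrec).trans h

theorem card_range_ge : 25920 ≤ Nat.card thetaS.range := by
  have hr := reached_ok
  simp only [List.all_eq_true, List.mem_range] at hr
  rw [← levels_ok.2]
  refine card_ge_of_levels _ [] _ levels_ok.1 fun t ht _ => ?_
  induction t using Nat.strong_induction_on with
  | _ t ih =>
    have h := hr t ht
    rw [reachedOK] at h
    by_cases h0 : t = 0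
    · subst h0
      rw [if_pos rfl, decide_eq_true_eq] at h
      exact ⟨1, one_mem _, h.symm⟩
    · rw [if_neg h0] at h
      simp only [Bool.and_eq_true, Nat.blt_eq, decide_eq_true_eq] at h
      obtain ⟨⟨hlt, hk⟩, he⟩ := h
      obtain ⟨x, hx, ex⟩ := ih _ hlt (by omega) (by simp)
      obtain ⟨c, hc⟩ := tw_gen hk
      refine ⟨gO _ hk * x, mul_mem ⟨⟨c, _, hc⟩, tw_unique (⟨c, _, hc⟩ : sGrp).2.choose_spec hc⟩ hx, ?_⟩
      rw [he, ← ex]
      rfl

theorem qSub_le_sGrp : qSub ≤ sGrp := fun _ hx => ⟨1, tw_qSub hx⟩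

theorem counts : sGrp = ⊤ ∧ thetaS.ker = qSub.subgroupOf sGrp ∧ Nat.card thetaS.range = 25920 := by
  have := finite_suz
  have hker : qSub.subgroupOf sGrp ≤ thetaS.ker := fun x hx =>
    MonoidHom.mem_ker.2 (tw_unique x.2.choose_spec (tw_qSub hx))
  have h128 : Nat.card (qSub.subgroupOf sGrp) = 128 :=
    (Nat.card_congr (Subgroup.subgroupOfEquivOfLe qSub_le_sGrp).toEquiv).trans card_qSub
  have hk : 128 ≤ Nat.card thetaS.ker := h128 ▸ Subgroup.card_le_of_le hker
  have hr := card_range_ge
  have hS := thetaS.ker.card_mul_index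
  rw [Subgroup.index_ker] at hS
  have hle : Nat.card sGrp ≤ 3317760 := (Subgroup.card_le_card_group sGrp).trans card_cz_le
  have hc := card_cz_le
  have hm : 128 * 25920 ≤ Nat.card thetaS.ker * Nat.card thetaS.range := Nat.mul_le_mul hk hr
  have hk' : Nat.card thetaS.ker = 128 := by nlinarith
  refine ⟨Subgroup.eq_top_of_le_card _ (by omega), (Subgroup.eq_of_le_of_card_ge hker (by omega)).symm, ?_⟩
  rw [hk'] at hS
  omega

/-- The action on the quotient of the extraspecial group. -/
def theta : cz →* OSix :=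
  thetaS.comp ((MonoidHom.id cz).codRestrict sGrp fun x => counts.1 ▸ Subgroup.mem_top x)

theorem theta_tw (x : cz) : Tw x (theta x) := (⟨x, counts.1 ▸ Subgroup.mem_top x⟩ : sGrp).2.choose_spec

theorem theta_ker : theta.ker = qSub := by
  ext x
  have h : (⟨x, counts.1 ▸ Subgroup.mem_top x⟩ : sGrp) ∈ thetaS.ker ↔ x ∈ qSub := by
    exact (SetLike.ext_iff.1 counts.2.1 _).trans Subgroup.mem_subgroupOf
  exact h

theorem theta_range : theta.range = thetaS.range := by
  ext g
  constructor
  · rintro ⟨x, rfl⟩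
    exact ⟨_, rfl⟩
  · rintro ⟨x, rfl⟩
    exact ⟨x.1, rfl⟩

theorem aniso_two : ∀ z₁ z₂ : ZMod 2, z₁ ^ 2 + 1 * z₁ * z₂ + 1 * z₂ ^ 2 = 0 → z₁ = 0 ∧ z₂ = 0 := by decide

theorem card_OSix : Nat.card OSix = 51840 := by
  have h := CfsgLib.ClassicalGroups.card_isometry_minus aniso_two 2
  rw [ZMod.card] at h
  exact h.trans (by decide)

theorem card_omegaSix : Nat.card (Cfsg.Omega (ZMod 2) QF) = 25920 := by
  classical
  show Nat.card (Cfsg.Omega (ZMod 2) (Cfsg.quadFormMinus 2 (ZMod 2) 1 1)) = _
  rw [← CfsgLib.Orth.minusQ_coe]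
  have hQ := CfsgLib.POmega.minusQ_nondegenerate_any (m := 2) aniso_two
  have hi : (commutator (CfsgLib.Orth.O (CfsgLib.Orth.minusQ 2 (ZMod 2) 1 1))).index = 2 :=
    CfsgLib.Orth.index_commutator_char_two hQ
      (Cfsg.Agent.InvolForm57.minus_gen 2 aniso_two) (by simp)
  have hO : Nat.card (CfsgLib.Orth.O (CfsgLib.Orth.minusQ 2 (ZMod 2) 1 1)) = 51840 := by
    have h := card_OSix
    change Nat.card (Cfsg.isometryGroup (ZMod 2) (Cfsg.quadFormMinus 2 (ZMod 2) 1 1)) = _ at h
    rwa [← CfsgLib.Orth.minusQ_coe] at h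
  have h := (commutator (CfsgLib.Orth.O (CfsgLib.Orth.minusQ 2 (ZMod 2) 1 1))).card_mul_index
  rw [hi, hO] at h
  exact (show Nat.card (commutator (CfsgLib.Orth.O (CfsgLib.Orth.minusQ 2 (ZMod 2) 1 1))) = 25920 by omega)

theorem range_eq : theta.range = Cfsg.Omega (ZMod 2) QF := by
  have := finite_OSix
  rw [theta_range]
  have hi : thetaS.range.index = 2 := by
    have h := thetaS.range.card_mul_index
    rw [counts.2.2, card_OSix] at h
    omega
  have := Subgroup.normal_of_index_eq_two hi
  refine (Subgroup.eq_of_le_of_card_ge ?_ (by rw [counts.2.2, card_omegaSix])).symm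
  have : Fact (Nat.Prime 2) := ⟨Nat.prime_two⟩
  have : IsCyclic (OSix ⧸ thetaS.range) := isCyclic_of_prime_card (p := 2) hi
  show commutator OSix ≤ thetaS.range
  exact Subgroup.Normal.quotient_commutative_iff_commutator_le.1 IsCyclic.isMulCommutative

instance qSub_normal : qSub.Normal := theta_ker ▸ MonoidHom.normal_ker theta

/-- The quotient. -/
def quotEquiv : cz ⧸ qSub ≃* Cfsg.Omega (ZMod 2) QF :=
  (QuotientGroup.quotientMulEquivOfEq theta_ker.symm).trans
    ((QuotientGroup.quotientKerEquivRange theta).trans (MulEquiv.subgroupCongr range_eq))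

theorem omega_simple : IsSimpleGroup (Cfsg.Omega (ZMod 2) QF) := by
  classical
  let := Fintype.ofFinite (GaloisField 2 2)
  have hF : Fintype.card (GaloisField 2 2) = 2 ^ 2 := by
    rw [← Nat.card_eq_fintype_card, GaloisField.card 2 2 (by norm_num)]
  obtain ⟨e⟩ := Cfsg.Agent.S0303.result (K := GaloisField 2 2) (q := 2) (ZMod.card 2) hF (1 : ZMod 2) 1 aniso_two
  have := finite_OSix
  have hz : Subgroup.center (Cfsg.Omega (ZMod 2) QF) = ⊥ := by
    have h := Subgroup.card_eq_card_quotient_mul_card_subgroup (Subgroup.center (Cfsg.Omega (ZMod 2) QF))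
    rw [card_omegaSix, show Nat.card (Cfsg.Omega (ZMod 2) QF ⧸ Subgroup.center (Cfsg.Omega (ZMod 2) QF)) = 25920
      from (Nat.card_congr e.toEquiv).trans (CfsgLib.ThreeTrans.USix.card_psu_four hF)] at h
    exact Subgroup.card_eq_one.1 (by omega)
  have := CfsgLib.ClassicalGroups.psu_isSimpleGroup (n := 4) hF (by norm_num) (by norm_num)
  exact ((QuotientGroup.quotientBot.symm.trans (QuotientGroup.quotientMulEquivOfEq hz.symm)).trans e).isSimpleGroup

theorem fstar_qSub : Cfsg.generalizedFittingSubgroup cz = qSub := by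
  have := finite_suz
  have : Fact (Nat.Prime 2) := ⟨Nat.prime_two⟩
  have hQ : IsPGroup 2 qSub := IsPGroup.of_card (n := 7) (by rw [card_qSub]; norm_num)
  have hle : qSub ≤ Cfsg.pCore 2 cz := CfsgLib.PCore.le_pCore qSub_normal hQ
  have hsimple := omega_simple
  have hq : IsSimpleGroup (cz ⧸ qSub) := quotEquiv.isSimpleGroup
  have hcore : Cfsg.pCore 2 cz = qSub := by
    refine le_antisymm ?_ hle
    have hn : ((Cfsg.pCore 2 cz).map (QuotientGroup.mk' qSub)).Normal :=
      Subgroup.Normal.map inferInstance _ (QuotientGroup.mk'_surjective _)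
    rcases hn.eq_bot_or_eq_top with h | h
    · rw [Subgroup.map_eq_bot_iff, QuotientGroup.ker_mk'] at h
      exact h
    · exfalso
      have h2 := (CfsgLib.PCore.pCore_isPGroup (p := 2) (G := cz)).map (QuotientGroup.mk' qSub)
      rw [h] at h2
      obtain ⟨n, hn2⟩ := IsPGroup.iff_card.1 h2
      rw [Subgroup.card_top, Nat.card_congr quotEquiv.toEquiv, card_omegaSix] at hn2
      have h3 : (3 : ℕ) ∣ 2 ^ n := hn2 ▸ (by norm_num)
      exact absurd (Nat.prime_three.dvd_of_dvd_pow h3) (by norm_num)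
  rw [← hcore]
  refine CfsgLib.Components.generalizedFitting_eq_pCore_of_centralizer_le 2 ?_
  rw [hcore]
  intro x hx
  rw [← theta_ker, MonoidHom.mem_ker]
  refine tw_unique (theta_tw x) fun v => ?_
  obtain ⟨hn, hb⟩ := code_spec v
  have hy : (⟨_, wordV_mem (codeV v)⟩ : cz) ∈ qSub := mem_qSub.2 ⟨v, by rw [← prW_eq (wordV_mem _), ← fV_word, hb]⟩
  have e := congrArg (QuotientGroup.mk' zc) (Subgroup.mem_centralizer_iff.1 hx _ hy)
  rw [map_mul, map_mul, ← prW_eq (wordV_mem _), ← fV_word, hb] at e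
  rw [← e, mul_inv_cancel_right]
  simp

/-- The conjugate check. -/
def nwcOK : Bool :=
  eqW (nwcWord ++ nwcWord.reverse) [] && comW (nwcWord ++ [0] ++ nwcWord.reverse) &&
    modEq (nwcWord ++ [0] ++ nwcWord.reverse) (wordV nwcCode) &&
    neW (nwcWord ++ [0] ++ nwcWord.reverse) [0]

theorem nwc_ok : nwcOK = true := by decide +kernel

/-- The Suzuki-type hypothesis holds in the presented group. -/
theorem suz_hyp : ∃ z : Cfsg.Spor.Suz, orderOf z = 2 ∧
    ∃ (Q : Subgroup (Subgroup.centralizer ({z} : Set Cfsg.Spor.Suz))) (_ : Q.Normal),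
      Cfsg.generalizedFittingSubgroup (Subgroup.centralizer ({z} : Set Cfsg.Spor.Suz)) = Q ∧
      Cfsg.IsExtraspecial 2 Q ∧ Nat.card Q = 2 ^ 7 ∧
      Nonempty ((Subgroup.centralizer ({z} : Set Cfsg.Spor.Suz)) ⧸ Q ≃*
        Cfsg.Omega (ZMod 2) (Cfsg.quadFormMinus 2 (ZMod 2) 1 1)) ∧
      ∃ g : Cfsg.Spor.Suz, (∃ hq : g * z * g⁻¹ ∈ Subgroup.centralizer ({z} : Set Cfsg.Spor.Suz),
        (⟨g * z * g⁻¹, hq⟩ : Subgroup.centralizer ({z} : Set Cfsg.Spor.Suz)) ∈ Q) ∧ g * z * g⁻¹ ≠ z := by
  refine ⟨zEl, orderOf_eq_prime (by rw [pow_two]; exact z_sq) z_ne, qSub, qSub_normal, fstar_qSub,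
    isExtraspecial_qSub, card_qSub.trans (by norm_num), ⟨quotEquiv⟩, evW ev nwcWord, ?_⟩
  have h := nwc_ok
  simp only [nwcOK, Bool.and_eq_true] at h
  obtain ⟨⟨⟨h1, h2⟩, h3⟩, h4⟩ := h
  have he := eqW_spec h1
  rw [evW_append, evW_nil] at he
  have e : evW ev (nwcWord ++ [0] ++ nwcWord.reverse) = evW ev nwcWord * zEl * (evW ev nwcWord)⁻¹ := by
    rw [evW_append, evW_append, inv_eq_of_mul_eq_one_right he]
    rfl
  have hm := mem_cz h2
  refine ⟨⟨e ▸ hm, ?_⟩, fun e' => neW_spec h4 (e.trans e')⟩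
  rw [show (⟨_, e ▸ hm⟩ : cz) = ⟨_, hm⟩ from Subtype.ext e.symm]
  exact mem_qSub.2 ⟨bitsM nwcCode, by rw [fV_word, ← prW_eq hm, prW_mod hm (wordV_mem _) h3]⟩

end CfsgLib.SuzCoZero
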