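import Cfsg.Agent.Lib.SuzCo0.Bound
import Cfsg.Agent.Lib.SuzCo0.Section
import Cfsg.Agent.Lib.PGroup.Extraspecial

/-!
The section of the automorphism group of the lattice of Suzuki type.
-/

set_option autoImplicit false

noncomputable section

namespace CfsgLib.SuzCoZero

open Cfsg CfsgLib.Schur.ConwayModel CfsgLib.Schur.MultiplierSuz

theorem omega_pow : omega ^ 3 = 1 ∧ omega ≠ 1 := by
  have h : CfsgLib.Schur.MatFThree.keyF3 24 (CfsgLib.Schur.MatFThree.mulF3 24 (liftT.get omegaI)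
      (CfsgLib.Schur.MatFThree.mulF3 24 (liftT.get omegaI) (liftT.get omegaI))) =
        CfsgLib.Schur.MatFThree.keyF3 24 (CfsgLib.Schur.MatFThree.oneF3 24) ∧
      CfsgLib.Schur.MatFThree.keyF3 24 (liftT.get omegaI) ≠
        CfsgLib.Schur.MatFThree.keyF3 24 (CfsgLib.Schur.MatFThree.oneF3 24) := by decide +kernel
  refine ⟨mat_injective ?_, fun e => CfsgLib.Schur.MatFThree.key_ne h.2 ?_⟩
  · rw [mat_one, show omega ^ 3 = omega * (omega * omega) by rw [pow_succ', pow_two], mat_mul, mat_mul,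
      mat_omega, ← CfsgLib.Schur.MatFThree.decF3_mulF3, ← CfsgLib.Schur.MatFThree.decF3_mulF3,
      CfsgLib.Schur.MatFThree.decF3_eq_of_key h.1, CfsgLib.Schur.MatFThree.decF3_oneF3]
  · rw [← mat_omega, e, mat_one, CfsgLib.Schur.MatFThree.decF3_oneF3]

theorem orderOf_omega : orderOf omega = 3 :=
  have : Fact (Nat.Prime 3) := ⟨Nat.prime_three⟩
  orderOf_eq_prime omega_pow.1 omega_pow.2

theorem cent_eq : Subgroup.centralizer ((Subgroup.zpowers omega : Subgroup Co0) : Set Co0) = cent := by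
  rw [cent, ← Subgroup.centralizer_closure {omega}, Subgroup.zpowers_eq_closure]

/-- The element minus one. -/
def negOne : Co0 := omega⁻¹ * (unit : cent).1

theorem mat_negOne : mat negOne = -1 := by
  show mat (omega⁻¹ * at' unitI) = -1
  rw [mat_mul, mat_unit, mul_neg, ← mat_mul, inv_mul_cancel, mat_one]

theorem negOne_center : negOne ∈ Subgroup.center Co0 := by
  rw [Subgroup.mem_center_iff]
  intro g
  apply mat_injective
  rw [mat_mul, mat_mul, mat_negOne, mul_neg, neg_mul, mul_one, one_mul]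

theorem sup_eq : (Subgroup.zpowers omega ⊔ Subgroup.center Co0).subgroupOf cent = scal := by
  have := CfsgLib.Golay.co0_finite
  have hzc : ∀ z ∈ Subgroup.center Co0, z = 1 ∨ z = negOne := by
    intro z hz
    by_contra hne
    push Not at hne
    have h := CfsgLib.MonsterType.card_center_Co0
    have h3 : 3 ≤ Nat.card (Subgroup.center Co0) := by
      classical
      have hn : negOne ≠ 1 := fun e => by
        have h1 := congrArg mat e
        rw [mat_negOne, mat_one] at h1
        have := congrFun (congrFun h1 0) 0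
        simp at this
        exact absurd this (by decide)
      have := Fintype.ofFinite (Subgroup.center Co0)
      rw [Nat.card_eq_fintype_card]
      refine le_trans (le_of_eq ?_) (Finset.card_le_univ
        ({⟨1, one_mem _⟩, ⟨negOne, negOne_center⟩, ⟨z, hz⟩} : Finset (Subgroup.center Co0)))
      rw [Finset.card_insert_of_notMem, Finset.card_insert_of_notMem, Finset.card_singleton]
      · simp [Ne.symm hne.2]
      · simp [Ne.symm hn, Ne.symm hne.1]
    omega
  ext x
  rw [Subgroup.mem_subgroupOf]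
  constructor
  · intro hx
    rw [← SetLike.mem_coe, Subgroup.mul_normal (Subgroup.zpowers omega) (Subgroup.center Co0)] at hx
    obtain ⟨a, ha, z, hz, e⟩ := Set.mem_mul.1 hx
    have hom : omega ∈ cent := mem_cent_iff.2 rfl
    have hneg : negOne ∈ cent := mem_cent_iff.2 (Subgroup.mem_center_iff.1 negOne_center omega).symm
    have hn3 : (⟨negOne, hneg⟩ : cent) = unit ^ 3 ∧ (⟨omega, hom⟩ : cent) = unit ^ 4 := by
      have hu : unit = (⟨omega, hom⟩ : cent) * ⟨negOne, hneg⟩ := Subtype.ext (mul_inv_cancel_left _ _).symm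
      have hc : Commute (⟨omega, hom⟩ : cent) ⟨negOne, hneg⟩ :=
        Subtype.ext (Subgroup.mem_center_iff.1 negOne_center omega)
      have h2 : (⟨negOne, hneg⟩ : cent) ^ 2 = 1 := Subtype.ext (mat_injective (by
        rw [Subgroup.coe_pow, pow_two, mat_mul, mat_negOne, neg_mul_neg, one_mul]; exact mat_one.symm))
      have h3 : (⟨omega, hom⟩ : cent) ^ 3 = 1 := Subtype.ext omega_pow.1
      rw [hu, hc.mul_pow, hc.mul_pow, h3, one_mul, pow_succ _ 2, h2, one_mul, pow_succ _ 3, h3, one_mul,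
        show (4 : ℕ) = 2 + 2 from rfl, pow_add, h2, mul_one, mul_one]
      exact ⟨rfl, rfl⟩
    obtain ⟨k, rfl⟩ := Subgroup.mem_zpowers_iff.1 ha
    have hzmem : ∀ h : z ∈ cent, (⟨z, h⟩ : cent) ∈ scal := by
      intro h
      rcases hzc z hz with rfl | rfl
      · exact scal.one_mem
      · rw [hn3.1]; exact Subgroup.npow_mem_zpowers _ _
    have hzc' : z ∈ cent := mem_cent_iff.2 (Subgroup.mem_center_iff.1 hz omega).symm
    rw [show x = (⟨omega, hom⟩ : cent) ^ k * ⟨z, hzc'⟩ from Subtype.ext (by simpa using e.symm), hn3.2]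
    exact mul_mem (zpow_mem (Subgroup.npow_mem_zpowers _ _) k) (hzmem _)
  · intro hx
    obtain ⟨k, hk, rfl⟩ := scal_cases hx
    rw [Subgroup.coe_pow]
    refine pow_mem ?_ k
    rw [show (unit : cent).1 = omega * negOne from (mul_inv_cancel_left _ _).symm]
    exact mul_mem (Subgroup.mem_sup_left (Subgroup.mem_zpowers _)) (Subgroup.mem_sup_right negOne_center)

theorem section_exists : ∃ A : Subgroup ↥Cfsg.Co0, Nat.card A = 3 ∧ ∃ (hn : ((A ⊔ Subgroup.center ↥Cfsg.Co0).subgroupOf (Subgroup.centralizer (A : Set ↥Cfsg.Co0))).Normal), ∃ (S : Type) (_ : Group S) (_ : Finite S), Nonempty (S ≃* ↥(Subgroup.centralizer (A : Set ↥Cfsg.Co0)) ⧸ (A ⊔ Subgroup.center ↥Cfsg.Co0).subgroupOf (Subgroup.centralizer (A : Set ↥Cfsg.Co0))) ∧ IsSimpleGroup S ∧ ¬ IsMulCommutative S ∧ ∃ z : S, orderOf z = 2 ∧ ∃ (Q : Subgroup (Subgroup.centralizer ({z} : Set S))) (_ : Q.Normal), Cfsg.generalizedFittingSubgroup (Subgroup.centralizer ({z} : Set S)) = Q ∧ Cfsg.IsExtraspecial 2 Q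 ∧ Nat.card Q = 2 ^ 7 ∧ Nonempty ((Subgroup.centralizer ({z} : Set S)) ⧸ Q ≃* Cfsg.Omega (ZMod 2) (Cfsg.quadFormMinus 2 (ZMod 2) 1 1)) ∧ ∃ g : S, (∃ hq : g * z * g⁻¹ ∈ Subgroup.centralizer ({z} : Set S), (⟨g * z * g⁻¹, hq⟩ : Subgroup.centralizer ({z} : Set S)) ∈ Q) ∧ g * z * g⁻¹ ≠ z := by
  refine ⟨Subgroup.zpowers omega, (Nat.card_zpowers omega).trans orderOf_omega, ?_⟩
  rw [cent_eq]
  have he := sup_eq
  have hn : ((Subgroup.zpowers omega ⊔ Subgroup.center Co0).subgroupOf cent).Normal := he ▸ scal_normal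
  refine ⟨hn, Spor.Suz, inferInstance, finite_Suz,
    ⟨suzEquiv.trans (QuotientGroup.quotientMulEquivOfEq he.symm)⟩, CfsgLib.Presented.SuzSimple.simple, ?_, suz_hyp⟩
  intro hc
  have := finite_Suz
  obtain ⟨z, -, Q, -, -, hE, -⟩ := suz_hyp
  have h2 : ∀ a b : Q, a * b = b * a := fun a b => Subtype.ext (Subtype.ext (hc.is_comm.comm a.1.1 b.1.1))
  exact CfsgLib.PGroup.extraspecial_not_isMulCommutative (p := 2) hE ⟨⟨h2⟩⟩

end CfsgLib.SuzCoZero
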