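import Cfsg.Agent.Lib.SuzCo0.MaskData0
import Cfsg.Agent.Lib.SuzCo0.MaskData1
import Cfsg.Agent.Lib.SuzCo0.MaskData2
import Cfsg.Agent.Lib.SuzCo0.MaskData3
import Cfsg.Agent.Lib.SuzCo0.MaskData4
import Cfsg.Agent.Lib.SuzCo0.MaskData5
import Cfsg.Agent.Lib.SuzCo0.MaskData6
import Cfsg.Agent.Lib.SuzCo0.MaskData7

/-! Generated: fixed point sets of conjugates of an involution in a point stabiliser. -/

set_option autoImplicit false
set_option maxRecDepth 100000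
set_option Elab.async false

namespace CfsgLib.SuzCoZero

open CfsgLib.Sporadic

/-- The fixed point sets. -/
def fixT : Tr := .node (.node (.node fixT0 fixT1) (.node fixT2 fixT3)) (.node (.node fixT4 fixT5) (.node fixT6 fixT7))

/-- The fixed points of the involution. -/
def fixZero : ℕ := 0x38e0008c400000000000000400000000000000000001000000000000000000000000000000000000000000000000000000000000000000000000000000000000020000000080000000000000000000000000000000000000000000000000000000040800000002000000000000000000100040000000000000000000000000000040000000000000058000202000180000000008020000000000000000004200000000040001040080000000800000000000010800000000010000000000180000001000000000000003000000000000002000004000100018000060010003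

/-- Part of `fixPar`. -/
def fixPar_p000 : Tr := (.node (.node (.node (.node (.node (.node (.node (.node (.node (.leaf 0x0) (.leaf 0x25a2)) (.node (.leaf 0xa2dc) (.leaf 0x48c4))) (.node (.node (.leaf 0x815d) (.leaf 0x4721)) (.node (.leaf 0x443e) (.leaf 0x4af6)))) (.node (.node (.node (.leaf 0x60a7) (.leaf 0x2656)) (.node (.leaf 0x4393) (.leaf 0x9a4))) (.node (.node (.leaf 0x4220) (.leaf 0x7db)) (.node (.leaf 0x84f0) (.leaf 0x2ca0))))) (.node (.node (.node (.node (.leaf 0xa048) (.leaf 0x6600)) (.node (.leaf 0x6338) (.leaf 0x927))) (.node (.node (.leaf 0x61bc) (.leaf 0x781)) (.node (.leaf 0x649f) (.leaf 0x2bc5)))) (.node (.node (.node (.leaf 0xa104) (.leaf 0x66b9)) (.node (.leaf 0x63e5) (.leaf 0x2a42))) (.node (.node (.leaf 0xa27d) (.leaf 0xa847)) (.node (.leaf 0xa54e) (.leaf 0x2dd1)))))) (.node (.node (.node (.node (.node (.leaf 0xa01f) (.leaf 0x65cf)) (.node (.leaf 0x630b) (.leaf 0x48f3)))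 (.node (.node (.leaf 0x418f) (.leaf 0x4751)) (.node (.leaf 0xa46c) (.leaf 0x2b58)))) (.node (.node (.node (.leaf 0x20d4) (.leaf 0x685)) (.node (.leaf 0x63ba) (.leaf 0x29f4))) (.node (.node (.leaf 0x2252) (.leaf 0x480e)) (.node (.leaf 0xa523) (.leaf 0xad27))))) (.node (.node (.node (.node (.leaf 0xa071) (.leaf 0x62e)) (.node (.leaf 0x4363) (.leaf 0x8963))) (.node (.node (.leaf 0x1ed) (.leaf 0x67af)) (.node (.leaf 0xa4cb) (.leaf 0x8c2d)))) (.node (.node (.node (.leaf 0x4131) (.leaf 0x26eb)) (.node (.leaf 0x6412) (.leaf 0xa9b))) (.node (.node (.leaf 0xa2ab) (.leaf 0x2886)) (.node (.leaf 0x4577) (.leaf 0x8eae))))))) (.node (.node (.node (.node (.node (.node (.leaf 0xa00e) (.leaf 0x45b9)) (.node (.leaf 0x82f3) (.leaf 0x28d8))) (.node (.node (.leaf 0x217a) (.leaf 0x6737)) (.node (.leaf 0x4457) (.leaf 0x2b32)))) (.node (.node (.node (.leaf 0x20bd) (.leaf 0x466b)) (.node (.leaf 0xa3a6) (.leaf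 0x49d3))) (.node (.node (.leaf 0x2239) (.leaf 0x27f1)) (.node (.leaf 0x450b) (.leaf 0x2ce9))))) (.node (.node (.node (.node (.leaf 0x405e) (.leaf 0x4617)) (.node (.leaf 0x352) (.leaf 0x4942))) (.node (.node (.leaf 0x21d1) (.leaf 0xa797)) (.node (.leaf 0x4b7) (.leaf 0xabfe)))) (.node (.node (.node (.leaf 0x411b) (.leaf 0xa6d2)) (.node (.leaf 0x43fe) (.leaf 0x6a70))) (.node (.node (.leaf 0x2297) (.leaf 0x6868)) (.node (.leaf 0x562) (.leaf 0x4e58)))))) (.node (.node (.node (.node (.node (.leaf 0x4034) (.leaf 0x5eb)) (.node (.leaf 0x4322) (.leaf 0x890e))) (.node (.node (.leaf 0x1a5) (.leaf 0x8769)) (.node (.leaf 0x2485) (.leaf 0x6b94)))) (.node (.node (.node (.leaf 0xa0eb) (.leaf 0x46a0)) (.node (.leaf 0x83cf) (.leaf 0x6a1b))) (.node (.node (.leaf 0x2267) (.leaf 0x6825)) (.node (.leaf 0x4538) (.leaf 0x4d74))))) (.node (.node (.node (.node (.leaf 0x208e) (.leaf 0x4641)) (.node (.leaf 0x37c)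 (.leaf 0x4980))) (.node (.node (.leaf 0x4204) (.leaf 0x7c8)) (.node (.leaf 0x84de) (.leaf 0x2c6a)))) (.node (.node (.node (.leaf 0x2144) (.leaf 0x2709)) (.node (.leaf 0xa426) (.leaf 0x4ac5))) (.node (.node (.leaf 0x62c1) (.leaf 0x8a8)) (.node (.leaf 0xa589) (.leaf 0x6f37)))))))) (.node (.node (.node (.node (.node (.node (.node (.leaf 0x2007) (.leaf 0x85ac)) (.node (.leaf 0x42e8) (.leaf 0x48cc))) (.node (.node (.leaf 0x4167) (.leaf 0xa729)) (.node (.leaf 0x6448) (.leaf 0xab1c)))) (.node (.node (.node (.leaf 0x40b1) (.leaf 0xa660)) (.node (.leaf 0x439b) (.leaf 0x49c2))) (.node (.node (.leaf 0x22d) (.leaf 0x47e5)) (.node (.leaf 0xa4ff) (.leaf 0x8cbf))))) (.node (.node (.node (.node (.leaf 0x2055) (.leaf 0x260c)) (.node (.leaf 0x8345) (.leaf 0x935))) (.node (.node (.leaf 0xa1c6) (.leaf 0xa78a)) (.node (.leaf 0x24ac) (.leaf 0x8be6)))) (.node (.node (.node (.leaf 0x10f) (.leaf 0x86c5)) (.node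 (.leaf 0x63f0) (.leaf 0xaa54))) (.node (.node (.leaf 0x4289) (.leaf 0xa859)) (.node (.leaf 0xa556) (.leaf 0x4e25)))))) (.node (.node (.node (.node (.node (.leaf 0x402a) (.leaf 0xa5dc)) (.node (.leaf 0xa316) (.leaf 0x28ff))) (.node (.node (.leaf 0x219a) (.leaf 0x475a)) (.node (.leaf 0x477) (.leaf 0x2b7d)))) (.node (.node (.node (.leaf 0xa0e1) (.leaf 0x6691)) (.node (.leaf 0xa3c4) (.leaf 0x4a03))) (.node (.node (.leaf 0x425d) (.leaf 0x681b)) (.node (.leaf 0x452f) (.leaf 0xad44))))) (.node (.node (.node (.node (.leaf 0x207e) (.leaf 0x6636)) (.node (.leaf 0x4370) (.leaf 0x4972))) (.node (.node (.leaf 0x81f9) (.leaf 0x67bc)) (.node (.leaf 0xa4d4) (.leaf 0x8c5a)))) (.node (.node (.node (.leaf 0x613a) (.leaf 0x66fb)) (.node (.leaf 0xa41b) (.leaf 0x6aad))) (.node (.node (.leaf 0xa2b4) (.leaf 0xa894)) (.node (.leaf 0x4580) (.leaf 0xaef4))))))) (.node (.node (.node (.node (.node (.node (.leaf 0x4018)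 (.leaf 0x5c3)) (.node (.leaf 0x42fe) (.leaf 0xa8e4))) (.node (.node (.leaf 0x2185) (.leaf 0x2746)) (.node (.leaf 0x4462) (.leaf 0x6b45)))) (.node (.node (.node (.leaf 0xa0ca) (.leaf 0x4678)) (.node (.leaf 0x43b0) (.leaf 0x49e2))) (.node (.node (.leaf 0x2246) (.leaf 0x4800)) (.node (.leaf 0x6519) (.leaf 0x4d07))))) (.node (.node (.node (.node (.leaf 0xa067) (.leaf 0xa621)) (.node (.leaf 0xa359) (.leaf 0x294d))) (.node (.node (.leaf 0x21de) (.leaf 0x47a5)) (.node (.leaf 0x84c1) (.leaf 0xac12)))) (.node (.node (.node (.leaf 0x2125) (.leaf 0x46de)) (.node (.leaf 0x2409) (.leaf 0x8a81))) (.node (.node (.leaf 0x229f) (.leaf 0x4875)) (.node (.leaf 0x656b) (.leaf 0xae73)))))) (.node (.node (.node (.node (.node (.leaf 0xa03d) (.leaf 0xa5f3)) (.node (.leaf 0x432d) (.leaf 0x8918))) (.node (.node (.leaf 0x1ad) (.leaf 0x4773)) (.node (.leaf 0xa493) (.leaf 0x2bad)))) (.node (.node (.node (.leaf 0x40f8)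 (.leaf 0xa6a9)) (.node (.leaf 0x43d9) (.leaf 0xa31))) (.node (.node (.leaf 0x6271) (.leaf 0x8836)) (.node (.leaf 0x2542) (.leaf 0x8da3))))) (.node (.node (.node (.node (.leaf 0x209a) (.leaf 0x264c)) (.node (.leaf 0x4386) (.leaf 0x4994))) (.node (.node (.leaf 0x4211) (.leaf 0x67d0)) (.node (.leaf 0xa4e7) (.leaf 0x2c8a)))) (.node (.node (.node (.leaf 0x2152) (.leaf 0xa713)) (.node (.leaf 0x6430) (.leaf 0x2ad7))) (.node (.node (.leaf 0x82cf) (.leaf 0x48b3)) (.node (.leaf 0x2595) (.leaf 0x4f9f))))))))) (.node (.node (.node (.node (.node (.node (.node (.node (.leaf 0x6003) (.leaf 0x45a8)) (.node (.leaf 0x62e2) (.leaf 0x48c8))) (.node (.node (.leaf 0x4162) (.leaf 0x726)) (.node (.leaf 0xa442) (.leaf 0x6b08)))) (.node (.node (.node (.leaf 0x60ac) (.leaf 0x465a)) (.node (.leaf 0x8396) (.leaf 0x9b3))) (.node (.node (.leaf 0xa226) (.leaf 0x47de)) (.node (.leaf 0x24f7) (.leaf 0x2cb2))))) (.node (.node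 (.node (.node (.leaf 0x604e) (.leaf 0x6606)) (.node (.leaf 0x233e) (.leaf 0x292d))) (.node (.node (.leaf 0x21c2) (.leaf 0x6784)) (.node (.leaf 0x4a6) (.leaf 0x8bd6)))) (.node (.node (.node (.leaf 0x10a) (.leaf 0x66c1)) (.node (.leaf 0x83ea) (.leaf 0xaa4c))) (.node (.node (.leaf 0x285) (.leaf 0x852)) (.node (.leaf 0x2553) (.leaf 0x6e0a)))))) (.node (.node (.node (.node (.node (.leaf 0x8024) (.leaf 0xa5d5)) (.node (.leaf 0x430f) (.leaf 0x48f9))) (.node (.node (.leaf 0x2195) (.leaf 0x4756)) (.node (.leaf 0xa471) (.leaf 0x6b6b)))) (.node (.node (.node (.leaf 0xa0db) (.leaf 0x68d)) (.node (.leaf 0x23c0) (.leaf 0x49fc))) (.node (.node (.leaf 0x8257) (.leaf 0x6815)) (.node (.leaf 0x252a) (.leaf 0xd3b))))) (.node (.node (.node (.node (.leaf 0x4079) (.leaf 0x633)) (.node (.leaf 0x236c) (.leaf 0x296b))) (.node (.node (.leaf 0x21f3) (.leaf 0x7b6)) (.node (.leaf 0x24d0) (.leaf 0x4c46)))) (.node (.node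 (.node (.leaf 0xa135) (.leaf 0xa6f4)) (.node (.leaf 0x8416) (.leaf 0xaa5))) (.node (.node (.leaf 0x42b0) (.leaf 0x488d)) (.node (.leaf 0x257c) (.leaf 0x2ecd))))))) (.node (.node (.node (.node (.node (.node (.leaf 0x2013) (.leaf 0xa5bd)) (.node (.leaf 0x62f9) (.leaf 0x68e0))) (.node (.node (.leaf 0x2180) (.leaf 0x2740)) (.node (.leaf 0x645d) (.leaf 0xab3b)))) (.node (.node (.node (.leaf 0x40c2) (.leaf 0x674)) (.node (.leaf 0x43ab) (.leaf 0x49dd))) (.node (.node (.leaf 0x223f) (.leaf 0x47f7)) (.node (.leaf 0x6510) (.leaf 0x4cfa))))) (.node (.node (.node (.node (.leaf 0xa063) (.leaf 0x261c)) (.node (.leaf 0x8355) (.leaf 0x2948))) (.node (.node (.leaf 0x41d7) (.leaf 0x27a0)) (.node (.leaf 0x24bb) (.leaf 0xac0a)))) (.node (.node (.node (.leaf 0x211f) (.leaf 0x66d8)) (.node (.leaf 0x6403) (.leaf 0x2a78))) (.node (.node (.leaf 0x429b) (.leaf 0x686e)) (.node (.leaf 0x568) (.leaf 0x6e61)))))) (.node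 (.node (.node (.node (.node (.leaf 0x8039) (.leaf 0x25ef)) (.node (.leaf 0x6327) (.leaf 0x8913))) (.node (.node (.leaf 0x41a8) (.leaf 0x276e)) (.node (.leaf 0xa48a) (.leaf 0x8ba2)))) (.node (.node (.node (.leaf 0x40f0) (.leaf 0x66a5)) (.node (.leaf 0x23d4) (.leaf 0x6a2b))) (.node (.node (.leaf 0x26d) (.leaf 0x2830)) (.node (.leaf 0x453d) (.leaf 0x2d88))))) (.node (.node (.node (.node (.leaf 0x4094) (.leaf 0x4646)) (.node (.leaf 0xa381) (.leaf 0xa98a))) (.node (.node (.leaf 0x220b) (.leaf 0x67cc)) (.node (.leaf 0x24e3) (.leaf 0xac79)))) (.node (.node (.node (.leaf 0x14b) (.leaf 0x470d)) (.node (.leaf 0x42c) (.leaf 0x6acf))) (.node (.node (.leaf 0x62c7) (.leaf 0xa8ab)) (.node (.leaf 0x658e) (.leaf 0x6f6d)))))))) (.node (.node (.node (.node (.node (.node (.node (.leaf 0x600b) (.leaf 0x25b4)) (.node (.leaf 0x82ed) (.leaf 0xa8d1))) (.node (.node (.leaf 0x8172) (.leaf 0x672e)) (.node (.leaf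 0x451) (.leaf 0x4b24)))) (.node (.node (.node (.leaf 0x40b5) (.leaf 0x4666)) (.node (.leaf 0x43a2) (.leaf 0x29c8))) (.node (.node (.leaf 0x2232) (.leaf 0x7ec)) (.node (.leaf 0x2505) (.leaf 0x8cdc))))) (.node (.node (.node (.node (.leaf 0xa059) (.leaf 0x6611)) (.node (.leaf 0x234b) (.leaf 0x693b))) (.node (.node (.leaf 0x21cd) (.leaf 0x2790)) (.node (.leaf 0x24b2) (.leaf 0xbf3)))) (.node (.node (.node (.leaf 0x4113) (.leaf 0xa6cc)) (.node (.leaf 0x43f9) (.leaf 0x4a62))) (.node (.node (.leaf 0xa28f) (.leaf 0x485f)) (.node (.leaf 0xa55a) (.leaf 0x6e43)))))) (.node (.node (.node (.node (.node (.leaf 0x202f) (.leaf 0x5e5)) (.node (.leaf 0x431d) (.leaf 0x8908))) (.node (.node (.leaf 0xa19d) (.leaf 0x8760)) (.node (.leaf 0x247e) (.leaf 0x2b8c)))) (.node (.node (.node (.leaf 0x40e6) (.leaf 0x4699)) (.node (.leaf 0xa3c8) (.leaf 0x2a09))) (.node (.node (.leaf 0x2262) (.leaf 0x481f)) (.node (.leaf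 0x2534) (.leaf 0x2d59))))) (.node (.node (.node (.node (.leaf 0x2083) (.leaf 0x63c)) (.node (.leaf 0x2376) (.leaf 0x697b))) (.node (.node (.leaf 0x6200) (.leaf 0x67c3)) (.node (.leaf 0x24da) (.leaf 0x6c60)))) (.node (.node (.node (.leaf 0x140) (.leaf 0xa700)) (.node (.leaf 0x6420) (.leaf 0xaaba))) (.node (.node (.leaf 0x2bc) (.leaf 0x489b)) (.node (.leaf 0x2584) (.leaf 0x4f08))))))) (.node (.node (.node (.node (.node (.node (.leaf 0xa01b) (.leaf 0xa5c6)) (.node (.leaf 0x6304) (.leaf 0xa8ea))) (.node (.node (.leaf 0x418a) (.leaf 0x274d)) (.node (.leaf 0x6467) (.leaf 0x8b50)))) (.node (.node (.node (.leaf 0xd0) (.leaf 0x867c)) (.node (.leaf 0x63b5) (.leaf 0x69ea))) (.node (.node (.leaf 0x424a) (.leaf 0x280a)) (.node (.leaf 0x651e) (.leaf 0x6d17))))) (.node (.node (.node (.node (.leaf 0x406c) (.leaf 0xa628)) (.node (.leaf 0x435e) (.leaf 0x695c))) (.node (.node (.leaf 0xa1e5) (.leaf 0xa7a9))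 (.node (.leaf 0x4c8) (.leaf 0x4c24)))) (.node (.node (.node (.leaf 0xa12b) (.leaf 0xa6e5)) (.node (.leaf 0x440e) (.leaf 0x4a8f))) (.node (.node (.leaf 0x62a4) (.leaf 0xa87f)) (.node (.leaf 0x4572) (.leaf 0x2ea0)))))) (.node (.node (.node (.node (.node (.leaf 0x6043) (.leaf 0x45fa)) (.node (.leaf 0x6331) (.leaf 0x491d))) (.node (.node (.leaf 0x41b2) (.leaf 0xa77a)) (.node (.leaf 0x49a) (.leaf 0x8bb7)))) (.node (.node (.node (.leaf 0x60ff) (.leaf 0x66af)) (.node (.leaf 0x63df) (.leaf 0x8a37))) (.node (.node (.leaf 0x2278) (.leaf 0x4840)) (.node (.leaf 0x4549) (.leaf 0xdbf))))) (.node (.node (.node (.node (.leaf 0x60a0) (.leaf 0x264f)) (.node (.leaf 0x238b) (.leaf 0x299b))) (.node (.node (.leaf 0x421a) (.leaf 0xa7d4)) (.node (.leaf 0x24ed) (.leaf 0xc97)))) (.node (.node (.node (.leaf 0x4157) (.leaf 0x271b)) (.node (.leaf 0xa437) (.leaf 0xaaeb))) (.node (.node (.leaf 0x42d8) (.leaf 0x48b9))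 (.node (.leaf 0x459b) (.leaf 0xafc2))))))))))

/-- Part of `fixPar`. -/
def fixPar_p001 : Tr := (.node (.node (.node (.node (.node (.node (.node (.node (.node (.leaf 0xa001) (.leaf 0x45a4)) (.node (.leaf 0x22df) (.leaf 0x28c6))) (.node (.node (.leaf 0x2160) (.leaf 0x4723)) (.node (.leaf 0x6441) (.leaf 0xab01)))) (.node (.node (.node (.leaf 0x80aa) (.leaf 0x658)) (.node (.leaf 0x8394) (.leaf 0x89af))) (.node (.node (.leaf 0x4223) (.leaf 0x27dd)) (.node (.leaf 0x4f3) (.leaf 0x4ca2))))) (.node (.node (.node (.node (.leaf 0x204b) (.leaf 0xa603)) (.node (.leaf 0xa33b) (.leaf 0x492a))) (.node (.node (.leaf 0xa1be) (.leaf 0x8782)) (.node (.leaf 0xa4a2) (.leaf 0xabcd)))) (.node (.node (.node (.leaf 0x2107) (.leaf 0xa6bb)) (.node (.leaf 0x43e8) (.leaf 0xaa46))) (.node (.node (.leaf 0x2281) (.leaf 0x84c)) (.node (.leaf 0x551) (.leaf 0x4ddd)))))) (.node (.node (.node (.node (.node (.leaf 0x2022)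 (.leaf 0xa5d3)) (.node (.leaf 0x830d) (.leaf 0x88f5))) (.node (.node (.leaf 0xa192) (.leaf 0x2753)) (.node (.leaf 0x246f) (.leaf 0x8b5d)))) (.node (.node (.node (.leaf 0xd8) (.leaf 0x2688)) (.node (.leaf 0xa3bd) (.leaf 0x29fa))) (.node (.node (.leaf 0xa254) (.leaf 0x8811)) (.node (.leaf 0x4526) (.leaf 0xad32))))) (.node (.node (.node (.node (.leaf 0x74) (.leaf 0x6630)) (.node (.leaf 0xa369) (.leaf 0x969))) (.node (.node (.leaf 0xa1f0) (.leaf 0x27b3)) (.node (.leaf 0x4ce) (.leaf 0xc39)))) (.node (.node (.node (.leaf 0x134) (.leaf 0x26f0)) (.node (.leaf 0x6414) (.leaf 0x4a9e))) (.node (.node (.leaf 0x22ae) (.leaf 0x288a)) (.node (.leaf 0x6579) (.leaf 0x6eb1))))))) (.node (.node (.node (.node (.node (.node (.leaf 0x2011) (.leaf 0x85bb)) (.node (.leaf 0x42f6) (.leaf 0x8de))) (.node (.node (.leaf 0xa17d) (.leaf 0x273a)) (.node (.leaf 0x245a) (.leaf 0x2b3a)))) (.node (.node (.node (.leaf 0x20c0)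 (.leaf 0x2670)) (.node (.leaf 0xa3a8) (.leaf 0x69db))) (.node (.node (.leaf 0xa23c) (.leaf 0x7f5)) (.node (.leaf 0x50e) (.leaf 0x2cf6))))) (.node (.node (.node (.node (.leaf 0x4061) (.leaf 0x61a)) (.node (.leaf 0x8353) (.leaf 0xa944))) (.node (.node (.leaf 0x41d4) (.leaf 0x79d)) (.node (.leaf 0x64b8) (.leaf 0x8c06)))) (.node (.node (.node (.leaf 0x411d) (.leaf 0x26d6)) (.node (.leaf 0x401) (.leaf 0x8a72))) (.node (.node (.leaf 0x29a) (.leaf 0x286c)) (.node (.leaf 0x4565) (.leaf 0x6e5d)))))) (.node (.node (.node (.node (.node (.leaf 0x8037) (.leaf 0x65ed)) (.node (.leaf 0x325) (.leaf 0x2910))) (.node (.node (.leaf 0x81a6) (.leaf 0x876b)) (.node (.leaf 0x8488) (.leaf 0x2b9a)))) (.node (.node (.node (.leaf 0x20ee) (.leaf 0xa6a3)) (.node (.leaf 0xa3d1) (.leaf 0xa23))) (.node (.node (.leaf 0x4269) (.leaf 0x882a)) (.node (.leaf 0x253a) (.leaf 0x4d7d))))) (.node (.node (.node (.node (.leaf 0xa091)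 (.leaf 0x644)) (.node (.leaf 0x237f) (.leaf 0xa982))) (.node (.node (.leaf 0x207) (.leaf 0x67c9)) (.node (.leaf 0xa4e0) (.leaf 0x2c75)))) (.node (.node (.node (.leaf 0xa147) (.leaf 0x470b)) (.node (.leaf 0xa428) (.leaf 0x6acc))) (.node (.node (.leaf 0x2c5) (.leaf 0x68aa)) (.node (.leaf 0xa58c) (.leaf 0x2f53)))))))) (.node (.node (.node (.node (.node (.node (.node (.leaf 0x2009) (.leaf 0xa5b0)) (.node (.leaf 0x42eb) (.leaf 0x88cd))) (.node (.node (.leaf 0x616d) (.leaf 0x72c)) (.node (.leaf 0xa44d) (.leaf 0x4b22)))) (.node (.node (.node (.leaf 0x40b3) (.leaf 0x8663)) (.node (.leaf 0x439e) (.leaf 0xa9c5))) (.node (.node (.leaf 0x6230) (.leaf 0x27e7)) (.node (.leaf 0xa501) (.leaf 0x8cc5))))) (.node (.node (.node (.node (.leaf 0x2057) (.leaf 0x260f)) (.node (.leaf 0xa349) (.leaf 0x8936))) (.node (.node (.leaf 0x1c9) (.leaf 0x478d)) (.node (.leaf 0x64af) (.leaf 0x8beb)))) (.node (.node (.node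 (.leaf 0x2111) (.leaf 0x66ca)) (.node (.leaf 0x43f6) (.leaf 0x2a5c))) (.node (.node (.leaf 0x628e) (.leaf 0x485c)) (.node (.leaf 0x2558) (.leaf 0xae3b)))))) (.node (.node (.node (.node (.node (.leaf 0xa02d) (.leaf 0x25e1)) (.node (.leaf 0x2319) (.leaf 0x905))) (.node (.node (.leaf 0x219c) (.leaf 0x275c)) (.node (.leaf 0x8479) (.leaf 0xab89)))) (.node (.node (.node (.leaf 0x20e4) (.leaf 0x2697)) (.node (.leaf 0x43c7) (.leaf 0xaa05))) (.node (.node (.leaf 0xa260) (.leaf 0x281d)) (.node (.leaf 0xa531) (.leaf 0xad53))))) (.node (.node (.node (.node (.leaf 0x81) (.leaf 0x8638)) (.node (.leaf 0x6372) (.leaf 0xa974))) (.node (.node (.leaf 0x81fc) (.leaf 0x27c0)) (.node (.leaf 0x4d8) (.leaf 0x2c5c)))) (.node (.node (.node (.leaf 0x213c) (.leaf 0x6fe)) (.node (.leaf 0xa41e) (.leaf 0xab2))) (.node (.node (.leaf 0x2b9) (.leaf 0x8898)) (.node (.leaf 0x582) (.leaf 0xaefe))))))) (.node (.node (.node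 (.node (.node (.node (.leaf 0x1a) (.leaf 0x65c5)) (.node (.leaf 0x301) (.leaf 0x28e8))) (.node (.node (.leaf 0x187) (.leaf 0x2749)) (.node (.leaf 0x4464) (.leaf 0x6b4d)))) (.node (.node (.node (.leaf 0x20cd) (.leaf 0xa67a)) (.node (.leaf 0x3b3) (.leaf 0x9e6))) (.node (.node (.leaf 0x4248) (.leaf 0x2804)) (.node (.leaf 0xa51a) (.leaf 0xd11))))) (.node (.node (.node (.node (.leaf 0x206a) (.leaf 0x4624)) (.node (.leaf 0x235c) (.leaf 0x4954))) (.node (.node (.leaf 0x41e0) (.leaf 0x47a8)) (.node (.leaf 0x44c5) (.leaf 0x8c17)))) (.node (.node (.node (.leaf 0xa127) (.leaf 0xa6e0)) (.node (.leaf 0xa40b) (.leaf 0x6a83))) (.node (.node (.leaf 0x2a2) (.leaf 0xa87c)) (.node (.leaf 0x256f) (.leaf 0x6e8a)))))) (.node (.node (.node (.node (.node (.leaf 0x2040) (.leaf 0xa5f7)) (.node (.leaf 0x330) (.leaf 0x291a))) (.node (.node (.leaf 0x61af) (.leaf 0x2778)) (.node (.leaf 0x2497) (.leaf 0xabb3)))) (.node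 (.node (.node (.leaf 0x80fb) (.leaf 0x6ad)) (.node (.leaf 0x3dc) (.leaf 0xa34))) (.node (.node (.leaf 0x2273) (.leaf 0x683a)) (.node (.leaf 0x545) (.leaf 0x2daf))))) (.node (.node (.node (.node (.leaf 0x409c) (.leaf 0xa64d)) (.node (.leaf 0x2388) (.leaf 0xa997))) (.node (.node (.leaf 0x8215) (.leaf 0xa7d2)) (.node (.leaf 0x84ea) (.leaf 0x8c91)))) (.node (.node (.node (.leaf 0x4154) (.leaf 0x718)) (.node (.leaf 0x6432) (.leaf 0xaadd))) (.node (.node (.leaf 0x82d3) (.leaf 0x68b6)) (.node (.leaf 0xa598) (.leaf 0x6fa6))))))))) (.node (.node (.node (.node (.node (.node (.node (.node (.leaf 0xa005) (.leaf 0x65aa)) (.node (.leaf 0x42e6) (.leaf 0xa8c9))) (.node (.node (.leaf 0x2165) (.leaf 0x6727)) (.node (.leaf 0x446) (.leaf 0x6b16)))) (.node (.node (.node (.leaf 0xa0ae) (.leaf 0x865d)) (.node (.leaf 0x399) (.leaf 0x29b9))) (.node (.node (.leaf 0x222b) (.leaf 0xa7df)) (.node (.leaf 0x44f9) (.leaf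 0x8cb8))))) (.node (.node (.node (.node (.leaf 0xa051) (.leaf 0x609)) (.node (.leaf 0xa340) (.leaf 0x4931))) (.node (.node (.leaf 0x41c4) (.leaf 0x788)) (.node (.leaf 0x24a9) (.leaf 0xabe0)))) (.node (.node (.node (.leaf 0x210c) (.leaf 0xa6c2)) (.node (.leaf 0x23ee) (.leaf 0x6a50))) (.node (.node (.leaf 0x2287) (.leaf 0xa854)) (.node (.leaf 0xa554) (.leaf 0x6e1d)))))) (.node (.node (.node (.node (.node (.leaf 0x2026) (.leaf 0x25da)) (.node (.leaf 0xa313) (.leaf 0x88fa))) (.node (.node (.leaf 0x4197) (.leaf 0x4758)) (.node (.leaf 0x4474) (.leaf 0xab79)))) (.node (.node (.node (.leaf 0xde) (.leaf 0x690)) (.node (.leaf 0x43c2) (.leaf 0x49fe))) (.node (.node (.leaf 0x825b) (.leaf 0x819)) (.node (.leaf 0x452d) (.leaf 0x4d42))))) (.node (.node (.node (.node (.leaf 0x807c) (.leaf 0x6634)) (.node (.leaf 0x436e) (.leaf 0xa96e))) (.node (.node (.leaf 0x61f6) (.leaf 0x47b9)) (.node (.leaf 0x4d3)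 (.leaf 0x4c53)))) (.node (.node (.node (.leaf 0x2138) (.leaf 0x66f7)) (.node (.leaf 0x241a) (.leaf 0x4aaa))) (.node (.node (.leaf 0x42b2) (.leaf 0x2891)) (.node (.leaf 0x457e) (.leaf 0xaed8))))))) (.node (.node (.node (.node (.node (.node (.leaf 0x2016) (.leaf 0x45c0)) (.node (.leaf 0x22fc) (.leaf 0x68e2))) (.node (.node (.leaf 0xa182) (.leaf 0x2743)) (.node (.leaf 0x6460) (.leaf 0xab41)))) (.node (.node (.node (.leaf 0x20c8) (.leaf 0x6676)) (.node (.leaf 0xa3ad) (.leaf 0x49e0))) (.node (.node (.leaf 0xa243) (.leaf 0x67fd)) (.node (.leaf 0x2512) (.leaf 0x2d02))))) (.node (.node (.node (.node (.leaf 0x8066) (.leaf 0xa61d)) (.node (.leaf 0x358) (.leaf 0x494a))) (.node (.node (.leaf 0xa1db) (.leaf 0x27a3)) (.node (.leaf 0xa4bd) (.leaf 0x2c10)))) (.node (.node (.node (.leaf 0xa122) (.leaf 0x26da)) (.node (.leaf 0x6405) (.leaf 0x8a7e))) (.node (.node (.leaf 0x629d) (.leaf 0x2872)) (.node (.leaf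 0x6569) (.leaf 0x2e66)))))) (.node (.node (.node (.node (.node (.leaf 0x3c) (.leaf 0x45f1)) (.node (.leaf 0x432b) (.leaf 0x4917))) (.node (.node (.leaf 0xa1aa) (.leaf 0xa770)) (.node (.leaf 0x6492) (.leaf 0x6ba7)))) (.node (.node (.node (.leaf 0x20f3) (.leaf 0x66a8)) (.node (.leaf 0x63d6) (.leaf 0x2a2e))) (.node (.node (.leaf 0x26f) (.leaf 0x4834)) (.node (.leaf 0x4540) (.leaf 0x4d9b))))) (.node (.node (.node (.node (.leaf 0xa097) (.leaf 0x649)) (.node (.leaf 0x2383) (.leaf 0xa98e))) (.node (.node (.leaf 0x420d) (.leaf 0xa7ce)) (.node (.leaf 0x84e5) (.leaf 0x2c80)))) (.node (.node (.node (.leaf 0xa14f) (.leaf 0xa70f)) (.node (.leaf 0x42e) (.leaf 0xad4))) (.node (.node (.leaf 0x82ca) (.leaf 0x88af)) (.node (.leaf 0x2592) (.leaf 0x4f9b)))))))) (.node (.node (.node (.node (.node (.node (.node (.leaf 0x600d) (.leaf 0x25b7)) (.node (.leaf 0x62f0) (.leaf 0x88d5))) (.node (.node (.leaf 0xa176)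 (.leaf 0x6732)) (.node (.leaf 0x4454) (.leaf 0x8b29)))) (.node (.node (.node (.leaf 0xa0ba) (.leaf 0xa667)) (.node (.leaf 0x63a5) (.leaf 0x49ce))) (.node (.node (.leaf 0x4234) (.leaf 0x7ef)) (.node (.leaf 0xa508) (.leaf 0x2ce2))))) (.node (.node (.node (.node (.leaf 0x205c) (.leaf 0x615)) (.node (.leaf 0x434e) (.leaf 0x2940))) (.node (.node (.leaf 0xa1cf) (.leaf 0x794)) (.node (.leaf 0x44b4) (.leaf 0x2bf9)))) (.node (.node (.node (.leaf 0x4117) (.leaf 0x26ce)) (.node (.leaf 0x23fc) (.leaf 0x4a6b))) (.node (.node (.leaf 0x293) (.leaf 0x862)) (.node (.leaf 0xa55e) (.leaf 0x2e54)))))) (.node (.node (.node (.node (.node (.leaf 0xa031) (.leaf 0x25e7)) (.node (.leaf 0x4320) (.leaf 0xa90b))) (.node (.node (.leaf 0xa1a0) (.leaf 0xa765)) (.node (.leaf 0x8480) (.leaf 0xb92)))) (.node (.node (.node (.leaf 0x60e9) (.leaf 0x269e)) (.node (.leaf 0x43cb) (.leaf 0xaa0f))) (.node (.node (.leaf 0xa264)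 (.leaf 0x822)) (.node (.leaf 0x4536) (.leaf 0x6d6b))))) (.node (.node (.node (.node (.leaf 0x608a) (.leaf 0x263e)) (.node (.leaf 0xa378) (.leaf 0x697e))) (.node (.node (.leaf 0x4202) (.leaf 0x47c5)) (.node (.leaf 0xa4db) (.leaf 0xac62)))) (.node (.node (.node (.leaf 0xa141) (.leaf 0x2705)) (.node (.leaf 0x2424) (.leaf 0xaac2))) (.node (.node (.leaf 0x22be) (.leaf 0xa8a1)) (.node (.leaf 0x8587) (.leaf 0x4f24))))))) (.node (.node (.node (.node (.node (.node (.leaf 0x201d) (.leaf 0x5cc)) (.node (.leaf 0xa307) (.leaf 0x68f0))) (.node (.node (.leaf 0x618d) (.leaf 0x474f)) (.node (.leaf 0x246a) (.leaf 0xab52)))) (.node (.node (.node (.leaf 0xa0d1) (.leaf 0x667f)) (.node (.leaf 0x23b7) (.leaf 0x29f1))) (.node (.node (.leaf 0x6250) (.leaf 0xa80b)) (.node (.leaf 0x521) (.leaf 0x4d1d))))) (.node (.node (.node (.node (.leaf 0x606f) (.leaf 0x462b)) (.node (.leaf 0xa360) (.leaf 0x2962))) (.node (.node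 (.leaf 0x21eb) (.leaf 0x87ac)) (.node (.leaf 0x64c9) (.leaf 0x8c28)))) (.node (.node (.node (.leaf 0x812e) (.leaf 0x26e9)) (.node (.leaf 0x411) (.leaf 0x2a97))) (.node (.node (.leaf 0x62a8) (.leaf 0xa882)) (.node (.leaf 0x4574) (.leaf 0x2ea9)))))) (.node (.node (.node (.node (.node (.leaf 0x2047) (.leaf 0x25fe)) (.node (.leaf 0x6334) (.leaf 0x2923))) (.node (.node (.leaf 0x21b7) (.leaf 0x877d)) (.node (.leaf 0x649c) (.leaf 0x4bc0)))) (.node (.node (.node (.leaf 0x102) (.leaf 0x26b6)) (.node (.leaf 0x3e3) (.leaf 0x2a39))) (.node (.node (.leaf 0x227b) (.leaf 0x2844)) (.node (.leaf 0x254c) (.leaf 0x6dc4))))) (.node (.node (.node (.node (.leaf 0x40a3) (.leaf 0x4651)) (.node (.leaf 0x438d) (.leaf 0x499e))) (.node (.node (.leaf 0x21e) (.leaf 0xa7d8)) (.node (.leaf 0x84ee) (.leaf 0x2c9d)))) (.node (.node (.node (.leaf 0x615b) (.leaf 0x271f)) (.node (.leaf 0xa43b) (.leaf 0x6af2))) (.node (.node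 (.leaf 0x42da) (.leaf 0x48c0)) (.node (.leaf 0x259f) (.leaf 0x6fea))))))))))

/-- Part of `fixPar`. -/
def fixPar_p00 : Tr := .node fixPar_p000 fixPar_p001

/-- Part of `fixPar`. -/
def fixPar_p010 : Tr := (.node (.node (.node (.node (.node (.node (.node (.node (.node (.leaf 0x1) (.leaf 0x45a3)) (.node (.leaf 0x2de) (.leaf 0x48c5))) (.node (.node (.leaf 0x615f) (.leaf 0x2722)) (.node (.leaf 0x4440) (.leaf 0xaafe)))) (.node (.node (.node (.leaf 0x20a8) (.leaf 0x2657)) (.node (.leaf 0xa393) (.leaf 0xa9aa))) (.node (.node (.leaf 0x222) (.leaf 0xa7db)) (.node (.leaf 0xa4f1) (.leaf 0x4ca1))))) (.node (.node (.node (.node (.leaf 0x404a) (.leaf 0x2602)) (.node (.leaf 0xa33a) (.leaf 0x2928))) (.node (.node (.leaf 0x21bd) (.leaf 0xa781)) (.node (.leaf 0xa4a1) (.leaf 0xabc7)))) (.node (.node (.node (.leaf 0x6106) (.leaf 0x6bb)) (.node (.leaf 0x23e7) (.leaf 0x6a45))) (.node (.node (.leaf 0x4280)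 (.leaf 0x284a)) (.node (.leaf 0x654f) (.leaf 0x2dd4)))))) (.node (.node (.node (.node (.node (.leaf 0x21) (.leaf 0x65d1)) (.node (.leaf 0x630c) (.leaf 0x28f4))) (.node (.node (.leaf 0x4190) (.leaf 0x4752)) (.node (.leaf 0x46e) (.leaf 0x6b5c)))) (.node (.node (.node (.leaf 0xa0d6) (.leaf 0x687)) (.node (.leaf 0x43bc) (.leaf 0x29f7))) (.node (.node (.leaf 0x254) (.leaf 0xa80e)) (.node (.leaf 0x2525) (.leaf 0xad2c))))) (.node (.node (.node (.node (.leaf 0x73) (.leaf 0x262f)) (.node (.leaf 0x8367) (.leaf 0x967))) (.node (.node (.leaf 0x41ee) (.leaf 0x87b0)) (.node (.leaf 0x64cc) (.leaf 0xac34)))) (.node (.node (.node (.leaf 0xa132) (.leaf 0x26ed)) (.node (.leaf 0x8413) (.leaf 0x2a9d))) (.node (.node (.leaf 0x2ad) (.leaf 0xa888)) (.node (.leaf 0x4578) (.leaf 0x6eaf))))))) (.node (.node (.node (.node (.node (.node (.leaf 0x10) (.leaf 0x25ba)) (.node (.leaf 0x62f4) (.leaf 0x8dc))) (.node (.node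 (.leaf 0x217c) (.leaf 0xa738)) (.node (.leaf 0x6458) (.leaf 0x6b38)))) (.node (.node (.node (.leaf 0x20bf) (.leaf 0xa66e)) (.node (.leaf 0x23a8) (.leaf 0x49d9))) (.node (.node (.leaf 0x623b) (.leaf 0x27f3)) (.node (.leaf 0x450c) (.leaf 0x6cf0))))) (.node (.node (.node (.node (.leaf 0x2060) (.leaf 0x4618)) (.node (.leaf 0x6352) (.leaf 0x944))) (.node (.node (.leaf 0x21d3) (.leaf 0xa79b)) (.node (.leaf 0xa4b7) (.leaf 0x6c02)))) (.node (.node (.node (.leaf 0x211c) (.leaf 0x26d4)) (.node (.leaf 0xa3ff) (.leaf 0x6a71))) (.node (.node (.leaf 0x6298) (.leaf 0x286a)) (.node (.leaf 0x2564) (.leaf 0x4e5b)))))) (.node (.node (.node (.node (.node (.leaf 0x6036) (.leaf 0x25ec)) (.node (.leaf 0x2323) (.leaf 0x690f))) (.node (.node (.leaf 0xa1a5) (.leaf 0x676a)) (.node (.leaf 0xa485) (.leaf 0x4b97)))) (.node (.node (.node (.leaf 0xed) (.leaf 0x6a3)) (.node (.leaf 0x23d0) (.leaf 0xaa20))) (.node (.node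 (.leaf 0x6268) (.leaf 0x2826)) (.node (.leaf 0x4539) (.leaf 0x4d76))))) (.node (.node (.node (.node (.leaf 0xa090) (.leaf 0x4642)) (.node (.leaf 0x237d) (.leaf 0xa980))) (.node (.node (.leaf 0x4205) (.leaf 0xa7c8)) (.node (.leaf 0x24df) (.leaf 0x4c6b)))) (.node (.node (.node (.leaf 0x146) (.leaf 0x670a)) (.node (.leaf 0x6427) (.leaf 0xaca))) (.node (.node (.leaf 0xa2c3) (.leaf 0xa8a8)) (.node (.leaf 0x658b) (.leaf 0x4f3e)))))))) (.node (.node (.node (.node (.node (.node (.node (.leaf 0x8008) (.leaf 0x65b0)) (.node (.leaf 0x42e9) (.leaf 0x28cd))) (.node (.node (.leaf 0x216a) (.leaf 0x672a)) (.node (.leaf 0xa44b) (.leaf 0x4b20)))) (.node (.node (.node (.leaf 0x20b2) (.leaf 0x2662)) (.node (.leaf 0x439c) (.leaf 0x9c4))) (.node (.node (.leaf 0x222e) (.leaf 0x67e6)) (.node (.leaf 0x4501) (.leaf 0x4cc3))))) (.node (.node (.node (.node (.leaf 0xa055) (.leaf 0x660d)) (.node (.leaf 0x2349) (.leaf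 0xa935))) (.node (.node (.leaf 0xa1c7) (.leaf 0xa78b)) (.node (.leaf 0x64ad) (.leaf 0x6be9)))) (.node (.node (.node (.leaf 0x2110) (.leaf 0xa6c8)) (.node (.leaf 0x43f2) (.leaf 0xaa59))) (.node (.node (.leaf 0x628c) (.leaf 0x285b)) (.node (.leaf 0x8557) (.leaf 0x2e32)))))) (.node (.node (.node (.node (.node (.leaf 0xa02a) (.leaf 0x25df)) (.node (.leaf 0x318) (.leaf 0x8901))) (.node (.node (.leaf 0x419b) (.leaf 0x475b)) (.node (.leaf 0xa477) (.leaf 0x2b86)))) (.node (.node (.node (.leaf 0x40e3) (.leaf 0xa694)) (.node (.leaf 0x63c5) (.leaf 0xa05))) (.node (.node (.leaf 0x2260) (.leaf 0x481c)) (.node (.leaf 0x531) (.leaf 0x2d48))))) (.node (.node (.node (.node (.leaf 0xa07f) (.leaf 0x6637)) (.node (.leaf 0x4371) (.leaf 0x2973))) (.node (.node (.leaf 0x81fa) (.leaf 0x7be)) (.node (.leaf 0x24d6) (.leaf 0x6c5b)))) (.node (.node (.node (.leaf 0x813b) (.leaf 0xa6fc)) (.node (.leaf 0x641d) (.leaf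 0x8aae))) (.node (.node (.leaf 0xa2b7) (.leaf 0x6897)) (.node (.leaf 0x2581) (.leaf 0x4efc))))))) (.node (.node (.node (.node (.node (.node (.leaf 0xa018) (.leaf 0xa5c3)) (.node (.leaf 0x42ff) (.leaf 0xa8e5))) (.node (.node (.leaf 0xa185) (.leaf 0x748)) (.node (.leaf 0x4463) (.leaf 0x4b4a)))) (.node (.node (.node (.leaf 0x60cc) (.leaf 0x67a)) (.node (.leaf 0x43b1) (.leaf 0x69e4))) (.node (.node (.leaf 0x6247) (.leaf 0x4801)) (.node (.leaf 0x451a) (.leaf 0x4d0e))))) (.node (.node (.node (.node (.leaf 0xa068) (.leaf 0x2623)) (.node (.leaf 0xa35a) (.leaf 0xa951))) (.node (.node (.leaf 0x61df) (.leaf 0x27a6)) (.node (.leaf 0x24c4) (.leaf 0x6c14)))) (.node (.node (.node (.leaf 0x6126) (.leaf 0xa6de)) (.node (.leaf 0x8409) (.leaf 0x2a82))) (.node (.node (.leaf 0x42a0) (.leaf 0x4877)) (.node (.leaf 0x856c) (.leaf 0x6e76)))))) (.node (.node (.node (.node (.node (.leaf 0xa03e) (.leaf 0xa5f6)) (.node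 (.leaf 0x432e) (.leaf 0x6919))) (.node (.node (.leaf 0x21ae) (.leaf 0x6775)) (.node (.leaf 0xa495) (.leaf 0x2bb3)))) (.node (.node (.node (.leaf 0x20f9) (.leaf 0x26ab)) (.node (.leaf 0x23da) (.leaf 0x4a32))) (.node (.node (.leaf 0x4272) (.leaf 0xa837)) (.node (.leaf 0xa543) (.leaf 0x4dae))))) (.node (.node (.node (.node (.leaf 0x409b) (.leaf 0x64d)) (.node (.leaf 0xa386) (.leaf 0xa994))) (.node (.node (.leaf 0x4214) (.leaf 0x7d2)) (.node (.leaf 0x64e9) (.leaf 0x6c90)))) (.node (.node (.node (.leaf 0x2153) (.leaf 0x2716)) (.node (.leaf 0x4431) (.leaf 0xadd))) (.node (.node (.leaf 0x62d2) (.leaf 0x48b5)) (.node (.leaf 0xa596) (.leaf 0x6fa0))))))))) (.node (.node (.node (.node (.node (.node (.node (.node (.leaf 0x5) (.leaf 0x45a9)) (.node (.leaf 0x82e3) (.leaf 0x28c9))) (.node (.node (.leaf 0x164) (.leaf 0xa726)) (.node (.leaf 0xa444) (.leaf 0x8b10)))) (.node (.node (.node (.leaf 0x20ad)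 (.leaf 0xa65a)) (.node (.leaf 0xa397) (.leaf 0x9b5))) (.node (.node (.leaf 0x228) (.leaf 0xa7de)) (.node (.leaf 0x44f8) (.leaf 0x6cb5))))) (.node (.node (.node (.node (.leaf 0x8050) (.leaf 0xa607)) (.node (.leaf 0x340) (.leaf 0x492f))) (.node (.node (.leaf 0x41c3) (.leaf 0x4785)) (.node (.leaf 0xa4a7) (.leaf 0x2be0)))) (.node (.node (.node (.leaf 0x610b) (.leaf 0x46c2)) (.node (.leaf 0x63eb) (.leaf 0x4a4f))) (.node (.node (.leaf 0x286) (.leaf 0xa852)) (.node (.leaf 0x2554) (.leaf 0x4e0c)))))) (.node (.node (.node (.node (.node (.leaf 0x6025) (.leaf 0xa5d6)) (.node (.leaf 0x6311) (.leaf 0xa8f9))) (.node (.node (.leaf 0x6196) (.leaf 0x6757)) (.node (.leaf 0x6472) (.leaf 0x2b71)))) (.node (.node (.node (.leaf 0xa0dc) (.leaf 0x268e)) (.node (.leaf 0x43c1) (.leaf 0x29fd))) (.node (.node (.leaf 0x625a) (.leaf 0x818)) (.node (.leaf 0x252c) (.leaf 0x2d3e))))) (.node (.node (.node (.node (.leaf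 0x207a) (.leaf 0xa633)) (.node (.leaf 0x636d) (.leaf 0x896c))) (.node (.node (.leaf 0x61f4) (.leaf 0x27b7)) (.node (.leaf 0x24d2) (.leaf 0x4c4e)))) (.node (.node (.node (.leaf 0x137) (.leaf 0x6f6)) (.node (.leaf 0x8417) (.leaf 0x6aa7))) (.node (.node (.leaf 0x22b1) (.leaf 0x4890)) (.node (.leaf 0x657d) (.leaf 0xaed0))))))) (.node (.node (.node (.node (.node (.node (.leaf 0x6015) (.leaf 0x65bf)) (.node (.leaf 0x2fb) (.leaf 0x48e1))) (.node (.node (.leaf 0x4181) (.leaf 0x742)) (.node (.leaf 0xa45e) (.leaf 0x2b3f)))) (.node (.node (.node (.leaf 0x60c5) (.leaf 0x2675)) (.node (.leaf 0xa3ac) (.leaf 0x29df))) (.node (.node (.leaf 0x6240) (.leaf 0x27fa)) (.node (.leaf 0x4511) (.leaf 0x4cfb))))) (.node (.node (.node (.node (.leaf 0x66) (.leaf 0x61d)) (.node (.leaf 0xa356) (.leaf 0x6949))) (.node (.node (.leaf 0x1db) (.leaf 0x7a2)) (.node (.leaf 0xa4bb) (.leaf 0xac0b)))) (.node (.node (.node (.leaf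 0x2121) (.leaf 0x46d9)) (.node (.leaf 0x4404) (.leaf 0x6a7d))) (.node (.node (.leaf 0xa29b) (.leaf 0x886f)) (.node (.leaf 0xa568) (.leaf 0x6e64)))))) (.node (.node (.node (.node (.node (.leaf 0xa03a) (.leaf 0x45f0)) (.node (.leaf 0x432a) (.leaf 0xa914))) (.node (.node (.leaf 0x1aa) (.leaf 0x770)) (.node (.leaf 0xa48b) (.leaf 0xaba4)))) (.node (.node (.node (.leaf 0x40f1) (.leaf 0x66a7)) (.node (.leaf 0x63d5) (.leaf 0xaa2c))) (.node (.node (.leaf 0xa26d) (.leaf 0xa830)) (.node (.leaf 0x253f) (.leaf 0x6d8d))))) (.node (.node (.node (.node (.leaf 0x6096) (.leaf 0x2647)) (.node (.leaf 0x6382) (.leaf 0x298c))) (.node (.node (.leaf 0x420c) (.leaf 0x7ce)) (.node (.leaf 0x64e4) (.leaf 0x4c7d)))) (.node (.node (.node (.leaf 0x614e) (.leaf 0x470f)) (.node (.leaf 0xa42c) (.leaf 0x8ad0))) (.node (.node (.leaf 0x62c9) (.leaf 0x68ae)) (.node (.leaf 0x4590) (.leaf 0x4f99)))))))) (.node (.node (.node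 (.node (.node (.node (.node (.leaf 0x200c) (.leaf 0x5b6)) (.node (.leaf 0x42ef) (.leaf 0x88d2))) (.node (.node (.leaf 0x6175) (.leaf 0x2731)) (.node (.leaf 0x2452) (.leaf 0x6b28)))) (.node (.node (.node (.leaf 0x80b9) (.leaf 0xa666)) (.node (.leaf 0x63a4) (.leaf 0x49ca))) (.node (.node (.leaf 0x4233) (.leaf 0xa7ec)) (.node (.leaf 0x8507) (.leaf 0xacde))))) (.node (.node (.node (.node (.leaf 0xa05a) (.leaf 0x4613)) (.node (.leaf 0x234d) (.leaf 0x93f))) (.node (.node (.leaf 0x21cf) (.leaf 0xa792)) (.node (.leaf 0x44b3) (.leaf 0xabf3)))) (.node (.node (.node (.leaf 0x4115) (.leaf 0x86cd)) (.node (.leaf 0xa3fa) (.leaf 0xa68))) (.node (.node (.leaf 0xa291) (.leaf 0x4860)) (.node (.leaf 0x855d) (.leaf 0x4e4e)))))) (.node (.node (.node (.node (.node (.leaf 0x8030) (.leaf 0x45e6)) (.node (.leaf 0xa31e) (.leaf 0x90b))) (.node (.node (.leaf 0x21a0) (.leaf 0x764)) (.node (.leaf 0x647f) (.leaf 0x2b90))))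 (.node (.node (.node (.leaf 0x60e8) (.leaf 0x469b)) (.node (.leaf 0x63ca) (.leaf 0xaa0b))) (.node (.node (.leaf 0x8263) (.leaf 0x2820)) (.node (.leaf 0x6535) (.leaf 0xd67))))) (.node (.node (.node (.node (.leaf 0x4084) (.leaf 0xa63c)) (.node (.leaf 0x378) (.leaf 0xa97c))) (.node (.node (.leaf 0x6201) (.leaf 0x87c4)) (.node (.leaf 0xa4da) (.leaf 0x2c61)))) (.node (.node (.node (.leaf 0xa140) (.leaf 0x2702)) (.node (.leaf 0x4422) (.leaf 0x6abf))) (.node (.node (.leaf 0xa2bc) (.leaf 0xa89e)) (.node (.leaf 0x4586) (.leaf 0xaf15))))))) (.node (.node (.node (.node (.node (.node (.leaf 0x801c) (.leaf 0x25cb)) (.node (.leaf 0x2305) (.leaf 0x28ec))) (.node (.node (.leaf 0x218b) (.leaf 0x674e)) (.node (.leaf 0x8468) (.leaf 0x2b52)))) (.node (.node (.node (.leaf 0x20d1) (.leaf 0xa67d)) (.node (.leaf 0x43b6) (.leaf 0xa9ee))) (.node (.node (.leaf 0x224f) (.leaf 0x80b)) (.node (.leaf 0xa51f) (.leaf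 0x6d1a))))) (.node (.node (.node (.node (.leaf 0x806e) (.leaf 0x262a)) (.node (.leaf 0x360) (.leaf 0x295e))) (.node (.node (.leaf 0x1e7) (.leaf 0x67ab)) (.node (.leaf 0xa4c8) (.leaf 0x6c27)))) (.node (.node (.node (.leaf 0xa12c) (.leaf 0x6e8)) (.node (.leaf 0x440f) (.leaf 0x4a93))) (.node (.node (.leaf 0x42a5) (.leaf 0x882)) (.node (.leaf 0x4573) (.leaf 0xaea5)))))) (.node (.node (.node (.node (.node (.leaf 0x4046) (.leaf 0x5fd)) (.node (.leaf 0x8332) (.leaf 0x6920))) (.node (.node (.leaf 0xa1b5) (.leaf 0x677c)) (.node (.leaf 0x249b) (.leaf 0x4bbe)))) (.node (.node (.node (.leaf 0xa100) (.leaf 0x46b1)) (.node (.leaf 0xa3e1) (.leaf 0x4a38))) (.node (.node (.leaf 0x4279) (.leaf 0x4843)) (.node (.leaf 0x454b) (.leaf 0x4dc2))))) (.node (.node (.node (.node (.leaf 0x80a1) (.leaf 0x6650)) (.node (.leaf 0x438c) (.leaf 0x299d))) (.node (.node (.leaf 0xa21b) (.leaf 0x7d8)) (.node (.leaf 0xa4ed)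 (.leaf 0x6c97)))) (.node (.node (.node (.leaf 0x415a) (.leaf 0x71e)) (.node (.leaf 0x2439) (.leaf 0x8aef))) (.node (.node (.leaf 0x62d9) (.leaf 0x28be)) (.node (.leaf 0x59e) (.leaf 0x6fd2))))))))))

/-- Part of `fixPar`. -/
def fixPar_p011 : Tr := (.node (.node (.node (.node (.node (.node (.node (.node (.node (.leaf 0x4002) (.leaf 0x5a6)) (.node (.leaf 0x62e0) (.leaf 0x48c7))) (.node (.node (.leaf 0x4161) (.leaf 0x4724)) (.node (.leaf 0x4442) (.leaf 0x4b05)))) (.node (.node (.node (.leaf 0x80ab) (.leaf 0x6659)) (.node (.leaf 0x2395) (.leaf 0xa9b1))) (.node (.node (.leaf 0x2224) (.leaf 0x87dd)) (.node (.leaf 0x24f5) (.leaf 0x4ca6))))) (.node (.node (.node (.node (.leaf 0x404c) (.leaf 0xa604)) (.node (.leaf 0x833c) (.leaf 0x292b))) (.node (.node (.leaf 0x21c1) (.leaf 0x2783)) (.node (.leaf 0xa4a4) (.leaf 0xabce)))) (.node (.node (.node (.leaf 0xa108) (.leaf 0x66bf)) (.node (.leaf 0x63e9)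 (.leaf 0x4a4b))) (.node (.node (.leaf 0x6283) (.leaf 0xa84f)) (.node (.leaf 0xa551) (.leaf 0x6dfd)))))) (.node (.node (.node (.node (.node (.leaf 0x6023) (.leaf 0x45d5)) (.node (.leaf 0x230e) (.leaf 0x28f7))) (.node (.node (.leaf 0x194) (.leaf 0x6755)) (.node (.leaf 0x471) (.leaf 0x6b66)))) (.node (.node (.node (.leaf 0x20d9) (.leaf 0x6689)) (.node (.leaf 0x43bf) (.leaf 0x69fb))) (.node (.node (.leaf 0xa256) (.leaf 0x6813)) (.node (.leaf 0x4527) (.leaf 0x6d37))))) (.node (.node (.node (.node (.leaf 0x4075) (.leaf 0x4631)) (.node (.leaf 0x36b) (.leaf 0xa969))) (.node (.node (.leaf 0x1f2) (.leaf 0x47b4)) (.node (.leaf 0xa4ce) (.leaf 0x2c41)))) (.node (.node (.node (.leaf 0x2135) (.leaf 0xa6f2)) (.node (.leaf 0x6415) (.leaf 0x2aa0))) (.node (.node (.leaf 0x62af) (.leaf 0x488b)) (.node (.leaf 0x57b) (.leaf 0x6ebe))))))) (.node (.node (.node (.node (.node (.node (.leaf 0xa011) (.leaf 0xa5bc))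 (.node (.leaf 0x22f8) (.leaf 0x28df))) (.node (.node (.leaf 0x417f) (.leaf 0xa73d)) (.node (.leaf 0x445b) (.leaf 0xab3a)))) (.node (.node (.node (.leaf 0x40c1) (.leaf 0x2672)) (.node (.leaf 0x23aa) (.leaf 0x49dc))) (.node (.node (.leaf 0x23e) (.leaf 0x7f6)) (.node (.leaf 0x250f) (.leaf 0x4cf8))))) (.node (.node (.node (.node (.leaf 0x8062) (.leaf 0xa61a)) (.node (.leaf 0x2354) (.leaf 0x6945))) (.node (.node (.leaf 0x41d5) (.leaf 0x79f)) (.node (.leaf 0x84b9) (.leaf 0xac08)))) (.node (.node (.node (.leaf 0x611e) (.leaf 0x6d8)) (.node (.leaf 0x2402) (.leaf 0x6a75))) (.node (.node (.leaf 0x629a) (.leaf 0xa86d)) (.node (.leaf 0x4566) (.leaf 0x4e60)))))) (.node (.node (.node (.node (.node (.leaf 0x2039) (.leaf 0x45ee)) (.node (.leaf 0x2326) (.leaf 0x913))) (.node (.node (.leaf 0x21a7) (.leaf 0x876c)) (.node (.leaf 0x248a) (.leaf 0x4b9b)))) (.node (.node (.node (.leaf 0x20ef) (.leaf 0x86a4))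 (.node (.leaf 0x3d3) (.leaf 0x4a28))) (.node (.node (.leaf 0x426a) (.leaf 0x882e)) (.node (.leaf 0x653c) (.leaf 0x2d86))))) (.node (.node (.node (.node (.leaf 0x2093) (.leaf 0xa644)) (.node (.leaf 0xa37f) (.leaf 0xa988))) (.node (.node (.leaf 0x220a) (.leaf 0x47cb)) (.node (.leaf 0x44e2) (.leaf 0x2c77)))) (.node (.node (.node (.leaf 0xa149) (.leaf 0x270c)) (.node (.leaf 0x242a) (.leaf 0x6ace))) (.node (.node (.leaf 0x22c6) (.leaf 0x48ab)) (.node (.leaf 0x858d) (.leaf 0x6f65)))))))) (.node (.node (.node (.node (.node (.node (.node (.leaf 0xa00a) (.leaf 0x65b2)) (.node (.leaf 0x62ec) (.leaf 0x28d1))) (.node (.node (.leaf 0x816e) (.leaf 0xa72c)) (.node (.leaf 0x44f) (.leaf 0x4b23)))) (.node (.node (.node (.leaf 0x40b4) (.leaf 0xa664)) (.node (.leaf 0xa3a0) (.leaf 0x9c7))) (.node (.node (.leaf 0x8231) (.leaf 0x27eb)) (.node (.leaf 0xa503) (.leaf 0xacd0))))) (.node (.node (.node (.node (.leaf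 0x4058) (.leaf 0x8610)) (.node (.leaf 0x834a) (.leaf 0xa939))) (.node (.node (.leaf 0x21ca) (.leaf 0xa78e)) (.node (.leaf 0x24b0) (.leaf 0x6bf0)))) (.node (.node (.node (.leaf 0x4112) (.leaf 0x86cb)) (.node (.leaf 0x23f8) (.leaf 0x6a61))) (.node (.node (.leaf 0x428f) (.leaf 0x285e)) (.node (.leaf 0xa559) (.leaf 0x2e3d)))))) (.node (.node (.node (.node (.node (.leaf 0x802e) (.leaf 0x25e3)) (.node (.leaf 0x631a) (.leaf 0xa905))) (.node (.node (.leaf 0x19d) (.leaf 0xa75e)) (.node (.leaf 0x447c) (.leaf 0xb8b)))) (.node (.node (.node (.leaf 0x40e5) (.leaf 0x4698)) (.node (.leaf 0x23c8) (.leaf 0x4a08))) (.node (.node (.leaf 0x8261) (.leaf 0x481e)) (.node (.leaf 0x6532) (.leaf 0xad56))))) (.node (.node (.node (.node (.leaf 0x2082) (.leaf 0x8639)) (.node (.leaf 0x374) (.leaf 0xa977))) (.node (.node (.leaf 0x81fd) (.leaf 0x27c2)) (.node (.leaf 0x4d9) (.leaf 0x8c5f)))) (.node (.node (.node (.leaf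 0x413d) (.leaf 0x86ff)) (.node (.leaf 0x841f) (.leaf 0x6ab9))) (.node (.node (.leaf 0x42ba) (.leaf 0x689a)) (.node (.leaf 0xa582) (.leaf 0x8f01))))))) (.node (.node (.node (.node (.node (.node (.leaf 0x201b) (.leaf 0x45c6)) (.node (.leaf 0x6303) (.leaf 0xa8e8))) (.node (.node (.leaf 0x2188) (.leaf 0x474a)) (.node (.leaf 0x4466) (.leaf 0x6b4f)))) (.node (.node (.node (.leaf 0xa0ce) (.leaf 0x667b)) (.node (.leaf 0x23b4) (.leaf 0xa9e6))) (.node (.node (.leaf 0x2249) (.leaf 0x4807)) (.node (.leaf 0x451c) (.leaf 0x4d12))))) (.node (.node (.node (.node (.leaf 0x406b) (.leaf 0x4625)) (.node (.leaf 0x435d) (.leaf 0x695a))) (.node (.node (.leaf 0xa1e2) (.leaf 0x27a9)) (.node (.leaf 0x44c6) (.leaf 0xac1c)))) (.node (.node (.node (.leaf 0x6129) (.leaf 0x6e2)) (.node (.leaf 0x240d) (.leaf 0xa86))) (.node (.node (.leaf 0x22a3) (.leaf 0x87f)) (.node (.leaf 0x2571) (.leaf 0x6e98)))))) (.node (.node (.node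 (.node (.node (.leaf 0x4041) (.leaf 0x25f9)) (.node (.leaf 0xa330) (.leaf 0x291c))) (.node (.node (.leaf 0xa1b0) (.leaf 0x277a)) (.node (.leaf 0x4498) (.leaf 0x2bb6)))) (.node (.node (.node (.leaf 0x80fe) (.leaf 0x46ae)) (.node (.leaf 0x43dd) (.leaf 0x6a36))) (.node (.node (.leaf 0x4274) (.leaf 0x483d)) (.node (.leaf 0xa546) (.leaf 0xdb2))))) (.node (.node (.node (.node (.leaf 0x409d) (.leaf 0x864e)) (.node (.leaf 0x238a) (.leaf 0xa999))) (.node (.node (.leaf 0x6218) (.leaf 0x27d4)) (.node (.leaf 0x24eb) (.leaf 0xac95)))) (.node (.node (.node (.leaf 0x4155) (.leaf 0x2719)) (.node (.leaf 0x437) (.leaf 0x6ae7))) (.node (.node (.leaf 0x62d6) (.leaf 0x28b8)) (.node (.leaf 0x259a) (.leaf 0x2fb0))))))))) (.node (.node (.node (.node (.node (.node (.node (.node (.leaf 0x6006) (.leaf 0x65ab)) (.node (.leaf 0x22e7) (.leaf 0x68cb))) (.node (.node (.leaf 0x4166) (.leaf 0x8728)) (.node (.leaf 0x2447)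 (.leaf 0xab18)))) (.node (.node (.node (.leaf 0xa0af) (.leaf 0x660)) (.node (.leaf 0x239a) (.leaf 0x29bf))) (.node (.node (.leaf 0xa22b) (.leaf 0xa7e3)) (.node (.leaf 0x44fb) (.leaf 0xacbc))))) (.node (.node (.node (.node (.leaf 0xa053) (.leaf 0x60b)) (.node (.leaf 0x6342) (.leaf 0x2933))) (.node (.node (.leaf 0x1c6) (.leaf 0x8789)) (.node (.leaf 0x4ab) (.leaf 0x6be3)))) (.node (.node (.node (.leaf 0xa10d) (.leaf 0x66c4)) (.node (.leaf 0x83ef) (.leaf 0x2a52))) (.node (.node (.leaf 0x4288) (.leaf 0x856)) (.node (.leaf 0x556) (.leaf 0x6e21)))))) (.node (.node (.node (.node (.node (.leaf 0x4028) (.leaf 0xa5db)) (.node (.leaf 0xa314) (.leaf 0x28fb))) (.node (.node (.leaf 0x2198) (.leaf 0x2759)) (.node (.leaf 0x6475) (.leaf 0x2b7b)))) (.node (.node (.node (.leaf 0x40e0) (.leaf 0xa690)) (.node (.leaf 0x3c4) (.leaf 0x49ff))) (.node (.node (.leaf 0x225c) (.leaf 0x281a)) (.node (.leaf 0x452e) (.leaf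 0xd44))))) (.node (.node (.node (.node (.leaf 0x607d) (.leaf 0x8635)) (.node (.leaf 0x236f) (.leaf 0x2970))) (.node (.node (.leaf 0x61f8) (.leaf 0x47bb)) (.node (.leaf 0xa4d3) (.leaf 0xac57)))) (.node (.node (.node (.leaf 0x6139) (.leaf 0x26fa)) (.node (.leaf 0x641b) (.leaf 0x4aac))) (.node (.node (.leaf 0xa2b3) (.leaf 0x894)) (.node (.leaf 0x257f) (.leaf 0x4edf))))))) (.node (.node (.node (.node (.node (.node (.leaf 0x6017) (.leaf 0x65c1)) (.node (.leaf 0x22fd) (.leaf 0x88e3))) (.node (.node (.leaf 0x184) (.leaf 0x4745)) (.node (.leaf 0x2461) (.leaf 0x4b43)))) (.node (.node (.node (.leaf 0xca) (.leaf 0x4677)) (.node (.leaf 0x23af) (.leaf 0x29e1))) (.node (.node (.leaf 0x245) (.leaf 0x27ff)) (.node (.leaf 0x4513) (.leaf 0x2d05))))) (.node (.node (.node (.node (.leaf 0x4067) (.leaf 0x621)) (.node (.leaf 0x359) (.leaf 0x494c))) (.node (.node (.leaf 0x1dd) (.leaf 0x67a4)) (.node (.leaf 0x64c0)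 (.leaf 0x6c12)))) (.node (.node (.node (.leaf 0x124) (.leaf 0xa6db)) (.node (.leaf 0x8406) (.leaf 0x6a80))) (.node (.node (.leaf 0xa29d) (.leaf 0x2874)) (.node (.leaf 0x856a) (.leaf 0x6e72)))))) (.node (.node (.node (.node (.node (.leaf 0x3d) (.leaf 0x5f3)) (.node (.leaf 0x232c) (.leaf 0xa917))) (.node (.node (.leaf 0xa1ab) (.leaf 0x2772)) (.node (.leaf 0x4493) (.leaf 0x2ba9)))) (.node (.node (.node (.leaf 0x60f4) (.leaf 0x46a9)) (.node (.leaf 0x63d8) (.leaf 0xaa2e))) (.node (.node (.leaf 0x2270) (.leaf 0xa834)) (.node (.leaf 0xa540) (.leaf 0x6d9e))))) (.node (.node (.node (.node (.leaf 0x4099) (.leaf 0xa649)) (.node (.leaf 0x6385) (.leaf 0xa990))) (.node (.node (.leaf 0x2210) (.leaf 0x87cf)) (.node (.leaf 0x24e6) (.leaf 0x6c86)))) (.node (.node (.node (.leaf 0x151) (.leaf 0x6712)) (.node (.leaf 0x242f) (.leaf 0xad6))) (.node (.node (.leaf 0x42ce) (.leaf 0x8b2)) (.node (.leaf 0x4593) (.leaf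 0x6f9d)))))))) (.node (.node (.node (.node (.node (.node (.node (.leaf 0x400e) (.leaf 0x65b8)) (.node (.leaf 0x22f2) (.leaf 0x8d7))) (.node (.node (.leaf 0x2179) (.leaf 0xa733)) (.node (.leaf 0x6455) (.leaf 0xb2e)))) (.node (.node (.node (.leaf 0x40bc) (.leaf 0x4669)) (.node (.leaf 0x43a6) (.leaf 0xa9d0))) (.node (.node (.leaf 0x2238) (.leaf 0x7f0)) (.node (.leaf 0x250a) (.leaf 0x2ce6))))) (.node (.node (.node (.node (.leaf 0x405d) (.leaf 0x2616)) (.node (.leaf 0x6350) (.leaf 0x4941))) (.node (.node (.leaf 0x81d0) (.leaf 0x2796)) (.node (.leaf 0x44b5) (.leaf 0xabfb)))) (.node (.node (.node (.leaf 0x6118) (.leaf 0x26d0)) (.node (.leaf 0x23fd) (.leaf 0x4a6e))) (.node (.node (.leaf 0x2294) (.leaf 0x4865)) (.node (.leaf 0xa560) (.leaf 0x4e56)))))) (.node (.node (.node (.node (.node (.leaf 0x33) (.leaf 0xa5e9)) (.node (.leaf 0x6321) (.leaf 0x290d))) (.node (.node (.leaf 0x1a2) (.leaf 0xa766))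 (.node (.leaf 0x8483) (.leaf 0x2b93)))) (.node (.node (.node (.leaf 0x80ea) (.leaf 0x469f)) (.node (.leaf 0x23cd) (.leaf 0xaa15))) (.node (.node (.leaf 0x266) (.leaf 0xa822)) (.node (.leaf 0x2537) (.leaf 0x4d6d))))) (.node (.node (.node (.node (.leaf 0x208b) (.leaf 0x2640)) (.node (.leaf 0x637a) (.leaf 0x697f))) (.node (.node (.leaf 0x2203) (.leaf 0x47c6)) (.node (.leaf 0x64dd) (.leaf 0xac67)))) (.node (.node (.node (.leaf 0x143) (.leaf 0x4706)) (.node (.leaf 0xa425) (.leaf 0x4ac4))) (.node (.node (.leaf 0x42bf) (.leaf 0xa8a4)) (.node (.leaf 0x6589) (.leaf 0x4f27))))))) (.node (.node (.node (.node (.node (.node (.leaf 0x801e) (.leaf 0x85cd)) (.node (.leaf 0x309) (.leaf 0x88f1))) (.node (.node (.leaf 0x218e) (.leaf 0x2750)) (.node (.leaf 0xa46b) (.leaf 0x2b56)))) (.node (.node (.node (.leaf 0xd3) (.leaf 0xa683)) (.node (.leaf 0x43b8) (.leaf 0x9f3))) (.node (.node (.leaf 0x4251) (.leaf 0x680d))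 (.node (.leaf 0xa522) (.leaf 0x2d25))))) (.node (.node (.node (.node (.leaf 0x2070) (.leaf 0xa62c)) (.node (.leaf 0x6361) (.leaf 0xa962))) (.node (.node (.leaf 0xa1eb) (.leaf 0x87ad)) (.node (.leaf 0x84ca) (.leaf 0x2c2d)))) (.node (.node (.node (.leaf 0x612f) (.leaf 0xa6e9)) (.node (.leaf 0xa411) (.leaf 0x2a99))) (.node (.node (.leaf 0xa2aa) (.leaf 0x2884)) (.node (.leaf 0x2576) (.leaf 0x6ead)))))) (.node (.node (.node (.node (.node (.leaf 0xa047) (.leaf 0x65ff)) (.node (.leaf 0x4337) (.leaf 0x926))) (.node (.node (.leaf 0xa1b9) (.leaf 0x677f)) (.node (.leaf 0x649d) (.leaf 0x4bc3)))) (.node (.node (.node (.leaf 0xa103) (.leaf 0x46b8)) (.node (.leaf 0x23e4) (.leaf 0x4a3a))) (.node (.node (.leaf 0xa27c) (.leaf 0x6846)) (.node (.leaf 0x854d) (.leaf 0x6dcf))))) (.node (.node (.node (.node (.leaf 0x20a4) (.leaf 0xa651)) (.node (.leaf 0x6391) (.leaf 0x29a0))) (.node (.node (.leaf 0x221f) (.leaf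 0x27da)) (.node (.leaf 0x24ef) (.leaf 0x4c9f)))) (.node (.node (.node (.leaf 0x815c) (.leaf 0x6720)) (.node (.leaf 0x43d) (.leaf 0x8af3))) (.node (.node (.leaf 0x22db) (.leaf 0x48c2)) (.node (.leaf 0x65a0) (.leaf 0x6fed))))))))))

/-- Part of `fixPar`. -/
def fixPar_p01 : Tr := .node fixPar_p010 fixPar_p011

/-- Part of `fixPar`. -/
def fixPar_p0 : Tr := .node fixPar_p00 fixPar_p01

/-- Part of `fixPar`. -/
def fixPar_p100 : Tr := (.node (.node (.node (.node (.node (.node (.node (.node (.node (.leaf 0x2000) (.leaf 0x5a3)) (.node (.leaf 0x22dd) (.leaf 0x8c5))) (.node (.node (.leaf 0x215f) (.leaf 0xa721)) (.node (.leaf 0x643f) (.leaf 0xaaf6)))) (.node (.node (.node (.leaf 0xa0a7) (.leaf 0x6656)) (.node (.leaf 0x6393) (.leaf 0xa9a7))) (.node (.node (.leaf 0x2221) (.leaf 0x87db)) (.node (.leaf 0xa4f0) (.leaf 0x6ca0))))) (.node (.node (.node (.node (.leaf 0x2049) (.leaf 0x8601)) (.node (.leaf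 0x33a) (.leaf 0x4927))) (.node (.node (.leaf 0xa1bc) (.leaf 0x6781)) (.node (.leaf 0xa4a0) (.leaf 0x4bc5)))) (.node (.node (.node (.leaf 0x2105) (.leaf 0xa6b9)) (.node (.leaf 0x43e6) (.leaf 0xa44))) (.node (.node (.leaf 0x227f) (.leaf 0x2848)) (.node (.leaf 0x254f) (.leaf 0x2dd3)))))) (.node (.node (.node (.node (.node (.leaf 0x2020) (.leaf 0xa5cf)) (.node (.leaf 0x30c) (.leaf 0xa8f3))) (.node (.node (.leaf 0x2190) (.leaf 0x8751)) (.node (.leaf 0x246d) (.leaf 0x2b5c)))) (.node (.node (.node (.leaf 0xd6) (.leaf 0x2686)) (.node (.leaf 0xa3ba) (.leaf 0x49f6))) (.node (.node (.leaf 0x8252) (.leaf 0x880e)) (.node (.leaf 0x2524) (.leaf 0x4d2b))))) (.node (.node (.node (.node (.leaf 0x2072) (.leaf 0x462e)) (.node (.leaf 0x6364) (.leaf 0xa963))) (.node (.node (.leaf 0x41ed) (.leaf 0xa7af)) (.node (.leaf 0x24cc) (.leaf 0x2c32)))) (.node (.node (.node (.leaf 0x4132) (.leaf 0xa6ec)) (.node (.leaf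 0x4413) (.leaf 0x4a9b))) (.node (.node (.leaf 0x22ac) (.leaf 0x4887)) (.node (.leaf 0x8577) (.leaf 0xaeae))))))) (.node (.node (.node (.node (.node (.node (.leaf 0x200f) (.leaf 0xa5b9)) (.node (.leaf 0xa2f3) (.leaf 0x88d9))) (.node (.node (.leaf 0x17b) (.leaf 0xa737)) (.node (.leaf 0x2458) (.leaf 0xb38)))) (.node (.node (.node (.leaf 0xbe) (.leaf 0x466c)) (.node (.leaf 0x23a7) (.leaf 0x29d8))) (.node (.node (.leaf 0x23b) (.leaf 0xa7f1)) (.node (.leaf 0x250c) (.leaf 0xced))))) (.node (.node (.node (.node (.leaf 0x605f) (.leaf 0x2618)) (.node (.leaf 0x4352) (.leaf 0x6943))) (.node (.node (.leaf 0xa1d2) (.leaf 0xa799)) (.node (.leaf 0x44b7) (.leaf 0x2c02)))) (.node (.node (.node (.leaf 0xa11b) (.leaf 0x26d3)) (.node (.leaf 0x3ff) (.leaf 0x2a71))) (.node (.node (.leaf 0x298) (.leaf 0x8869)) (.node (.leaf 0xa563) (.leaf 0x6e59)))))) (.node (.node (.node (.node (.node (.leaf 0x6035) (.leaf 0x45eb))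 (.node (.leaf 0xa322) (.leaf 0xa90e))) (.node (.node (.leaf 0x61a5) (.leaf 0x76a)) (.node (.leaf 0x8485) (.leaf 0x4b96)))) (.node (.node (.node (.leaf 0x20ec) (.leaf 0x26a1)) (.node (.leaf 0xa3cf) (.leaf 0xaa1c))) (.node (.node (.leaf 0x4267) (.leaf 0xa825)) (.node (.leaf 0x8538) (.leaf 0x6d75))))) (.node (.node (.node (.node (.leaf 0x8090) (.leaf 0x2642)) (.node (.leaf 0xa37c) (.leaf 0x8980))) (.node (.node (.leaf 0x2205) (.leaf 0x47c8)) (.node (.leaf 0xa4de) (.leaf 0xc6b)))) (.node (.node (.node (.leaf 0x4144) (.leaf 0x4709)) (.node (.leaf 0x427) (.leaf 0x6ac6))) (.node (.node (.leaf 0x22c3) (.leaf 0x68a8)) (.node (.leaf 0x858a) (.leaf 0x4f3a)))))))) (.node (.node (.node (.node (.node (.node (.node (.leaf 0x4008) (.leaf 0x5b0)) (.node (.leaf 0x22e9) (.leaf 0x88cc))) (.node (.node (.leaf 0x6168) (.leaf 0x272a)) (.node (.leaf 0x444a) (.leaf 0xab1e)))) (.node (.node (.node (.leaf 0xa0b1)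 (.leaf 0x6661)) (.node (.leaf 0x239c) (.leaf 0x29c3))) (.node (.node (.leaf 0x422d) (.leaf 0x87e5)) (.node (.leaf 0x6500) (.leaf 0xacc0))))) (.node (.node (.node (.node (.leaf 0x8055) (.leaf 0x460c)) (.node (.leaf 0x8347) (.leaf 0x6935))) (.node (.node (.leaf 0x81c7) (.leaf 0x478b)) (.node (.leaf 0x44ac) (.leaf 0xbe9)))) (.node (.node (.node (.leaf 0x410f) (.leaf 0xa6c5)) (.node (.leaf 0x63f1) (.leaf 0x2a55))) (.node (.node (.leaf 0x228c) (.leaf 0xa85a)) (.node (.leaf 0x4557) (.leaf 0xae25)))))) (.node (.node (.node (.node (.node (.leaf 0x802a) (.leaf 0xa5dd)) (.node (.leaf 0x2317) (.leaf 0x900))) (.node (.node (.leaf 0x619a) (.leaf 0x875a)) (.node (.leaf 0x6477) (.leaf 0x2b80)))) (.node (.node (.node (.leaf 0x20e2) (.leaf 0x4694)) (.node (.leaf 0x23c5) (.leaf 0x6a04))) (.node (.node (.leaf 0x625f) (.leaf 0x81c)) (.node (.leaf 0x6530) (.leaf 0x2d45))))) (.node (.node (.node (.node (.leaf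 0x407f) (.leaf 0x637)) (.node (.leaf 0x8370) (.leaf 0xa972))) (.node (.node (.leaf 0x21fa) (.leaf 0x87bd)) (.node (.leaf 0x24d5) (.leaf 0xac5a)))) (.node (.node (.node (.leaf 0xa13a) (.leaf 0xa6fb)) (.node (.leaf 0x841c) (.leaf 0x4aae))) (.node (.node (.leaf 0x22b7) (.leaf 0x8895)) (.node (.leaf 0x8580) (.leaf 0x6ef8))))))) (.node (.node (.node (.node (.node (.node (.leaf 0x8018) (.leaf 0x65c3)) (.node (.leaf 0x22ff) (.leaf 0x28e5))) (.node (.node (.leaf 0x6185) (.leaf 0x2747)) (.node (.leaf 0x463) (.leaf 0x4b46)))) (.node (.node (.node (.leaf 0x60cb) (.leaf 0x6679)) (.node (.leaf 0x23b1) (.leaf 0x29e4))) (.node (.node (.leaf 0x4246) (.leaf 0x2801)) (.node (.leaf 0xa519) (.leaf 0x4d0a))))) (.node (.node (.node (.node (.leaf 0x6068) (.leaf 0x8622)) (.node (.leaf 0x635a) (.leaf 0xa94f))) (.node (.node (.leaf 0x41de) (.leaf 0xa7a5)) (.node (.leaf 0x24c3) (.leaf 0x8c13)))) (.node (.node (.node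 (.leaf 0x4125) (.leaf 0x86de)) (.node (.leaf 0x6409) (.leaf 0xaa81))) (.node (.node (.leaf 0x2a0) (.leaf 0x4876)) (.node (.leaf 0xa56b) (.leaf 0x2e74)))))) (.node (.node (.node (.node (.node (.leaf 0x603e) (.leaf 0x85f4)) (.node (.leaf 0x232e) (.leaf 0xa918))) (.node (.node (.leaf 0x41ad) (.leaf 0x4774)) (.node (.leaf 0x2494) (.leaf 0x4bae)))) (.node (.node (.node (.leaf 0x80f8) (.leaf 0x26aa)) (.node (.leaf 0xa3d9) (.leaf 0x4a31))) (.node (.node (.leaf 0x272) (.leaf 0xa836)) (.node (.leaf 0x6542) (.leaf 0x6da9))))) (.node (.node (.node (.node (.leaf 0x9b) (.leaf 0x664c)) (.node (.leaf 0x8386) (.leaf 0x8994))) (.node (.node (.leaf 0x8211) (.leaf 0x87d0)) (.node (.leaf 0x4e9) (.leaf 0xc8b)))) (.node (.node (.node (.leaf 0xa152) (.leaf 0xa715)) (.node (.leaf 0x431) (.leaf 0x6ad7))) (.node (.node (.leaf 0x82d1) (.leaf 0x68b4)) (.node (.leaf 0x596) (.leaf 0x8f9f))))))))) (.node (.node (.node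 (.node (.node (.node (.node (.node (.leaf 0xa003) (.leaf 0x85a8)) (.node (.leaf 0x42e3) (.leaf 0xa8c8))) (.node (.node (.leaf 0x6163) (.leaf 0x4726)) (.node (.leaf 0x2443) (.leaf 0x4b0f)))) (.node (.node (.node (.leaf 0xa0ac) (.leaf 0x865a)) (.node (.leaf 0xa396) (.leaf 0x29b4))) (.node (.node (.leaf 0x2227) (.leaf 0x87de)) (.node (.leaf 0x4f8) (.leaf 0x4cb3))))) (.node (.node (.node (.node (.leaf 0x804f) (.leaf 0xa606)) (.node (.leaf 0x833e) (.leaf 0x492d))) (.node (.node (.leaf 0x1c3) (.leaf 0xa784)) (.node (.leaf 0x44a6) (.leaf 0x2bdf)))) (.node (.node (.node (.leaf 0x410a) (.leaf 0xa6c1)) (.node (.leaf 0x23eb) (.leaf 0xaa4e))) (.node (.node (.leaf 0xa285) (.leaf 0x4852)) (.node (.leaf 0x6553) (.leaf 0x6e0b)))))) (.node (.node (.node (.node (.node (.leaf 0xa024) (.leaf 0x65d6)) (.node (.leaf 0x2310) (.leaf 0x68f9))) (.node (.node (.leaf 0x4195) (.leaf 0x2757)) (.node (.leaf 0x2472)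 (.leaf 0xab70)))) (.node (.node (.node (.leaf 0x40dc) (.leaf 0x468d)) (.node (.leaf 0x3c1) (.leaf 0xa9fc))) (.node (.node (.leaf 0x25a) (.leaf 0x2817)) (.node (.leaf 0xa52b) (.leaf 0x4d3c))))) (.node (.node (.node (.node (.leaf 0x8079) (.leaf 0x4633)) (.node (.leaf 0x436c) (.leaf 0x496c))) (.node (.node (.leaf 0x41f3) (.leaf 0x47b6)) (.node (.leaf 0x84d0) (.leaf 0x6c48)))) (.node (.node (.node (.leaf 0x2136) (.leaf 0x26f5)) (.node (.leaf 0x2417) (.leaf 0x4aa6))) (.node (.node (.leaf 0xa2b0) (.leaf 0x488e)) (.node (.leaf 0x457c) (.leaf 0x6ed0))))))) (.node (.node (.node (.node (.node (.node (.leaf 0x2015) (.leaf 0x5bf)) (.node (.leaf 0xa2f9) (.leaf 0x8e1))) (.node (.node (.leaf 0x181) (.leaf 0x4741)) (.node (.leaf 0xa45d) (.leaf 0x8b3e)))) (.node (.node (.node (.leaf 0x40c4) (.leaf 0x4674)) (.node (.leaf 0x83ac) (.leaf 0x69de))) (.node (.node (.leaf 0x423f) (.leaf 0x67f8)) (.node (.leaf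 0x511) (.leaf 0x2cfb))))) (.node (.node (.node (.node (.leaf 0xa064) (.leaf 0x661c)) (.node (.leaf 0xa355) (.leaf 0x4948))) (.node (.node (.leaf 0xa1d7) (.leaf 0x27a1)) (.node (.leaf 0x64bb) (.leaf 0x4c0b)))) (.node (.node (.node (.leaf 0x120) (.leaf 0xa6d8)) (.node (.leaf 0x404) (.leaf 0xa7d))) (.node (.node (.leaf 0x829b) (.leaf 0xa86e)) (.node (.leaf 0x4568) (.leaf 0x6e62)))))) (.node (.node (.node (.node (.node (.leaf 0xa039) (.leaf 0x65ef)) (.node (.leaf 0x6329) (.leaf 0xa913))) (.node (.node (.leaf 0x21a9) (.leaf 0x76f)) (.node (.leaf 0x648b) (.leaf 0x6ba3)))) (.node (.node (.node (.leaf 0x20f1) (.leaf 0x26a7)) (.node (.leaf 0x43d4) (.leaf 0xa2c))) (.node (.node (.leaf 0x426d) (.leaf 0x6830)) (.node (.leaf 0x653e) (.leaf 0xad8b))))) (.node (.node (.node (.node (.leaf 0x4095) (.leaf 0xa646)) (.node (.leaf 0x2382) (.leaf 0xa98b))) (.node (.node (.leaf 0x20c) (.leaf 0xa7cc)) (.node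 (.leaf 0x4e4) (.leaf 0xc7b)))) (.node (.node (.node (.leaf 0x414d) (.leaf 0x670e)) (.node (.leaf 0x442c) (.leaf 0xaacf))) (.node (.node (.leaf 0x22c9) (.leaf 0x28ae)) (.node (.leaf 0xa58e) (.leaf 0x2f87)))))))) (.node (.node (.node (.node (.node (.node (.node (.leaf 0xa00b) (.leaf 0x25b5)) (.node (.leaf 0x62ee) (.leaf 0x48d2))) (.node (.node (.leaf 0x6173) (.leaf 0x872f)) (.node (.leaf 0x4451) (.leaf 0x6b25)))) (.node (.node (.node (.leaf 0x60b6) (.leaf 0x8666)) (.node (.leaf 0x43a4) (.leaf 0x49c9))) (.node (.node (.leaf 0x233) (.leaf 0x67ec)) (.node (.leaf 0x506) (.leaf 0x6cdd))))) (.node (.node (.node (.node (.leaf 0x605a) (.leaf 0x2612)) (.node (.leaf 0xa34c) (.leaf 0x293e))) (.node (.node (.leaf 0x61cd) (.leaf 0xa791)) (.node (.leaf 0x4b3) (.leaf 0x6bf3)))) (.node (.node (.node (.leaf 0x2115) (.leaf 0x46cd)) (.node (.leaf 0xa3f9) (.leaf 0x8a62))) (.node (.node (.leaf 0x2290) (.leaf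 0x2860)) (.node (.leaf 0x255c) (.leaf 0x2e4d)))))) (.node (.node (.node (.node (.node (.leaf 0x2030) (.leaf 0x5e6)) (.node (.leaf 0x31e) (.leaf 0xa908))) (.node (.node (.leaf 0x819e) (.leaf 0x2762)) (.node (.leaf 0x47f) (.leaf 0x4b8d)))) (.node (.node (.node (.leaf 0x40e7) (.leaf 0x269b)) (.node (.leaf 0x3ca) (.leaf 0xaa09))) (.node (.node (.leaf 0x2263) (.leaf 0xa81f)) (.node (.leaf 0x4534) (.leaf 0x2d64))))) (.node (.node (.node (.node (.leaf 0x84) (.leaf 0x663c)) (.node (.leaf 0x2377) (.leaf 0x97c))) (.node (.node (.leaf 0x201) (.leaf 0xa7c3)) (.node (.leaf 0x64da) (.leaf 0xac60)))) (.node (.node (.node (.leaf 0x4140) (.leaf 0x2701)) (.node (.leaf 0xa420) (.leaf 0x8abd))) (.node (.node (.leaf 0x62bc) (.leaf 0x489e)) (.node (.leaf 0x8584) (.leaf 0x6f0b))))))) (.node (.node (.node (.node (.node (.node (.leaf 0x401c) (.leaf 0x65ca)) (.node (.leaf 0xa304) (.leaf 0x28eb))) (.node (.node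 (.leaf 0xa18a) (.leaf 0x474d)) (.node (.leaf 0x4468) (.leaf 0x4b51)))) (.node (.node (.node (.leaf 0x40d0) (.leaf 0x67d)) (.node (.leaf 0x3b6) (.leaf 0xa9ea))) (.node (.node (.leaf 0x424b) (.leaf 0x680a)) (.node (.leaf 0xa51e) (.leaf 0x6d19))))) (.node (.node (.node (.node (.leaf 0x606d) (.leaf 0x2629)) (.node (.leaf 0x635f) (.leaf 0x895d))) (.node (.node (.leaf 0x21e6) (.leaf 0x7ab)) (.node (.leaf 0x44c8) (.leaf 0x6c25)))) (.node (.node (.node (.leaf 0x812c) (.leaf 0xa6e6)) (.node (.leaf 0x240f) (.leaf 0xaa8f))) (.node (.node (.leaf 0x2a5) (.leaf 0x8880)) (.node (.leaf 0x573) (.leaf 0x6ea4)))))) (.node (.node (.node (.node (.node (.leaf 0x6045) (.leaf 0x25fc)) (.node (.leaf 0x4332) (.leaf 0x2920))) (.node (.node (.leaf 0x61b5) (.leaf 0x77c)) (.node (.leaf 0x449a) (.leaf 0x8bbb)))) (.node (.node (.node (.leaf 0x4100) (.leaf 0x86af)) (.node (.leaf 0x43e0) (.leaf 0xa38))) (.node (.node (.leaf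 0x6278) (.leaf 0x843)) (.node (.leaf 0x54b) (.leaf 0x4dbf))))) (.node (.node (.node (.node (.leaf 0x40a1) (.leaf 0x2650)) (.node (.leaf 0x38c) (.leaf 0x99c))) (.node (.node (.leaf 0x421b) (.leaf 0x87d5)) (.node (.leaf 0x64ed) (.leaf 0x4c97)))) (.node (.node (.node (.leaf 0x6158) (.leaf 0x271c)) (.node (.leaf 0xa438) (.leaf 0x8aed))) (.node (.node (.leaf 0x22d9) (.leaf 0xa8bd)) (.node (.leaf 0xa59c) (.leaf 0x4fcd))))))))))

/-- Part of `fixPar`. -/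
def fixPar_p101 : Tr := (.node (.node (.node (.node (.node (.node (.node (.node (.node (.leaf 0x2002) (.leaf 0x65a5)) (.node (.leaf 0x42df) (.leaf 0x68c6))) (.node (.node (.leaf 0x161) (.leaf 0x2724)) (.node (.leaf 0xa441) (.leaf 0x4b04)))) (.node (.node (.node (.leaf 0xa0aa) (.leaf 0x2659)) (.node (.leaf 0xa394) (.leaf 0xa9b0))) (.node (.node (.leaf 0xa223) (.leaf 0x67dd)) (.node (.leaf 0xa4f4) (.leaf 0x6ca3))))) (.node (.node (.node (.node (.leaf 0x4c) (.leaf 0x4604)) (.node (.leaf 0x433c) (.leaf 0xa92a))) (.node (.node (.leaf 0x21c0) (.leaf 0xa782)) (.node (.leaf 0x24a3) (.leaf 0x2bce)))) (.node (.node (.node (.leaf 0x4108) (.leaf 0x86bc)) (.node (.leaf 0x83e8) (.leaf 0xa49))) (.node (.node (.leaf 0x2283) (.leaf 0xa84d)) (.node (.leaf 0x6551) (.leaf 0x4de1)))))) (.node (.node (.node (.node (.node (.leaf 0x4022) (.leaf 0x5d5)) (.node (.leaf 0xa30d) (.leaf 0xa8f6))) (.node (.node (.leaf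 0x2193) (.leaf 0x755)) (.node (.leaf 0x446f) (.leaf 0x4b62)))) (.node (.node (.node (.leaf 0x40d8) (.leaf 0x4688)) (.node (.leaf 0x23be) (.leaf 0x49fa))) (.node (.node (.leaf 0x6256) (.leaf 0x4812)) (.node (.leaf 0x2527) (.leaf 0xad34))))) (.node (.node (.node (.node (.leaf 0x4074) (.leaf 0x2631)) (.node (.leaf 0x236a) (.leaf 0x6969))) (.node (.node (.leaf 0x21f1) (.leaf 0x7b4)) (.node (.leaf 0x64ce) (.leaf 0xac3b)))) (.node (.node (.node (.leaf 0x4134) (.leaf 0x86f2)) (.node (.leaf 0x415) (.leaf 0xaa9f))) (.node (.node (.leaf 0x42ae) (.leaf 0x88b)) (.node (.leaf 0x257a) (.leaf 0x4eb2))))))) (.node (.node (.node (.node (.node (.node (.leaf 0x8011) (.leaf 0x45bc)) (.node (.leaf 0x22f7) (.leaf 0x48de))) (.node (.node (.leaf 0x217e) (.leaf 0x273c)) (.node (.leaf 0x45b) (.leaf 0x6b3a)))) (.node (.node (.node (.leaf 0xc1) (.leaf 0x671)) (.node (.leaf 0xa3a9) (.leaf 0x9dc))) (.node (.node (.leaf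 0x223d) (.leaf 0x47f5)) (.node (.leaf 0x450e) (.leaf 0xcf8))))) (.node (.node (.node (.node (.leaf 0x8061) (.leaf 0x461a)) (.node (.leaf 0xa353) (.leaf 0x2945))) (.node (.node (.leaf 0x21d5) (.leaf 0x279e)) (.node (.leaf 0x44b9) (.leaf 0x6c08)))) (.node (.node (.node (.leaf 0x211e) (.leaf 0xa6d6)) (.node (.leaf 0x4401) (.leaf 0x2a75))) (.node (.node (.leaf 0x429a) (.leaf 0x86d)) (.node (.leaf 0x2566) (.leaf 0x6e5f)))))) (.node (.node (.node (.node (.node (.leaf 0xa037) (.leaf 0x5ee)) (.node (.leaf 0x4325) (.leaf 0x912))) (.node (.node (.leaf 0xa1a6) (.leaf 0x276c)) (.node (.leaf 0xa488) (.leaf 0x6b9a)))) (.node (.node (.node (.leaf 0xa0ee) (.leaf 0x46a4)) (.node (.leaf 0x23d2) (.leaf 0x2a27))) (.node (.node (.leaf 0xa269) (.leaf 0x882c)) (.node (.leaf 0x53c) (.leaf 0x8d7e))))) (.node (.node (.node (.node (.leaf 0x2092) (.leaf 0x4644)) (.node (.leaf 0x637f) (.leaf 0xa983))) (.node (.node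 (.leaf 0x8209) (.leaf 0x87ca)) (.node (.leaf 0x4e2) (.leaf 0xc76)))) (.node (.node (.node (.leaf 0x2149) (.leaf 0xa70b)) (.node (.leaf 0x2429) (.leaf 0x2ace))) (.node (.node (.leaf 0x42c5) (.leaf 0xa8aa)) (.node (.leaf 0x258d) (.leaf 0x4f59)))))))) (.node (.node (.node (.node (.node (.node (.node (.leaf 0x400a) (.leaf 0x85b1)) (.node (.leaf 0x22ec) (.leaf 0xa8cf))) (.node (.node (.leaf 0x416e) (.leaf 0x672c)) (.node (.leaf 0x244e) (.leaf 0xb23)))) (.node (.node (.node (.leaf 0xb4) (.leaf 0xa663)) (.node (.leaf 0x3a0) (.leaf 0x29c6))) (.node (.node (.leaf 0xa230) (.leaf 0x27ea)) (.node (.leaf 0x8503) (.leaf 0x6cd0))))) (.node (.node (.node (.node (.leaf 0x58) (.leaf 0x660f)) (.node (.leaf 0x434a) (.leaf 0x2939))) (.node (.node (.leaf 0x41c9) (.leaf 0x678e)) (.node (.leaf 0xa4af) (.leaf 0xbef)))) (.node (.node (.node (.leaf 0x112) (.leaf 0xa6ca)) (.node (.leaf 0x43f7) (.leaf 0xaa5d))) (.node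 (.node (.leaf 0xa28e) (.leaf 0x285d)) (.node (.leaf 0x2559) (.leaf 0x2e3c)))))) (.node (.node (.node (.node (.node (.leaf 0x402e) (.leaf 0xa5e1)) (.node (.leaf 0x4319) (.leaf 0x4905))) (.node (.node (.leaf 0x619c) (.leaf 0xa75c)) (.node (.leaf 0x647b) (.leaf 0x2b8a)))) (.node (.node (.node (.leaf 0xe5) (.leaf 0x698)) (.node (.leaf 0xa3c7) (.leaf 0x4a07))) (.node (.node (.leaf 0x4261) (.leaf 0x681d)) (.node (.leaf 0x2532) (.leaf 0x2d56))))) (.node (.node (.node (.node (.leaf 0x4081) (.leaf 0x2639)) (.node (.leaf 0xa372) (.leaf 0x8977))) (.node (.node (.leaf 0x21fd) (.leaf 0x87c0)) (.node (.leaf 0xa4d8) (.leaf 0xc5f)))) (.node (.node (.node (.leaf 0x13d) (.leaf 0x6ff)) (.node (.leaf 0x241f) (.leaf 0xaab4))) (.node (.node (.leaf 0x42b9) (.leaf 0x4899)) (.node (.leaf 0x6582) (.leaf 0x6f00))))))) (.node (.node (.node (.node (.node (.node (.leaf 0x401a) (.leaf 0xa5c5)) (.node (.leaf 0x4301)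 (.leaf 0x68e8))) (.node (.node (.leaf 0x4187) (.leaf 0x74a)) (.node (.leaf 0x6465) (.leaf 0x2b4f)))) (.node (.node (.node (.leaf 0x40ce) (.leaf 0x267b)) (.node (.leaf 0x43b3) (.leaf 0x69e6))) (.node (.node (.leaf 0xa248) (.leaf 0x8805)) (.node (.leaf 0x251b) (.leaf 0x2d12))))) (.node (.node (.node (.node (.leaf 0x6b) (.leaf 0x2625)) (.node (.leaf 0x35d) (.leaf 0x295a))) (.node (.node (.leaf 0xa1e0) (.leaf 0xa7a8)) (.node (.leaf 0x24c6) (.leaf 0xac17)))) (.node (.node (.node (.leaf 0x2129) (.leaf 0x26e1)) (.node (.leaf 0xa40c) (.leaf 0x2a85))) (.node (.node (.leaf 0x42a2) (.leaf 0x287d)) (.node (.leaf 0xa570) (.leaf 0x6e94)))))) (.node (.node (.node (.node (.node (.leaf 0x41) (.leaf 0x25f8)) (.node (.leaf 0x4330) (.leaf 0xa91b))) (.node (.node (.leaf 0x1b0) (.leaf 0x4779)) (.node (.leaf 0x498) (.leaf 0xbb5)))) (.node (.node (.node (.leaf 0x80fc) (.leaf 0xa6ad)) (.node (.leaf 0x43dc) (.leaf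 0x4a34))) (.node (.node (.leaf 0x6273) (.leaf 0x83d)) (.node (.leaf 0x4545) (.leaf 0x2db1))))) (.node (.node (.node (.node (.leaf 0x209d) (.leaf 0x464e)) (.node (.leaf 0xa388) (.leaf 0x6999))) (.node (.node (.leaf 0x6217) (.leaf 0x87d3)) (.node (.leaf 0xa4ea) (.leaf 0xac91)))) (.node (.node (.node (.leaf 0x2155) (.leaf 0x4718)) (.node (.leaf 0x8433) (.leaf 0x6ae6))) (.node (.node (.leaf 0x82d5) (.leaf 0x48b7)) (.node (.leaf 0x2599) (.leaf 0x2faf))))))))) (.node (.node (.node (.node (.node (.node (.node (.node (.leaf 0x2006) (.leaf 0x5ab)) (.node (.leaf 0xa2e6) (.leaf 0x8cb))) (.node (.node (.leaf 0x166) (.leaf 0x4728)) (.node (.leaf 0x4446) (.leaf 0xab16)))) (.node (.node (.node (.leaf 0x60af) (.leaf 0xa65d)) (.node (.leaf 0x4399) (.leaf 0x29ba))) (.node (.node (.leaf 0x622b) (.leaf 0x67e1)) (.node (.leaf 0x64fa) (.leaf 0x6cbc))))) (.node (.node (.node (.node (.leaf 0x8053) (.leaf 0x260a))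 (.node (.leaf 0x6341) (.leaf 0x4932))) (.node (.node (.leaf 0x61c5) (.leaf 0x6788)) (.node (.leaf 0x24aa) (.leaf 0x4be3)))) (.node (.node (.node (.leaf 0x410d) (.leaf 0x26c3)) (.node (.leaf 0x3ef) (.leaf 0x8a50))) (.node (.node (.leaf 0x288) (.leaf 0x2855)) (.node (.leaf 0x2555) (.leaf 0x4e1e)))))) (.node (.node (.node (.node (.node (.leaf 0x2027) (.leaf 0x5db)) (.node (.leaf 0x8314) (.leaf 0xa8fa))) (.node (.node (.leaf 0xa197) (.leaf 0xa758)) (.node (.leaf 0x2475) (.leaf 0xab7a)))) (.node (.node (.node (.leaf 0x20df) (.leaf 0x4690)) (.node (.leaf 0x63c3) (.leaf 0x89fe))) (.node (.node (.leaf 0xa25b) (.leaf 0x4819)) (.node (.leaf 0x52e) (.leaf 0x6d43))))) (.node (.node (.node (.node (.leaf 0xa07c) (.leaf 0x4635)) (.node (.leaf 0xa36e) (.leaf 0xa96f))) (.node (.node (.leaf 0x81f7) (.leaf 0x67ba)) (.node (.leaf 0x64d3) (.leaf 0xac54)))) (.node (.node (.node (.leaf 0x4138) (.leaf 0xa6f9))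 (.node (.leaf 0x41b) (.leaf 0x6aab))) (.node (.node (.leaf 0x42b3) (.leaf 0x2893)) (.node (.leaf 0xa57e) (.leaf 0x2ede))))))) (.node (.node (.node (.node (.node (.node (.leaf 0x17) (.leaf 0x85c0)) (.node (.leaf 0xa2fc) (.leaf 0x48e3))) (.node (.node (.leaf 0x2183) (.leaf 0x745)) (.node (.leaf 0xa460) (.leaf 0xb43)))) (.node (.node (.node (.leaf 0x80c8) (.leaf 0x677)) (.node (.leaf 0x23ae) (.leaf 0xa9e0))) (.node (.node (.leaf 0x2244) (.leaf 0x87fe)) (.node (.leaf 0x6512) (.leaf 0x4d03))))) (.node (.node (.node (.node (.leaf 0xa066) (.leaf 0x861e)) (.node (.leaf 0x4358) (.leaf 0x294b))) (.node (.node (.leaf 0x21dc) (.leaf 0x47a3)) (.node (.leaf 0x24bf) (.leaf 0x8c10)))) (.node (.node (.node (.leaf 0x2123) (.leaf 0x66db)) (.node (.leaf 0x4406) (.leaf 0xaa7e))) (.node (.node (.leaf 0x829d) (.leaf 0xa873)) (.node (.leaf 0x456a) (.leaf 0x4e70)))))) (.node (.node (.node (.node (.node (.leaf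 0x403c) (.leaf 0x25f2)) (.node (.leaf 0xa32b) (.leaf 0x8917))) (.node (.node (.leaf 0x21ab) (.leaf 0x8771)) (.node (.leaf 0xa492) (.leaf 0x8ba8)))) (.node (.node (.node (.leaf 0x40f3) (.leaf 0xa6a8)) (.node (.leaf 0x83d7) (.leaf 0x6a2e))) (.node (.node (.leaf 0x426f) (.leaf 0x8834)) (.node (.leaf 0x8540) (.leaf 0x4d9d))))) (.node (.node (.node (.node (.leaf 0x2098) (.leaf 0x6649)) (.node (.leaf 0x385) (.leaf 0x298f))) (.node (.node (.leaf 0x620e) (.leaf 0x47cf)) (.node (.leaf 0xa4e5) (.leaf 0xc82)))) (.node (.node (.node (.leaf 0x2150) (.leaf 0x4711)) (.node (.leaf 0x442e) (.leaf 0x8ad4))) (.node (.node (.leaf 0x82cc) (.leaf 0xa8af)) (.node (.leaf 0x6592) (.leaf 0x4f9c)))))))) (.node (.node (.node (.node (.node (.node (.node (.leaf 0xa00d) (.leaf 0x45b7)) (.node (.leaf 0x82f0) (.leaf 0xa8d5))) (.node (.node (.leaf 0x4178) (.leaf 0xa732)) (.node (.leaf 0x2455) (.leaf 0x4b2a)))) (.node (.node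 (.node (.leaf 0x20bb) (.leaf 0x2668)) (.node (.leaf 0xa3a5) (.leaf 0x69cf))) (.node (.node (.leaf 0x6235) (.leaf 0xa7ef)) (.node (.leaf 0x2509) (.leaf 0xce3))))) (.node (.node (.node (.node (.leaf 0x5d) (.leaf 0x4615)) (.node (.leaf 0x434f) (.leaf 0x941))) (.node (.node (.leaf 0x41d0) (.leaf 0xa795)) (.node (.leaf 0x24b5) (.leaf 0x4bfb)))) (.node (.node (.node (.leaf 0x2118) (.leaf 0xa6cf)) (.node (.leaf 0xa3fc) (.leaf 0xa6e))) (.node (.node (.leaf 0x4293) (.leaf 0x8864)) (.node (.leaf 0x255f) (.leaf 0x4e55)))))) (.node (.node (.node (.node (.node (.leaf 0x2032) (.leaf 0xa5e8)) (.node (.leaf 0x2321) (.leaf 0x690c))) (.node (.node (.leaf 0x21a1) (.leaf 0x4766)) (.node (.leaf 0x4483) (.leaf 0x4b92)))) (.node (.node (.node (.leaf 0x40ea) (.leaf 0x669e)) (.node (.leaf 0x63cc) (.leaf 0xaa14))) (.node (.node (.leaf 0x2265) (.leaf 0x6822)) (.node (.leaf 0xa536) (.leaf 0x6d6c))))) (.node (.node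 (.node (.node (.leaf 0xa08a) (.leaf 0xa63f)) (.node (.leaf 0x237a) (.leaf 0x97f))) (.node (.node (.leaf 0xa202) (.leaf 0x27c6)) (.node (.leaf 0x4dd) (.leaf 0xc64)))) (.node (.node (.node (.leaf 0x2142) (.leaf 0x706)) (.node (.leaf 0x425) (.leaf 0xac4))) (.node (.node (.leaf 0x2bf) (.leaf 0x48a4)) (.node (.leaf 0x589) (.leaf 0x4f25))))))) (.node (.node (.node (.node (.node (.node (.leaf 0x201e) (.leaf 0x25cd)) (.node (.leaf 0x2308) (.leaf 0xa8f0))) (.node (.node (.leaf 0xa18d) (.leaf 0xa74f)) (.node (.leaf 0x646a) (.leaf 0xb54)))) (.node (.node (.node (.leaf 0x20d2) (.leaf 0xa67f)) (.node (.leaf 0x63b7) (.leaf 0x49f2))) (.node (.node (.leaf 0xa250) (.leaf 0x280d)) (.node (.leaf 0x8522) (.leaf 0x8d24))))) (.node (.node (.node (.node (.leaf 0xa06f) (.leaf 0x462c)) (.node (.leaf 0x2361) (.leaf 0x6962))) (.node (.node (.leaf 0x61eb) (.leaf 0x27ad)) (.node (.leaf 0x44ca) (.leaf 0x4c2c)))) (.node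 (.node (.node (.leaf 0xa12e) (.leaf 0x66e9)) (.node (.leaf 0x4411) (.leaf 0xa98))) (.node (.node (.leaf 0x42aa) (.leaf 0x8883)) (.node (.leaf 0x6575) (.leaf 0x2eaa)))))) (.node (.node (.node (.node (.node (.leaf 0x8047) (.leaf 0x45fe)) (.node (.leaf 0x6336) (.leaf 0x2925))) (.node (.node (.leaf 0x61b9) (.leaf 0x277f)) (.node (.leaf 0x249d) (.leaf 0x2bc2)))) (.node (.node (.node (.leaf 0x8103) (.leaf 0x86b7)) (.node (.leaf 0x43e3) (.leaf 0x6a39))) (.node (.node (.leaf 0x27c) (.leaf 0xa845)) (.node (.leaf 0x654c) (.leaf 0x6dcc))))) (.node (.node (.node (.node (.leaf 0x80a3) (.leaf 0x8651)) (.node (.leaf 0x2390) (.leaf 0x299f))) (.node (.node (.leaf 0xa21e) (.leaf 0x67d9)) (.node (.leaf 0xa4ee) (.leaf 0xc9f)))) (.node (.node (.node (.leaf 0x415c) (.leaf 0x471f)) (.node (.leaf 0x243c) (.leaf 0x4af3))) (.node (.node (.leaf 0xa2da) (.leaf 0x8c2)) (.node (.leaf 0x459f) (.leaf 0x2fec))))))))))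

/-- Part of `fixPar`. -/
def fixPar_p10 : Tr := .node fixPar_p100 fixPar_p101

/-- Part of `fixPar`. -/
def fixPar_p110 : Tr := (.node (.node (.node (.node (.node (.node (.node (.node (.node (.leaf 0x4001) (.leaf 0x25a4)) (.node (.leaf 0x42de) (.leaf 0xa8c5))) (.node (.node (.leaf 0xa15f) (.leaf 0x6722)) (.node (.leaf 0x2441) (.leaf 0xab00)))) (.node (.node (.node (.leaf 0x20aa) (.leaf 0x6657)) (.node (.leaf 0x4394) (.leaf 0x29ab))) (.node (.node (.leaf 0x4222) (.leaf 0x67dc)) (.node (.leaf 0x24f2) (.leaf 0x8ca1))))) (.node (.node (.node (.node (.leaf 0xa04a) (.leaf 0x6602)) (.node (.leaf 0x633b) (.leaf 0x92a))) (.node (.node (.leaf 0x41be) (.leaf 0x4782)) (.node (.leaf 0x84a2) (.leaf 0xbcd)))) (.node (.node (.node (.leaf 0xa106) (.leaf 0x66bb)) (.node (.leaf 0x63e7) (.leaf 0xaa45))) (.node (.node (.leaf 0xa280) (.leaf 0x84b)) (.node (.leaf 0xa54f) (.leaf 0x2ddd)))))) (.node (.node (.node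 (.node (.node (.leaf 0x4021) (.leaf 0x25d3)) (.node (.leaf 0xa30c) (.leaf 0x28f5))) (.node (.node (.leaf 0x192) (.leaf 0xa752)) (.node (.leaf 0x446e) (.leaf 0x4b5d)))) (.node (.node (.node (.leaf 0x20d7) (.leaf 0x4687)) (.node (.leaf 0x63bd) (.leaf 0x49f8))) (.node (.node (.leaf 0x6254) (.leaf 0x2811)) (.node (.leaf 0x526) (.leaf 0xad31))))) (.node (.node (.node (.node (.leaf 0x4073) (.leaf 0x462f)) (.node (.leaf 0xa368) (.leaf 0x6967))) (.node (.node (.leaf 0x1f0) (.leaf 0xa7b0)) (.node (.leaf 0xa4cc) (.leaf 0x2c38)))) (.node (.node (.node (.leaf 0x2133) (.leaf 0xa6ef)) (.node (.leaf 0x2414) (.leaf 0xa9e))) (.node (.node (.leaf 0x42ad) (.leaf 0x2889)) (.node (.leaf 0x2579) (.leaf 0xaeaf))))))) (.node (.node (.node (.node (.node (.node (.leaf 0x4010) (.leaf 0x65ba)) (.node (.leaf 0x42f5) (.leaf 0x28dd))) (.node (.node (.leaf 0x617d) (.leaf 0x2739)) (.node (.leaf 0xa459) (.leaf 0xab38))))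 (.node (.node (.node (.leaf 0xa0bf) (.leaf 0xa66f)) (.node (.leaf 0x83a8) (.leaf 0x49da))) (.node (.node (.leaf 0xa23b) (.leaf 0x27f4)) (.node (.leaf 0x650d) (.leaf 0xacf0))))) (.node (.node (.node (.node (.leaf 0x6060) (.leaf 0x6619)) (.node (.leaf 0xa352) (.leaf 0x4944))) (.node (.node (.leaf 0x1d4) (.leaf 0x279c)) (.node (.leaf 0x24b8) (.leaf 0x2c06)))) (.node (.node (.node (.leaf 0x11d) (.leaf 0xa6d4)) (.node (.leaf 0x2400) (.leaf 0x4a72))) (.node (.node (.leaf 0xa298) (.leaf 0x886a)) (.node (.leaf 0x565) (.leaf 0x4e5c)))))) (.node (.node (.node (.node (.node (.leaf 0x4037) (.leaf 0x45ec)) (.node (.leaf 0x2324) (.leaf 0xa90f))) (.node (.node (.leaf 0x41a6) (.leaf 0xa76a)) (.node (.leaf 0x488) (.leaf 0x6b98)))) (.node (.node (.node (.leaf 0x40ed) (.leaf 0x66a3)) (.node (.leaf 0x3d1) (.leaf 0x2a22))) (.node (.node (.leaf 0x269) (.leaf 0x482a)) (.node (.leaf 0xa539) (.leaf 0x6d77)))))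 (.node (.node (.node (.node (.leaf 0x6091) (.leaf 0x6643)) (.node (.leaf 0xa37d) (.leaf 0x2981))) (.node (.node (.leaf 0x6206) (.leaf 0x27c9)) (.node (.leaf 0x24e0) (.leaf 0xac6c)))) (.node (.node (.node (.leaf 0xa146) (.leaf 0x70b)) (.node (.leaf 0xa427) (.leaf 0x2acb))) (.node (.node (.leaf 0x22c4) (.leaf 0x28aa)) (.node (.leaf 0x58c) (.leaf 0x2f48)))))))) (.node (.node (.node (.node (.node (.node (.node (.leaf 0xa008) (.leaf 0x85b0)) (.node (.leaf 0x62ea) (.leaf 0x68cd))) (.node (.node (.leaf 0x816b) (.leaf 0xa72a)) (.node (.leaf 0x244c) (.leaf 0xb22)))) (.node (.node (.node (.leaf 0xb3) (.leaf 0x2663)) (.node (.leaf 0x639d) (.leaf 0x49c4))) (.node (.node (.leaf 0x230) (.leaf 0xa7e6)) (.node (.leaf 0x8501) (.leaf 0x4cc5))))) (.node (.node (.node (.node (.leaf 0xa056) (.leaf 0x460e)) (.node (.leaf 0x6349) (.leaf 0x4936))) (.node (.node (.leaf 0x21c8) (.leaf 0x278c)) (.node (.leaf 0xa4ae)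 (.leaf 0x4bea)))) (.node (.node (.node (.leaf 0xa110) (.leaf 0x66c9)) (.node (.leaf 0x63f5) (.leaf 0xaa5b))) (.node (.node (.leaf 0x228e) (.leaf 0x85c)) (.node (.leaf 0xa557) (.leaf 0x2e39)))))) (.node (.node (.node (.node (.node (.leaf 0x602d) (.leaf 0xa5df)) (.node (.leaf 0x4318) (.leaf 0x2904))) (.node (.node (.leaf 0x819b) (.leaf 0xa75b)) (.node (.leaf 0x8478) (.leaf 0xab88)))) (.node (.node (.node (.leaf 0xa0e3) (.leaf 0x2695)) (.node (.leaf 0x43c6) (.leaf 0x4a05))) (.node (.node (.leaf 0x6260) (.leaf 0xa81c)) (.node (.leaf 0x4531) (.leaf 0x4d52))))) (.node (.node (.node (.node (.leaf 0x2080) (.leaf 0xa637)) (.node (.leaf 0x2372) (.leaf 0x2974))) (.node (.node (.leaf 0x41fc) (.leaf 0x87bf)) (.node (.leaf 0xa4d6) (.leaf 0xac5b)))) (.node (.node (.node (.leaf 0xa13b) (.leaf 0x26fd)) (.node (.leaf 0x41e) (.leaf 0x4aaf))) (.node (.node (.leaf 0x22b8) (.leaf 0xa897)) (.node (.leaf 0x6581)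 (.leaf 0x4efd))))))) (.node (.node (.node (.node (.node (.node (.leaf 0x2019) (.leaf 0x25c5)) (.node (.leaf 0x6300) (.leaf 0xa8e7))) (.node (.node (.leaf 0x2186) (.leaf 0x4748)) (.node (.leaf 0x2464) (.leaf 0x4b4c)))) (.node (.node (.node (.leaf 0xa0cc) (.leaf 0x467a)) (.node (.leaf 0x63b2) (.leaf 0xa9e4))) (.node (.node (.leaf 0x248) (.leaf 0x6802)) (.node (.leaf 0x851a) (.leaf 0x4d0f))))) (.node (.node (.node (.node (.leaf 0x2069) (.leaf 0x624)) (.node (.leaf 0x235b) (.leaf 0x2952))) (.node (.node (.leaf 0x1e0) (.leaf 0x87a7)) (.node (.leaf 0x4c5) (.leaf 0x4c17)))) (.node (.node (.node (.leaf 0x127) (.leaf 0x26df)) (.node (.leaf 0x440b) (.leaf 0x2a83))) (.node (.node (.leaf 0x22a1) (.leaf 0x487c)) (.node (.leaf 0xa56e) (.leaf 0x4e7d)))))) (.node (.node (.node (.node (.node (.leaf 0x203f) (.leaf 0x45f7)) (.node (.leaf 0x632f) (.leaf 0xa919))) (.node (.node (.leaf 0x41ae) (.leaf 0x4777))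 (.node (.leaf 0xa496) (.leaf 0x6bb3)))) (.node (.node (.node (.leaf 0x80f9) (.leaf 0xa6ab)) (.node (.leaf 0x23db) (.leaf 0x6a33))) (.node (.node (.leaf 0xa272) (.leaf 0x83a)) (.node (.leaf 0x2544) (.leaf 0x8dae))))) (.node (.node (.node (.node (.leaf 0x9c) (.leaf 0x664d)) (.node (.leaf 0x2387) (.leaf 0x4997))) (.node (.node (.leaf 0x2215) (.leaf 0x67d2)) (.node (.leaf 0xa4e9) (.leaf 0x4c91)))) (.node (.node (.node (.leaf 0x154) (.leaf 0x2717)) (.node (.leaf 0x2432) (.leaf 0x4add))) (.node (.node (.leaf 0x62d3) (.leaf 0x28b6)) (.node (.leaf 0xa597) (.leaf 0x8fa4))))))))) (.node (.node (.node (.node (.node (.node (.node (.node (.leaf 0x4005) (.leaf 0x25aa)) (.node (.leaf 0x2e6) (.leaf 0x68c9))) (.node (.node (.leaf 0xa164) (.leaf 0x2727)) (.node (.leaf 0x2445) (.leaf 0xb16)))) (.node (.node (.node (.leaf 0x80ae) (.leaf 0x265d)) (.node (.leaf 0x2398) (.leaf 0x49b5))) (.node (.node (.leaf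 0x4228) (.leaf 0x67df)) (.node (.leaf 0x24f9) (.leaf 0x4cb8))))) (.node (.node (.node (.node (.leaf 0xa050) (.leaf 0x2608)) (.node (.leaf 0x8340) (.leaf 0x2930))) (.node (.node (.leaf 0x21c4) (.leaf 0xa785)) (.node (.leaf 0xa4a8) (.leaf 0x6be0)))) (.node (.node (.node (.leaf 0xa10b) (.leaf 0x86c2)) (.node (.leaf 0x83eb) (.leaf 0x2a50))) (.node (.node (.leaf 0xa286) (.leaf 0x2853)) (.node (.leaf 0x6554) (.leaf 0xae0c)))))) (.node (.node (.node (.node (.node (.leaf 0xa025) (.leaf 0x25d7)) (.node (.leaf 0x2313) (.leaf 0x48fa))) (.node (.node (.leaf 0x197) (.leaf 0x758)) (.node (.leaf 0x8473) (.leaf 0x4b74)))) (.node (.node (.node (.leaf 0x20dd) (.leaf 0x468e)) (.node (.leaf 0x23c2) (.leaf 0x69fd))) (.node (.node (.leaf 0xa25a) (.leaf 0x4818)) (.node (.leaf 0x52d) (.leaf 0x6d41))))) (.node (.node (.node (.node (.leaf 0x807a) (.leaf 0x2634)) (.node (.leaf 0x36e) (.leaf 0x296d))) (.node (.node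 (.leaf 0x21f6) (.leaf 0x47b7)) (.node (.leaf 0x64d2) (.leaf 0xc53)))) (.node (.node (.node (.leaf 0x4137) (.leaf 0x46f6)) (.node (.leaf 0x4419) (.leaf 0x4aa9))) (.node (.node (.leaf 0x62b1) (.leaf 0xa890)) (.node (.leaf 0x57e) (.leaf 0x4ed8))))))) (.node (.node (.node (.node (.node (.node (.leaf 0xa015) (.leaf 0xa5bf)) (.node (.leaf 0xa2fb) (.leaf 0xa8e1))) (.node (.node (.leaf 0x4182) (.leaf 0x4742)) (.node (.leaf 0x245f) (.leaf 0x8b40)))) (.node (.node (.node (.leaf 0x20c6) (.leaf 0x4675)) (.node (.leaf 0x63ad) (.leaf 0x9e0))) (.node (.node (.leaf 0x2243) (.leaf 0x7fc)) (.node (.leaf 0xa511) (.leaf 0x2d01))))) (.node (.node (.node (.node (.leaf 0x6066) (.leaf 0x661d)) (.node (.leaf 0x2357) (.leaf 0x94a))) (.node (.node (.leaf 0x41db) (.leaf 0x47a2)) (.node (.leaf 0x4bd) (.leaf 0x2c0c)))) (.node (.node (.node (.leaf 0x122) (.leaf 0xa6d9)) (.node (.leaf 0x2405) (.leaf 0x4a7e))) (.node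 (.node (.leaf 0x229c) (.leaf 0xa86f)) (.node (.leaf 0x2569) (.leaf 0x8e65)))))) (.node (.node (.node (.node (.node (.leaf 0x203b) (.leaf 0x85f0)) (.node (.leaf 0x32b) (.leaf 0x2915))) (.node (.node (.leaf 0x41aa) (.leaf 0x6770)) (.node (.leaf 0x6491) (.leaf 0xaba5)))) (.node (.node (.node (.leaf 0x60f2) (.leaf 0x6a8)) (.node (.leaf 0x23d6) (.leaf 0x4a2d))) (.node (.node (.leaf 0x226e) (.leaf 0x4833)) (.node (.leaf 0x653f) (.leaf 0xd91))))) (.node (.node (.node (.node (.leaf 0x6097) (.leaf 0xa647)) (.node (.leaf 0xa382) (.leaf 0x98d))) (.node (.node (.leaf 0x220d) (.leaf 0x67ce)) (.node (.leaf 0xa4e4) (.leaf 0x2c7e)))) (.node (.node (.node (.leaf 0x414f) (.leaf 0x870f)) (.node (.leaf 0x242d) (.leaf 0x2ad2))) (.node (.node (.leaf 0x42ca) (.leaf 0x48af)) (.node (.leaf 0x4591) (.leaf 0x6f9a)))))))) (.node (.node (.node (.node (.node (.node (.node (.leaf 0xd) (.leaf 0x45b6)) (.node (.leaf 0x22f0)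 (.leaf 0xa8d2))) (.node (.node (.leaf 0x6176) (.leaf 0x2732)) (.node (.leaf 0x4452) (.leaf 0x4b29)))) (.node (.node (.node (.leaf 0x60ba) (.leaf 0x6667)) (.node (.leaf 0xa3a4) (.leaf 0x69cb))) (.node (.node (.leaf 0x2234) (.leaf 0x27ee)) (.node (.leaf 0xa507) (.leaf 0x2cdf))))) (.node (.node (.node (.node (.leaf 0x205b) (.leaf 0x2614)) (.node (.leaf 0x34e) (.leaf 0x493f))) (.node (.node (.leaf 0x61cf) (.leaf 0x2793)) (.node (.leaf 0x4b4) (.leaf 0x4bf4)))) (.node (.node (.node (.leaf 0x6116) (.leaf 0xa6cd)) (.node (.leaf 0x23fb) (.leaf 0x2a6a))) (.node (.node (.leaf 0x2292) (.leaf 0x6861)) (.node (.leaf 0x55e) (.leaf 0x6e4f)))))) (.node (.node (.node (.node (.node (.leaf 0xa030) (.leaf 0xa5e6)) (.node (.leaf 0x231f) (.leaf 0x890b))) (.node (.node (.leaf 0x61a0) (.leaf 0x2765)) (.node (.leaf 0xa47f) (.leaf 0x2b91)))) (.node (.node (.node (.leaf 0x20e9) (.leaf 0x669c)) (.node (.leaf 0xa3ca)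 (.leaf 0x6a0f))) (.node (.node (.leaf 0xa263) (.leaf 0xa820)) (.node (.leaf 0x536) (.leaf 0xad67))))) (.node (.node (.node (.node (.leaf 0x2085) (.leaf 0x863d)) (.node (.leaf 0x6378) (.leaf 0x297e))) (.node (.node (.leaf 0xa201) (.leaf 0x7c5)) (.node (.leaf 0x44db) (.leaf 0x4c62)))) (.node (.node (.node (.leaf 0x2141) (.leaf 0x4703)) (.node (.leaf 0x2423) (.leaf 0x8ac0))) (.node (.node (.leaf 0xa2bd) (.leaf 0x48a1)) (.node (.leaf 0x2587) (.leaf 0x2f23))))))) (.node (.node (.node (.node (.node (.node (.leaf 0xa01c) (.leaf 0x65cb)) (.node (.leaf 0x307) (.leaf 0x8f0))) (.node (.node (.leaf 0x218d) (.leaf 0x74f)) (.node (.leaf 0x4469) (.leaf 0x6b52)))) (.node (.node (.node (.leaf 0x60d1) (.leaf 0x67f)) (.node (.leaf 0xa3b6) (.leaf 0x29ef))) (.node (.node (.leaf 0x250) (.leaf 0x680b)) (.node (.leaf 0x2520) (.leaf 0x4d1b))))) (.node (.node (.node (.node (.leaf 0xa06e) (.leaf 0x62b)) (.node (.leaf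 0x4360) (.leaf 0x895e))) (.node (.node (.leaf 0x41e7) (.leaf 0xa7ab)) (.node (.leaf 0x24c9) (.leaf 0x4c28)))) (.node (.node (.node (.leaf 0x612d) (.leaf 0x46e8)) (.node (.leaf 0x6410) (.leaf 0x6a94))) (.node (.node (.leaf 0xa2a5) (.leaf 0x6882)) (.node (.leaf 0x2574) (.leaf 0x2ea8)))))) (.node (.node (.node (.node (.node (.leaf 0x8046) (.leaf 0x45fd)) (.node (.leaf 0x4333) (.leaf 0x2922))) (.node (.node (.leaf 0x41b6) (.leaf 0xa77c)) (.node (.leaf 0x449b) (.leaf 0x2bbf)))) (.node (.node (.node (.leaf 0x2101) (.leaf 0x46b5)) (.node (.leaf 0x23e2) (.leaf 0xaa38))) (.node (.node (.leaf 0xa279) (.leaf 0xa843)) (.node (.leaf 0xa54b) (.leaf 0x4dc3))))) (.node (.node (.node (.node (.leaf 0x60a2) (.leaf 0xa650)) (.node (.leaf 0x238d) (.leaf 0x99e))) (.node (.node (.leaf 0x221d) (.leaf 0x87d8)) (.node (.leaf 0x44ee) (.leaf 0x6c9b)))) (.node (.node (.node (.leaf 0x815a) (.leaf 0x471e)) (.node (.leaf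 0x443a) (.leaf 0x2af2))) (.node (.node (.leaf 0xa2d9) (.leaf 0x28c0)) (.node (.leaf 0x459e) (.leaf 0x4fd5))))))))))

/-- Part of `fixPar`. -/
def fixPar_p111 : Tr := (.node (.node (.node (.node (.node (.node (.node (.node (.node (.leaf 0xa002) (.leaf 0x65a7)) (.node (.leaf 0x2e1) (.leaf 0x88c7))) (.node (.node (.leaf 0x2162) (.leaf 0x6725)) (.node (.leaf 0x8442) (.leaf 0xab05)))) (.node (.node (.node (.leaf 0xa0ab) (.leaf 0xa659)) (.node (.leaf 0x6396) (.leaf 0x29b2))) (.node (.node (.leaf 0x2226) (.leaf 0xa7dd)) (.node (.leaf 0xa4f6) (.leaf 0x6ca7))))) (.node (.node (.node (.node (.leaf 0x404d) (.leaf 0x2605)) (.node (.leaf 0xa33c) (.leaf 0x692b))) (.node (.node (.leaf 0xa1c1) (.leaf 0x2784)) (.node (.leaf 0x24a5) (.leaf 0x4bd2)))) (.node (.node (.node (.leaf 0x2109) (.leaf 0xa6bf)) (.node (.leaf 0x43ea) (.leaf 0x2a4c))) (.node (.node (.leaf 0xa283) (.leaf 0x2851)) (.node (.leaf 0x4552)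 (.leaf 0xadfd)))))) (.node (.node (.node (.node (.node (.leaf 0x24) (.leaf 0x85d5)) (.node (.leaf 0x30f) (.leaf 0x8f8))) (.node (.node (.leaf 0x4194) (.leaf 0xa755)) (.node (.leaf 0x4471) (.leaf 0x2b6a)))) (.node (.node (.node (.leaf 0xdb) (.leaf 0x268b)) (.node (.leaf 0xa3bf) (.leaf 0x9fc))) (.node (.node (.leaf 0x4257) (.leaf 0xa813)) (.node (.leaf 0xa529) (.leaf 0x2d3a))))) (.node (.node (.node (.node (.leaf 0x8078) (.leaf 0x6632)) (.node (.leaf 0x436b) (.leaf 0x896a))) (.node (.node (.leaf 0x41f2) (.leaf 0x27b5)) (.node (.leaf 0x84cf) (.leaf 0xc42)))) (.node (.node (.node (.leaf 0x6135) (.leaf 0x26f3)) (.node (.leaf 0xa415) (.leaf 0x2aa4))) (.node (.node (.leaf 0x2b0) (.leaf 0x288c)) (.node (.leaf 0x457b) (.leaf 0x4ec9))))))) (.node (.node (.node (.node (.node (.node (.leaf 0xa012) (.leaf 0x25bd)) (.node (.leaf 0x22f9) (.leaf 0x48df))) (.node (.node (.leaf 0xa17f) (.leaf 0xa73f)) (.node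 (.leaf 0x645c) (.leaf 0x4b3b)))) (.node (.node (.node (.leaf 0x20c2) (.leaf 0x2673)) (.node (.leaf 0x3ab) (.leaf 0x29dd))) (.node (.node (.leaf 0x423e) (.leaf 0x47f6)) (.node (.leaf 0x450f) (.leaf 0xcfa))))) (.node (.node (.node (.node (.leaf 0x8063) (.leaf 0x261b)) (.node (.leaf 0x2355) (.leaf 0x4946))) (.node (.node (.leaf 0x1d7) (.leaf 0x479f)) (.node (.leaf 0x44ba) (.leaf 0x6c0a)))) (.node (.node (.node (.leaf 0xa11e) (.leaf 0x46d8)) (.node (.leaf 0x4402) (.leaf 0xaa77))) (.node (.node (.leaf 0xa29a) (.leaf 0x286e)) (.node (.leaf 0x6567) (.leaf 0x8e60)))))) (.node (.node (.node (.node (.node (.leaf 0x6039) (.leaf 0xa5ee)) (.node (.leaf 0x4326) (.leaf 0x4913))) (.node (.node (.leaf 0x1a8) (.leaf 0xa76d)) (.node (.leaf 0x848a) (.leaf 0x8b9b)))) (.node (.node (.node (.leaf 0xf0) (.leaf 0x26a5)) (.node (.leaf 0x43d3) (.leaf 0x2a2a))) (.node (.node (.leaf 0x626b) (.leaf 0x682f)) (.node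 (.leaf 0xa53c) (.leaf 0xad87))))) (.node (.node (.node (.node (.leaf 0x94) (.leaf 0x2645)) (.node (.leaf 0x381) (.leaf 0x2989))) (.node (.node (.leaf 0xa20a) (.leaf 0x27cc)) (.node (.leaf 0xa4e2) (.leaf 0x6c79)))) (.node (.node (.node (.leaf 0x214a) (.leaf 0x670c)) (.node (.leaf 0xa42a) (.leaf 0xacf))) (.node (.node (.leaf 0x42c6) (.leaf 0x88ab)) (.node (.leaf 0xa58d) (.leaf 0x2f6b)))))))) (.node (.node (.node (.node (.node (.node (.node (.leaf 0x200b) (.leaf 0xa5b3)) (.node (.leaf 0x42ed) (.leaf 0x68d1))) (.node (.node (.leaf 0x8170) (.leaf 0x472d)) (.node (.leaf 0x2450) (.leaf 0x2b24)))) (.node (.node (.node (.leaf 0x20b5) (.leaf 0x666)) (.node (.leaf 0x63a1) (.leaf 0x49c7))) (.node (.node (.leaf 0xa231) (.leaf 0x67eb)) (.node (.leaf 0xa504) (.leaf 0xcdb))))) (.node (.node (.node (.node (.leaf 0x8059) (.leaf 0x2611)) (.node (.leaf 0xa34a) (.leaf 0x293b))) (.node (.node (.leaf 0x41ca)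 (.leaf 0xa78f)) (.node (.leaf 0xa4b1) (.leaf 0x2bf2)))) (.node (.node (.node (.leaf 0x2113) (.leaf 0x66cc)) (.node (.leaf 0x3f9) (.leaf 0xaa61))) (.node (.node (.leaf 0x828f) (.leaf 0x85f)) (.node (.leaf 0x455a) (.leaf 0x6e3e)))))) (.node (.node (.node (.node (.node (.leaf 0xa02e) (.leaf 0x25e4)) (.node (.leaf 0x631c) (.leaf 0x6908))) (.node (.node (.leaf 0x619d) (.leaf 0x2760)) (.node (.leaf 0x447d) (.leaf 0x4b8b)))) (.node (.node (.node (.leaf 0xe6) (.leaf 0x2699)) (.node (.leaf 0x63c8) (.leaf 0xaa08))) (.node (.node (.leaf 0xa261) (.leaf 0x881e)) (.node (.leaf 0x4533) (.leaf 0xad58))))) (.node (.node (.node (.node (.leaf 0xa082) (.leaf 0x263b)) (.node (.leaf 0xa374) (.leaf 0x297b))) (.node (.node (.leaf 0x81ff) (.leaf 0x7c3)) (.node (.leaf 0xa4d9) (.leaf 0xac5f)))) (.node (.node (.node (.leaf 0x213e) (.leaf 0xa6ff)) (.node (.leaf 0xa41f) (.leaf 0x8aba))) (.node (.node (.leaf 0x62bb)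 (.leaf 0x89b)) (.node (.leaf 0x8583) (.leaf 0x8f07))))))) (.node (.node (.node (.node (.node (.node (.leaf 0x601b) (.leaf 0x85c6)) (.node (.leaf 0x2304) (.leaf 0x28e9))) (.node (.node (.leaf 0x4188) (.leaf 0x674c)) (.node (.leaf 0x2467) (.leaf 0x4b50)))) (.node (.node (.node (.leaf 0x20cf) (.leaf 0x467c)) (.node (.leaf 0x43b4) (.leaf 0x29ea))) (.node (.node (.leaf 0x6249) (.leaf 0x8807)) (.node (.leaf 0x251e) (.leaf 0x4d16))))) (.node (.node (.node (.node (.leaf 0x206c) (.leaf 0x6626)) (.node (.leaf 0x235e) (.leaf 0x495b))) (.node (.node (.leaf 0x1e5) (.leaf 0x67a9)) (.node (.leaf 0x64c7) (.leaf 0x4c23)))) (.node (.node (.node (.leaf 0x412a) (.leaf 0x6e3)) (.node (.leaf 0x40e) (.leaf 0x6a8a))) (.node (.node (.leaf 0x42a3) (.leaf 0x687f)) (.node (.leaf 0x572) (.leaf 0xae9d)))))) (.node (.node (.node (.node (.node (.leaf 0x4042) (.leaf 0x5fa)) (.node (.leaf 0x2331) (.leaf 0x91d))) (.node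 (.node (.leaf 0x61b1) (.leaf 0x677a)) (.node (.leaf 0x2499) (.leaf 0x6bb6)))) (.node (.node (.node (.leaf 0xa0fe) (.leaf 0x26af)) (.node (.leaf 0x63de) (.leaf 0x4a37))) (.node (.node (.leaf 0x4277) (.leaf 0x883d)) (.node (.leaf 0x2549) (.leaf 0x4dbe))))) (.node (.node (.node (.node (.leaf 0x609e) (.leaf 0xa64e)) (.node (.leaf 0xa38a) (.leaf 0xa99a))) (.node (.node (.leaf 0x4219) (.leaf 0x67d4)) (.node (.leaf 0x44ec) (.leaf 0x2c96)))) (.node (.node (.node (.leaf 0x6156) (.leaf 0xa71a)) (.node (.leaf 0x6437) (.leaf 0x2aea))) (.node (.node (.leaf 0x62d7) (.leaf 0x8b9)) (.node (.leaf 0x59b) (.leaf 0x6fc0))))))))) (.node (.node (.node (.node (.node (.node (.node (.node (.leaf 0xa006) (.leaf 0xa5ab)) (.node (.leaf 0x2e8) (.leaf 0xa8cb))) (.node (.node (.leaf 0x2167) (.leaf 0x4729)) (.node (.leaf 0x4447) (.leaf 0xab1b)))) (.node (.node (.node (.leaf 0x20b0) (.leaf 0x8660)) (.node (.leaf 0x39b)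 (.leaf 0x29c1))) (.node (.node (.leaf 0x222c) (.leaf 0x7e5)) (.node (.leaf 0x64ff) (.leaf 0xacbd))))) (.node (.node (.node (.node (.leaf 0x2054) (.leaf 0x460b)) (.node (.leaf 0x4343) (.leaf 0xa933))) (.node (.node (.leaf 0x61c6) (.leaf 0x678a)) (.node (.leaf 0x44ab) (.leaf 0x8be4)))) (.node (.node (.node (.leaf 0x210e) (.leaf 0xa6c4)) (.node (.leaf 0xa3ef) (.leaf 0xaa52))) (.node (.node (.leaf 0x2289) (.leaf 0x857)) (.node (.leaf 0x6556) (.leaf 0x6e24)))))) (.node (.node (.node (.node (.node (.leaf 0x6029) (.leaf 0x5dc)) (.node (.leaf 0x2315) (.leaf 0x68fc))) (.node (.node (.leaf 0x4199) (.leaf 0x6759)) (.node (.leaf 0xa475) (.leaf 0x4b7c)))) (.node (.node (.node (.leaf 0x60e1) (.leaf 0x2691)) (.node (.leaf 0x43c4) (.leaf 0x6a02))) (.node (.node (.leaf 0x25d) (.leaf 0x481a)) (.node (.leaf 0x252f) (.leaf 0x4d44))))) (.node (.node (.node (.node (.leaf 0xa07d) (.leaf 0x2636)) (.node (.leaf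 0x636f) (.leaf 0x971))) (.node (.node (.leaf 0x41f9) (.leaf 0x27bc)) (.node (.leaf 0x84d4) (.leaf 0x2c5a)))) (.node (.node (.node (.leaf 0x13a) (.leaf 0x26fb)) (.node (.leaf 0x841b) (.leaf 0x2aad))) (.node (.node (.leaf 0x62b4) (.leaf 0x6894)) (.node (.leaf 0x657f) (.leaf 0x6ee2))))))) (.node (.node (.node (.node (.node (.node (.leaf 0xa017) (.leaf 0x85c1)) (.node (.leaf 0x2fe) (.leaf 0x48e4))) (.node (.node (.leaf 0x4184) (.leaf 0xa745)) (.node (.leaf 0x462) (.leaf 0x8b43)))) (.node (.node (.node (.leaf 0x80ca) (.leaf 0x2678)) (.node (.leaf 0x3b0) (.leaf 0x69e1))) (.node (.node (.leaf 0x4245) (.leaf 0x800)) (.node (.leaf 0x6514) (.leaf 0x2d06))))) (.node (.node (.node (.node (.leaf 0x8067) (.leaf 0x6621)) (.node (.leaf 0x8359) (.leaf 0xa94c))) (.node (.node (.leaf 0x41dd) (.leaf 0x7a5)) (.node (.leaf 0x44c1) (.leaf 0x8c12)))) (.node (.node (.node (.leaf 0x4124) (.leaf 0x66dd)) (.node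 (.leaf 0x4408) (.leaf 0x4a81))) (.node (.node (.leaf 0xa29e) (.leaf 0x875)) (.node (.leaf 0x56b) (.leaf 0x4e73)))))) (.node (.node (.node (.node (.node (.leaf 0x803d) (.leaf 0x65f3)) (.node (.leaf 0x32d) (.leaf 0x6918))) (.node (.node (.leaf 0x21ac) (.leaf 0x773)) (.node (.leaf 0x8493) (.leaf 0xabaa)))) (.node (.node (.node (.leaf 0x80f7) (.leaf 0x86a9)) (.node (.leaf 0xa3d8) (.leaf 0xa30))) (.node (.node (.leaf 0x4270) (.leaf 0x2835)) (.node (.leaf 0x2541) (.leaf 0x8da2))))) (.node (.node (.node (.node (.leaf 0xa099) (.leaf 0x864a)) (.node (.leaf 0xa385) (.leaf 0x4993))) (.node (.node (.leaf 0x6210) (.leaf 0x27d0)) (.node (.leaf 0x24e7) (.leaf 0x2c89)))) (.node (.node (.node (.leaf 0x4151) (.leaf 0xa712)) (.node (.leaf 0x442f) (.leaf 0xaad6))) (.node (.node (.leaf 0x22cf) (.leaf 0x28b3)) (.node (.leaf 0x2594) (.leaf 0x6f9e)))))))) (.node (.node (.node (.node (.node (.node (.node (.leaf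 0x800e) (.leaf 0x5b9)) (.node (.leaf 0x2f3) (.leaf 0xa8d7))) (.node (.node (.leaf 0xa179) (.leaf 0x2734)) (.node (.leaf 0x8456) (.leaf 0x4b2e)))) (.node (.node (.node (.leaf 0xa0bc) (.leaf 0xa669)) (.node (.leaf 0x83a6) (.leaf 0x29d2))) (.node (.node (.leaf 0xa238) (.leaf 0xa7f0)) (.node (.leaf 0x50b) (.leaf 0xce7))))) (.node (.node (.node (.node (.leaf 0x205e) (.leaf 0x617)) (.node (.leaf 0x4351) (.leaf 0x2942))) (.node (.node (.leaf 0xa1d0) (.leaf 0x6797)) (.node (.leaf 0x64b6) (.leaf 0x4bfd)))) (.node (.node (.node (.leaf 0x8119) (.leaf 0x6d1)) (.node (.leaf 0x3fe) (.leaf 0x2a6f))) (.node (.node (.leaf 0x4294) (.leaf 0xa865)) (.node (.leaf 0x2561) (.leaf 0x6e57)))))) (.node (.node (.node (.node (.node (.leaf 0x4033) (.leaf 0x25ea)) (.node (.leaf 0xa321) (.leaf 0x290e))) (.node (.node (.leaf 0x41a2) (.leaf 0x2768)) (.node (.leaf 0xa483) (.leaf 0x4b93)))) (.node (.node (.node (.leaf 0x40eb)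 (.leaf 0x869f)) (.node (.leaf 0xa3cd) (.leaf 0xa1a))) (.node (.node (.leaf 0x4266) (.leaf 0x8823)) (.node (.leaf 0x6537) (.leaf 0x6d72))))) (.node (.node (.node (.node (.leaf 0xa08d) (.leaf 0x641)) (.node (.leaf 0xa37a) (.leaf 0xa97f))) (.node (.node (.leaf 0x204) (.leaf 0x67c7)) (.node (.leaf 0xa4dd) (.leaf 0x2c69)))) (.node (.node (.node (.leaf 0x4143) (.leaf 0x708)) (.node (.leaf 0x426) (.leaf 0x2ac5))) (.node (.node (.leaf 0x42c0) (.leaf 0x8a7)) (.node (.leaf 0x8589) (.leaf 0x4f2c))))))) (.node (.node (.node (.node (.node (.node (.leaf 0xa01e) (.leaf 0x45ce)) (.node (.leaf 0x4309) (.leaf 0xa8f2))) (.node (.node (.leaf 0x18f) (.leaf 0x6750)) (.node (.leaf 0x646c) (.leaf 0x6b56)))) (.node (.node (.node (.leaf 0x40d3) (.leaf 0x2684)) (.node (.leaf 0x43b9) (.leaf 0x49f3))) (.node (.node (.leaf 0x8251) (.leaf 0xa80d)) (.node (.leaf 0x6523) (.leaf 0x4d27))))) (.node (.node (.node (.node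 (.leaf 0x4071) (.leaf 0x262d)) (.node (.leaf 0x4362) (.leaf 0x4963))) (.node (.node (.leaf 0x21ec) (.leaf 0x27af)) (.node (.leaf 0x44cb) (.leaf 0x6c2d)))) (.node (.node (.node (.leaf 0xa12f) (.leaf 0xa6ea)) (.node (.leaf 0x2412) (.leaf 0x2a9a))) (.node (.node (.leaf 0x62ab) (.leaf 0xa885)) (.node (.leaf 0x6576) (.leaf 0x4eae)))))) (.node (.node (.node (.node (.node (.leaf 0x6048) (.leaf 0x2600)) (.node (.leaf 0x2338) (.leaf 0x4926))) (.node (.node (.leaf 0x41bb) (.leaf 0xa77f)) (.node (.leaf 0x249f) (.leaf 0x4bc4)))) (.node (.node (.node (.leaf 0x6104) (.leaf 0x26b9)) (.node (.leaf 0x43e4) (.leaf 0x8a3a))) (.node (.node (.leaf 0x427d) (.leaf 0xa846)) (.node (.leaf 0x454e) (.leaf 0x8dd0))))) (.node (.node (.node (.node (.leaf 0x80a4) (.leaf 0x4655)) (.node (.leaf 0x393) (.leaf 0x49a1))) (.node (.node (.leaf 0x220) (.leaf 0x67da)) (.node (.leaf 0x24f0) (.leaf 0xac9f)))) (.node (.node (.node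 (.leaf 0x615d) (.leaf 0x721)) (.node (.leaf 0x443d) (.leaf 0xaaf3))) (.node (.node (.leaf 0x22dc) (.leaf 0xa8c2)) (.leaf 0xa5a1)))))))))

/-- Part of `fixPar`. -/
def fixPar_p11 : Tr := .node fixPar_p110 fixPar_p111

/-- Part of `fixPar`. -/
def fixPar_p1 : Tr := .node fixPar_p10 fixPar_p11

/-- Part of `fixPar`. -/
def fixPar_p : Tr := .node fixPar_p0 fixPar_p1

/-- Table. -/
def fixPar : Tr := fixPar_p

/-- Part of `fixSrt`. -/
def fixSrt_p000 : Tr := (.node (.node (.node (.node (.node (.node (.node (.node (.node (.leaf 0x64) (.leaf 0x3ca)) (.node (.leaf 0x3bf) (.leaf 0xa03))) (.node (.node (.leaf 0x2cd) (.leaf 0xde6)) (.node (.leaf 0xb57) (.leaf 0xef6)))) (.node (.node (.node (.leaf 0x1ed) (.leaf 0x931)) (.node (.leaf 0x945) (.leaf 0xea9))) (.node (.node (.leaf 0x59a) (.leaf 0x4fd)) (.node (.leaf 0xf97) (.leaf 0xf47))))) (.node (.node (.node (.node (.leaf 0x45b) (.leaf 0x4ce)) (.node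 (.leaf 0x4dc) (.leaf 0x422))) (.node (.node (.leaf 0x8b6) (.leaf 0xb0e)) (.node (.leaf 0xe24) (.leaf 0xd48)))) (.node (.node (.node (.leaf 0x259) (.leaf 0x29a)) (.node (.leaf 0xf2f) (.leaf 0xd27))) (.node (.node (.leaf 0xc59) (.leaf 0x835)) (.node (.leaf 0x3e9) (.leaf 0x3af)))))) (.node (.node (.node (.node (.node (.leaf 0x400) (.leaf 0x4d8)) (.node (.leaf 0x9c7) (.leaf 0x9d1))) (.node (.node (.leaf 0x91) (.leaf 0x9f3)) (.node (.leaf 0xbc2) (.leaf 0x529)))) (.node (.node (.node (.leaf 0x7fc) (.leaf 0xce8)) (.node (.leaf 0x4b1) (.leaf 0xca9))) (.node (.node (.leaf 0x76b) (.leaf 0x553)) (.node (.leaf 0x74d) (.leaf 0x6ca))))) (.node (.node (.node (.node (.leaf 0x620) (.leaf 0xa10)) (.node (.leaf 0x63a) (.leaf 0x36e))) (.node (.node (.leaf 0x595) (.leaf 0x421)) (.node (.leaf 0xd47) (.leaf 0xf75)))) (.node (.node (.node (.leaf 0x8de) (.leaf 0x546)) (.node (.leaf 0x31d) (.leaf 0xa12))) (.node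 (.node (.leaf 0x587) (.leaf 0xf81)) (.node (.leaf 0x601) (.leaf 0x1bb))))))) (.node (.node (.node (.node (.node (.node (.leaf 0x41) (.leaf 0x618)) (.node (.leaf 0x62a) (.leaf 0x798))) (.node (.node (.leaf 0x306) (.leaf 0x908)) (.node (.leaf 0xb9b) (.leaf 0xb60)))) (.node (.node (.node (.leaf 0x73) (.leaf 0x6f1)) (.node (.leaf 0x630) (.leaf 0xf73))) (.node (.node (.leaf 0x7c0) (.leaf 0xfd1)) (.node (.leaf 0xf09) (.leaf 0xaa6))))) (.node (.node (.node (.node (.leaf 0x147) (.leaf 0x5d4)) (.node (.leaf 0xd3) (.leaf 0xfaf))) (.node (.node (.leaf 0x535) (.leaf 0xb05)) (.node (.leaf 0xf93) (.leaf 0x87e)))) (.node (.node (.node (.leaf 0x146) (.leaf 0xdad)) (.node (.leaf 0xe12) (.leaf 0x3c3))) (.node (.node (.leaf 0x3f9) (.leaf 0xadf)) (.node (.leaf 0x4e4) (.leaf 0xf87)))))) (.node (.node (.node (.node (.node (.leaf 0xe3) (.leaf 0x77c)) (.node (.leaf 0xf99) (.leaf 0x534))) (.node (.node (.leaf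 0xcc6) (.leaf 0xe31)) (.node (.leaf 0x56d) (.leaf 0xf1c)))) (.node (.node (.node (.leaf 0xdd9) (.leaf 0x4a3)) (.node (.leaf 0x726) (.leaf 0x7d3))) (.node (.node (.leaf 0xed) (.leaf 0x52c)) (.node (.leaf 0xf3b) (.leaf 0x6e6))))) (.node (.node (.node (.node (.leaf 0x712) (.leaf 0x581)) (.node (.leaf 0x98f) (.leaf 0x1))) (.node (.node (.leaf 0x311) (.leaf 0x9c4)) (.node (.leaf 0x877) (.leaf 0x87d)))) (.node (.node (.node (.leaf 0xe19) (.leaf 0x49e)) (.node (.leaf 0x802) (.leaf 0xc73))) (.node (.node (.leaf 0xdf5) (.leaf 0x885)) (.node (.leaf 0x61a) (.leaf 0xff0)))))))) (.node (.node (.node (.node (.node (.node (.node (.leaf 0x38) (.leaf 0x916)) (.node (.leaf 0x9c6) (.leaf 0xaee))) (.node (.node (.leaf 0x76) (.leaf 0xe8c)) (.node (.leaf 0x7f8) (.leaf 0x2af)))) (.node (.node (.node (.leaf 0x225) (.leaf 0x977)) (.node (.leaf 0x455) (.leaf 0xcc1))) (.node (.node (.leaf 0x473) (.leaf 0xb5d)) (.node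 (.leaf 0xe44) (.leaf 0xf17))))) (.node (.node (.node (.node (.leaf 0x116) (.leaf 0xc05)) (.node (.leaf 0x395) (.leaf 0xbeb))) (.node (.node (.leaf 0xe59) (.leaf 0x855)) (.node (.leaf 0x26d) (.leaf 0xb1b)))) (.node (.node (.node (.leaf 0x544) (.leaf 0x6c2)) (.node (.leaf 0xe62) (.leaf 0x69e))) (.node (.node (.leaf 0x642) (.leaf 0x6dd)) (.node (.leaf 0xbb3) (.leaf 0xd1d)))))) (.node (.node (.node (.node (.node (.leaf 0xd8) (.leaf 0x748)) (.node (.leaf 0x402) (.leaf 0xc2f))) (.node (.node (.leaf 0x842) (.leaf 0x82c)) (.node (.leaf 0x379) (.leaf 0xfbb)))) (.node (.node (.node (.leaf 0x6fa) (.leaf 0x45c)) (.node (.leaf 0x3ba) (.leaf 0xf24))) (.node (.node (.leaf 0x772) (.leaf 0x6c7)) (.node (.leaf 0xedc) (.leaf 0xb63))))) (.node (.node (.node (.node (.leaf 0x103) (.leaf 0x5fb)) (.node (.leaf 0x8d8) (.leaf 0x1bd))) (.node (.node (.leaf 0x74b) (.leaf 0x53b)) (.node (.leaf 0xa14) (.leaf 0x91a))))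 (.node (.node (.node (.leaf 0xde4) (.leaf 0x8d5)) (.node (.leaf 0xdf9) (.leaf 0x959))) (.node (.node (.leaf 0x3f2) (.leaf 0xc64)) (.node (.leaf 0xd9) (.leaf 0x342))))))) (.node (.node (.node (.node (.node (.node (.leaf 0xc1) (.leaf 0x67)) (.node (.leaf 0xf3a) (.leaf 0xfce))) (.node (.node (.leaf 0x16f) (.leaf 0xe4c)) (.node (.leaf 0x48c) (.leaf 0x4d0)))) (.node (.node (.node (.leaf 0x454) (.leaf 0x8bc)) (.node (.leaf 0xe40) (.leaf 0xfbf))) (.node (.node (.leaf 0x683) (.leaf 0x8ab)) (.node (.leaf 0x7f4) (.leaf 0xf1f))))) (.node (.node (.node (.node (.leaf 0x190) (.leaf 0xfb6)) (.node (.leaf 0x2c6) (.leaf 0x986))) (.node (.node (.leaf 0xef7) (.leaf 0xc71)) (.node (.leaf 0x9ea) (.leaf 0xceb)))) (.node (.node (.node (.leaf 0x2d7) (.leaf 0xbbc)) (.node (.leaf 0x88b) (.leaf 0x619))) (.node (.node (.leaf 0x4fb) (.leaf 0x7bf)) (.node (.leaf 0xf52) (.leaf 0xdce)))))) (.node (.node (.node (.node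 (.node (.leaf 0x18c) (.leaf 0x890)) (.node (.leaf 0x219) (.leaf 0x643))) (.node (.node (.leaf 0x4bd) (.leaf 0xc4a)) (.node (.leaf 0xc17) (.leaf 0xf3c)))) (.node (.node (.node (.leaf 0x886) (.leaf 0xdac)) (.node (.leaf 0x728) (.leaf 0x514))) (.node (.node (.leaf 0xb50) (.leaf 0x7ba)) (.node (.leaf 0x910) (.leaf 0xe97))))) (.node (.node (.node (.node (.leaf 0xafe) (.leaf 0x64f)) (.node (.leaf 0xdc2) (.leaf 0x880))) (.node (.node (.leaf 0x3e1) (.leaf 0x662)) (.node (.leaf 0x7dd) (.leaf 0x7f2)))) (.node (.node (.node (.leaf 0xd7f) (.leaf 0xb9a)) (.node (.leaf 0x91c) (.leaf 0x9dc))) (.node (.node (.leaf 0x5a5) (.leaf 0x9dd)) (.node (.leaf 0x53e) (.leaf 0x2d4))))))))) (.node (.node (.node (.node (.node (.node (.node (.node (.leaf 0x62) (.leaf 0x939)) (.node (.leaf 0x95e) (.leaf 0x656))) (.node (.node (.leaf 0x37a) (.leaf 0x611)) (.node (.leaf 0x7b0) (.leaf 0x1ab)))) (.node (.node (.node (.leaf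 0x49) (.leaf 0xc5c)) (.node (.leaf 0xb04) (.leaf 0x6c0))) (.node (.node (.leaf 0xd2b) (.leaf 0x46)) (.node (.leaf 0xeec) (.leaf 0xd6c))))) (.node (.node (.node (.node (.leaf 0x2fe) (.leaf 0xe46)) (.node (.leaf 0x541) (.leaf 0x507))) (.node (.node (.leaf 0xafd) (.leaf 0xb06)) (.node (.leaf 0xedf) (.leaf 0x80b)))) (.node (.node (.node (.leaf 0x819) (.leaf 0x443)) (.node (.leaf 0x43) (.leaf 0x845))) (.node (.node (.leaf 0x5e8) (.leaf 0xc25)) (.node (.leaf 0x9ee) (.leaf 0xe3c)))))) (.node (.node (.node (.node (.node (.leaf 0x3ff) (.leaf 0xa2f)) (.node (.leaf 0x8c3) (.leaf 0xfad))) (.node (.node (.leaf 0x218) (.leaf 0x566)) (.node (.leaf 0x88c) (.leaf 0x8f9)))) (.node (.node (.node (.leaf 0x800) (.leaf 0xdf4)) (.node (.leaf 0xc4e) (.leaf 0x43c))) (.node (.node (.leaf 0x31b) (.leaf 0xb94)) (.node (.leaf 0x6a6) (.leaf 0xbae))))) (.node (.node (.node (.node (.leaf 0xeb) (.leaf 0xe75)) (.node (.leaf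 0x1fd) (.leaf 0x1be))) (.node (.node (.leaf 0x1a0) (.leaf 0xf91)) (.node (.leaf 0xbfa) (.leaf 0xa25)))) (.node (.node (.node (.leaf 0x301) (.leaf 0x904)) (.node (.leaf 0xd09) (.leaf 0x262))) (.node (.node (.leaf 0x7c8) (.leaf 0xedb)) (.node (.leaf 0x8e5) (.leaf 0x33d))))))) (.node (.node (.node (.node (.node (.node (.leaf 0x5c) (.leaf 0x637)) (.node (.leaf 0x965) (.leaf 0xcb5))) (.node (.node (.leaf 0x9f) (.leaf 0xb9d)) (.node (.leaf 0x1ce) (.leaf 0x6bc)))) (.node (.node (.node (.leaf 0x121) (.leaf 0x3c2)) (.node (.leaf 0x441) (.leaf 0xed1))) (.node (.node (.leaf 0xa3e) (.leaf 0x9b9)) (.node (.leaf 0x998) (.leaf 0xe0e))))) (.node (.node (.node (.node (.leaf 0x14) (.leaf 0x9a6)) (.node (.leaf 0xd78) (.leaf 0x3ee))) (.node (.node (.leaf 0x2d5) (.leaf 0x411)) (.node (.leaf 0xa58) (.leaf 0xf98)))) (.node (.node (.node (.leaf 0xeae) (.leaf 0xa9d)) (.node (.leaf 0x5cc) (.leaf 0xfe3))) (.node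 (.node (.leaf 0x5d1) (.leaf 0x863)) (.node (.leaf 0xb6e) (.leaf 0xbb1)))))) (.node (.node (.node (.node (.node (.leaf 0x1a3) (.leaf 0x5b2)) (.node (.leaf 0x694) (.leaf 0x811))) (.node (.node (.leaf 0x339) (.leaf 0xd5c)) (.node (.leaf 0x7fd) (.leaf 0xe41)))) (.node (.node (.node (.leaf 0x25e) (.leaf 0xfab)) (.node (.leaf 0x813) (.leaf 0x882))) (.node (.node (.leaf 0x319) (.leaf 0xd92)) (.node (.leaf 0x521) (.leaf 0xdbf))))) (.node (.node (.node (.node (.leaf 0x244) (.leaf 0x336)) (.node (.leaf 0x9ed) (.leaf 0x174))) (.node (.node (.leaf 0xc1c) (.leaf 0xb61)) (.node (.leaf 0x960) (.leaf 0x270)))) (.node (.node (.node (.leaf 0x585) (.leaf 0x51c)) (.node (.leaf 0xe4e) (.leaf 0x564))) (.node (.node (.leaf 0x51a) (.leaf 0x84f)) (.node (.leaf 0xd4) (.leaf 0x48e)))))))) (.node (.node (.node (.node (.node (.node (.node (.leaf 0x29) (.leaf 0xc06)) (.node (.leaf 0x33e) (.leaf 0x277))) (.node (.node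 (.leaf 0xc3e) (.leaf 0x628)) (.node (.leaf 0xacc) (.leaf 0xdd8)))) (.node (.node (.node (.leaf 0x3fd) (.leaf 0x3b9)) (.node (.leaf 0x456) (.leaf 0xa2))) (.node (.node (.leaf 0x1af) (.leaf 0xa6c)) (.node (.leaf 0xef2) (.leaf 0x29c))))) (.node (.node (.node (.node (.leaf 0xa1f) (.leaf 0x555)) (.node (.leaf 0x7e2) (.leaf 0x72b))) (.node (.node (.leaf 0x67b) (.leaf 0xa45)) (.node (.leaf 0xdf8) (.leaf 0xe90)))) (.node (.node (.node (.leaf 0x4df) (.leaf 0xfd9)) (.node (.leaf 0xc00) (.leaf 0x54c))) (.node (.node (.leaf 0xb7a) (.leaf 0x92b)) (.node (.leaf 0x2aa) (.leaf 0x3ad)))))) (.node (.node (.node (.node (.node (.leaf 0x6b) (.leaf 0xbec)) (.node (.leaf 0x38f) (.leaf 0x2a0))) (.node (.node (.leaf 0xbda) (.leaf 0x4c7)) (.node (.leaf 0x4fc) (.leaf 0xdda)))) (.node (.node (.node (.leaf 0xbef) (.leaf 0xf14)) (.node (.leaf 0xb96) (.leaf 0xe42))) (.node (.node (.leaf 0x7cb) (.leaf 0xe60)) (.node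 (.leaf 0xd4f) (.leaf 0x9b8))))) (.node (.node (.node (.node (.leaf 0x42) (.leaf 0x6d0)) (.node (.leaf 0x17f) (.leaf 0x37b))) (.node (.node (.leaf 0x31a) (.leaf 0x29e)) (.node (.leaf 0xcf5) (.leaf 0x953)))) (.node (.node (.node (.leaf 0x5a0) (.leaf 0x6bd)) (.node (.leaf 0xe09) (.leaf 0x69a))) (.node (.node (.leaf 0x75f) (.leaf 0x1f6)) (.node (.leaf 0x2bf) (.leaf 0x282))))))) (.node (.node (.node (.node (.node (.node (.leaf 0x47) (.leaf 0x10a)) (.node (.leaf 0xaed) (.leaf 0xabc))) (.node (.node (.leaf 0x94) (.leaf 0x639)) (.node (.leaf 0x4d9) (.leaf 0xbe5)))) (.node (.node (.node (.leaf 0xa9f) (.leaf 0x63c)) (.node (.leaf 0x424) (.leaf 0xfb2))) (.node (.node (.leaf 0xc99) (.leaf 0x257)) (.node (.leaf 0x71b) (.leaf 0xa94))))) (.node (.node (.node (.node (.leaf 0x633) (.leaf 0x12b)) (.node (.leaf 0x28b) (.leaf 0xb84))) (.node (.node (.leaf 0xb26) (.leaf 0xa15)) (.node (.leaf 0xc41) (.leaf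 0xcbd)))) (.node (.node (.node (.leaf 0x170) (.leaf 0x502)) (.node (.leaf 0x936) (.leaf 0xfde))) (.node (.node (.leaf 0xfcf) (.leaf 0xc0b)) (.node (.leaf 0xb39) (.leaf 0xd13)))))) (.node (.node (.node (.node (.node (.leaf 0xcc2) (.leaf 0xcda)) (.node (.leaf 0x432) (.leaf 0xc38))) (.node (.node (.leaf 0xd18) (.leaf 0x8a3)) (.node (.leaf 0x9bf) (.leaf 0xe39)))) (.node (.node (.node (.leaf 0xca6) (.leaf 0xacf)) (.node (.leaf 0x50a) (.leaf 0xece))) (.node (.node (.leaf 0x28e) (.leaf 0x73a)) (.node (.leaf 0x8ed) (.leaf 0xa65))))) (.node (.node (.node (.node (.leaf 0x1f5) (.leaf 0xa78)) (.node (.leaf 0x30f) (.leaf 0xd41))) (.node (.node (.leaf 0x18a) (.leaf 0xe57)) (.node (.leaf 0x58f) (.leaf 0x55c)))) (.node (.node (.node (.leaf 0x12a) (.leaf 0xc22)) (.node (.leaf 0xe82) (.leaf 0xef3))) (.node (.node (.leaf 0x231) (.leaf 0x3e7)) (.node (.leaf 0x41d) (.leaf 0xa3))))))))))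

/-- Part of `fixSrt`. -/
def fixSrt_p001 : Tr := (.node (.node (.node (.node (.node (.node (.node (.node (.node (.leaf 0x37) (.leaf 0xbcc)) (.node (.leaf 0x179) (.leaf 0xe73))) (.node (.node (.leaf 0x15a) (.leaf 0xaa0)) (.node (.leaf 0x951) (.leaf 0xd0e)))) (.node (.node (.node (.leaf 0x7c1) (.leaf 0x54b)) (.node (.leaf 0x8d2) (.leaf 0x99d))) (.node (.node (.leaf 0x2ff) (.leaf 0x256)) (.node (.leaf 0x913) (.leaf 0xb0c))))) (.node (.node (.node (.node (.leaf 0x2b) (.leaf 0x31c)) (.node (.leaf 0x909) (.leaf 0xc32))) (.node (.node (.leaf 0x3f6) (.leaf 0x271)) (.node (.leaf 0x8ee) (.leaf 0xdc8)))) (.node (.node (.node (.leaf 0x6d9) (.leaf 0x38e)) (.node (.leaf 0x60b) (.leaf 0x46b))) (.node (.node (.leaf 0xad4) (.leaf 0x64a)) (.node (.leaf 0xfd3) (.leaf 0x9d3)))))) (.node (.node (.node (.node (.node (.leaf 0x6e) (.leaf 0xba1)) (.node (.leaf 0x465) (.leaf 0x4e7))) (.node (.node (.leaf 0xad)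 (.leaf 0x3d4)) (.node (.leaf 0x3d5) (.leaf 0x4b7)))) (.node (.node (.node (.leaf 0x71e) (.leaf 0x51d)) (.node (.leaf 0xa2c) (.leaf 0xfca))) (.node (.node (.leaf 0x321) (.leaf 0x33c)) (.node (.leaf 0xa26) (.leaf 0xf33))))) (.node (.node (.node (.node (.leaf 0x216) (.leaf 0x5c6)) (.node (.leaf 0x63d) (.leaf 0x834))) (.node (.node (.leaf 0x109) (.leaf 0x787)) (.node (.leaf 0xd3d) (.leaf 0x36d)))) (.node (.node (.node (.leaf 0x6de) (.leaf 0xc8b)) (.node (.leaf 0xeb7) (.leaf 0xfe5))) (.node (.node (.leaf 0x34c) (.leaf 0x177)) (.node (.leaf 0x3cf) (.leaf 0x65f))))))) (.node (.node (.node (.node (.node (.node (.leaf 0x8d) (.leaf 0x652)) (.node (.leaf 0x929) (.leaf 0xed4))) (.node (.node (.leaf 0xa21) (.leaf 0x9e1)) (.node (.leaf 0x921) (.leaf 0xc67)))) (.node (.node (.node (.leaf 0x7b6) (.leaf 0x349)) (.node (.leaf 0x1d3) (.leaf 0x4b5))) (.node (.node (.leaf 0x2da) (.leaf 0x40b)) (.node (.leaf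 0x370) (.leaf 0xf4f))))) (.node (.node (.node (.node (.leaf 0x83) (.leaf 0xc66)) (.node (.leaf 0x10c) (.leaf 0xd8c))) (.node (.node (.leaf 0x7d1) (.leaf 0x9ff)) (.node (.leaf 0x804) (.leaf 0xaa5)))) (.node (.node (.node (.leaf 0x5a9) (.leaf 0x976)) (.node (.leaf 0x9b3) (.leaf 0xfd8))) (.node (.node (.leaf 0xd9e) (.leaf 0x9b0)) (.node (.leaf 0x9be) (.leaf 0xabb)))))) (.node (.node (.node (.node (.node (.leaf 0x20f) (.leaf 0x76d)) (.node (.leaf 0x803) (.leaf 0x5e4))) (.node (.node (.leaf 0x47a) (.leaf 0x77d)) (.node (.leaf 0x1e9) (.leaf 0xf23)))) (.node (.node (.node (.leaf 0x734) (.leaf 0x82d)) (.node (.leaf 0x2ad) (.leaf 0x469))) (.node (.node (.leaf 0x104) (.leaf 0x268)) (.node (.leaf 0x44b) (.leaf 0xcf2))))) (.node (.node (.node (.node (.leaf 0x70b) (.leaf 0xd01)) (.node (.leaf 0xac5) (.leaf 0x767))) (.node (.node (.leaf 0x138) (.leaf 0x99b)) (.node (.leaf 0xcd0) (.leaf 0xe21)))) (.node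 (.node (.node (.leaf 0x83c) (.leaf 0xd2a)) (.node (.leaf 0x412) (.leaf 0xbaf))) (.node (.node (.leaf 0x197) (.leaf 0x297)) (.node (.leaf 0xf51) (.leaf 0xb8b)))))))) (.node (.node (.node (.node (.node (.node (.node (.leaf 0x324) (.leaf 0xb83)) (.node (.leaf 0x64b) (.leaf 0xb87))) (.node (.node (.leaf 0x8ce) (.leaf 0x55a)) (.node (.leaf 0x139) (.leaf 0xb1d)))) (.node (.node (.node (.leaf 0x180) (.leaf 0xe1e)) (.node (.leaf 0xbdf) (.leaf 0x27a))) (.node (.node (.leaf 0x32c) (.leaf 0xeed)) (.node (.leaf 0xe99) (.leaf 0x86d))))) (.node (.node (.node (.node (.leaf 0x57d) (.leaf 0x757)) (.node (.leaf 0x41c) (.leaf 0xaea))) (.node (.node (.leaf 0x57b) (.leaf 0x43d)) (.node (.leaf 0x692) (.leaf 0x5e5)))) (.node (.node (.node (.leaf 0xa51) (.leaf 0xaf9)) (.node (.leaf 0xcec) (.leaf 0xffe))) (.node (.node (.leaf 0x37c) (.leaf 0x416)) (.node (.leaf 0xb59) (.leaf 0x81c)))))) (.node (.node (.node (.node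 (.node (.leaf 0x5a) (.leaf 0x655)) (.node (.leaf 0x310) (.leaf 0x97e))) (.node (.node (.leaf 0xfe) (.leaf 0x453)) (.node (.leaf 0x2bb) (.leaf 0xfbd)))) (.node (.node (.node (.leaf 0x967) (.leaf 0x983)) (.node (.leaf 0x49b) (.leaf 0x2fb))) (.node (.node (.leaf 0x85f) (.leaf 0x9cc)) (.node (.leaf 0xc07) (.leaf 0xe43))))) (.node (.node (.node (.node (.leaf 0x1e) (.leaf 0xaa9)) (.node (.leaf 0xa64) (.leaf 0x281))) (.node (.node (.leaf 0x191) (.leaf 0xc47)) (.node (.leaf 0x5fa) (.leaf 0x41f)))) (.node (.node (.node (.leaf 0x20e) (.leaf 0x680)) (.node (.leaf 0xcd7) (.leaf 0x58d))) (.node (.node (.leaf 0xc7d) (.leaf 0xf38)) (.node (.leaf 0x458) (.leaf 0x12d))))))) (.node (.node (.node (.node (.node (.node (.leaf 0x56) (.leaf 0x1f2)) (.node (.leaf 0x806) (.leaf 0xe37))) (.node (.node (.leaf 0x2bc) (.leaf 0xf69)) (.node (.leaf 0xe05) (.leaf 0xc6f)))) (.node (.node (.node (.leaf 0x135) (.leaf 0xa8b))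 (.node (.leaf 0xd39) (.leaf 0x3a1))) (.node (.node (.leaf 0xcd) (.leaf 0xa4)) (.node (.leaf 0x632) (.leaf 0xec3))))) (.node (.node (.node (.node (.leaf 0x267) (.leaf 0x829)) (.node (.leaf 0x433) (.leaf 0xeb4))) (.node (.node (.leaf 0x60a) (.leaf 0xefa)) (.node (.leaf 0xb44) (.leaf 0xfb8)))) (.node (.node (.node (.leaf 0x9) (.leaf 0x68d)) (.node (.leaf 0xa33) (.leaf 0xa68))) (.node (.node (.leaf 0x68c) (.leaf 0x9ab)) (.node (.leaf 0xb4a) (.leaf 0xf74)))))) (.node (.node (.node (.node (.node (.leaf 0x21) (.leaf 0x408)) (.node (.leaf 0x6ad) (.leaf 0xae1))) (.node (.node (.leaf 0x2f5) (.leaf 0x8a0)) (.node (.leaf 0x3b2) (.leaf 0xda3)))) (.node (.node (.node (.leaf 0x37d) (.leaf 0x699)) (.node (.leaf 0xa17) (.leaf 0xb36))) (.node (.node (.leaf 0xa8a) (.leaf 0x81d)) (.node (.leaf 0x93f) (.leaf 0xe06))))) (.node (.node (.node (.node (.leaf 0x127) (.leaf 0x948)) (.node (.leaf 0x61f) (.leaf 0xda0)))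 (.node (.node (.leaf 0x8dd) (.leaf 0x65e)) (.node (.leaf 0xda5) (.leaf 0xe07)))) (.node (.node (.node (.leaf 0x4b9) (.leaf 0xbb0)) (.node (.leaf 0x164) (.leaf 0xa7d))) (.node (.node (.leaf 0xe1f) (.leaf 0x4)) (.node (.leaf 0x578) (.leaf 0x2d3))))))))) (.node (.node (.node (.node (.node (.node (.node (.node (.leaf 0x89) (.leaf 0xd0a)) (.node (.leaf 0x205) (.leaf 0xfc5))) (.node (.node (.leaf 0xfc3) (.leaf 0x69b)) (.node (.leaf 0x676) (.leaf 0xb07)))) (.node (.node (.node (.leaf 0xbf6) (.leaf 0x95a)) (.node (.leaf 0x7db) (.leaf 0x15c))) (.node (.node (.leaf 0x592) (.leaf 0xf49)) (.node (.leaf 0xb3c) (.leaf 0xc6e))))) (.node (.node (.node (.node (.leaf 0x720) (.leaf 0x744)) (.node (.leaf 0x194) (.leaf 0x4f0))) (.node (.node (.leaf 0x8ae) (.leaf 0xa5d)) (.node (.leaf 0xeaa) (.leaf 0xf5d)))) (.node (.node (.node (.leaf 0xeff) (.leaf 0xc1b)) (.node (.leaf 0xe5a) (.leaf 0x1ea))) (.node (.node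 (.leaf 0x25b) (.leaf 0xd2c)) (.node (.leaf 0x81a) (.leaf 0xaf6)))))) (.node (.node (.node (.node (.node (.leaf 0x1a4) (.leaf 0x665)) (.node (.leaf 0x9bb) (.leaf 0x7b5))) (.node (.node (.leaf 0x1d9) (.leaf 0x78b)) (.node (.leaf 0xa0b) (.leaf 0xfdd)))) (.node (.node (.node (.leaf 0xce) (.leaf 0x3c4)) (.node (.leaf 0x263) (.leaf 0xfd2))) (.node (.node (.leaf 0xb35) (.leaf 0x613)) (.node (.leaf 0x284) (.leaf 0xba5))))) (.node (.node (.node (.node (.leaf 0x4f6) (.leaf 0x4cb)) (.node (.leaf 0xae5) (.leaf 0x7))) (.node (.node (.leaf 0x44d) (.leaf 0x8bf)) (.node (.leaf 0x9b7) (.leaf 0xe68)))) (.node (.node (.node (.leaf 0xd4b) (.leaf 0x6b8)) (.node (.leaf 0xc28) (.leaf 0xec6))) (.node (.node (.leaf 0x5ea) (.leaf 0xd17)) (.node (.leaf 0xf0f) (.leaf 0x481))))))) (.node (.node (.node (.node (.node (.node (.leaf 0x31) (.leaf 0x4c0)) (.node (.leaf 0x20d) (.leaf 0x299))) (.node (.node (.leaf 0x1b3)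 (.leaf 0xf62)) (.node (.leaf 0xd51) (.leaf 0xef5)))) (.node (.node (.node (.leaf 0x98) (.leaf 0xa83)) (.node (.leaf 0x4e5) (.leaf 0x5b7))) (.node (.node (.leaf 0x222) (.leaf 0xc9)) (.node (.leaf 0x1bc) (.leaf 0xab7))))) (.node (.node (.node (.node (.leaf 0x17c) (.leaf 0xc48)) (.node (.leaf 0x914) (.leaf 0x2a3))) (.node (.node (.leaf 0xf0b) (.leaf 0xe23)) (.node (.leaf 0x3b0) (.leaf 0x958)))) (.node (.node (.node (.leaf 0xd7b) (.leaf 0x63b)) (.node (.leaf 0xb74) (.leaf 0xc8d))) (.node (.node (.leaf 0x459) (.leaf 0xb28)) (.node (.leaf 0x86c) (.leaf 0x899)))))) (.node (.node (.node (.node (.node (.leaf 0x80) (.leaf 0x55b)) (.node (.leaf 0x63f) (.leaf 0xc0c))) (.node (.node (.leaf 0x7e1) (.leaf 0xf54)) (.node (.leaf 0x7f9) (.leaf 0xe48)))) (.node (.node (.node (.leaf 0x30c) (.leaf 0x98a)) (.node (.leaf 0x7b8) (.leaf 0x4b4))) (.node (.node (.leaf 0x627) (.leaf 0x54f)) (.node (.leaf 0xf65) (.leaf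 0xcf1))))) (.node (.node (.node (.node (.leaf 0x3da) (.leaf 0x88)) (.node (.leaf 0xcba) (.leaf 0x3f0))) (.node (.node (.leaf 0x1ec) (.leaf 0x705)) (.node (.leaf 0xb0b) (.leaf 0xe6f)))) (.node (.node (.node (.leaf 0x126) (.leaf 0x8fd)) (.node (.leaf 0x7ac) (.leaf 0xdf0))) (.node (.node (.leaf 0x332) (.leaf 0xc3b)) (.node (.leaf 0xc23) (.leaf 0xc5d)))))))) (.node (.node (.node (.node (.node (.node (.node (.leaf 0x9c) (.leaf 0xeac)) (.node (.leaf 0x730) (.leaf 0x94f))) (.node (.node (.leaf 0xe) (.leaf 0x85d)) (.node (.leaf 0x626) (.leaf 0xb5e)))) (.node (.node (.node (.leaf 0xbf7) (.leaf 0xdd1)) (.node (.leaf 0x946) (.leaf 0x7eb))) (.node (.node (.leaf 0x74c) (.leaf 0x961)) (.node (.leaf 0x1ac) (.leaf 0xf27))))) (.node (.node (.node (.node (.leaf 0x3e8) (.leaf 0x78e)) (.node (.leaf 0x4c) (.leaf 0x96b))) (.node (.node (.leaf 0x648) (.leaf 0xa30)) (.node (.leaf 0xe87) (.leaf 0x4d3)))) (.node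 (.node (.node (.leaf 0xf5) (.leaf 0x392)) (.node (.leaf 0x6e2) (.leaf 0x77e))) (.node (.node (.leaf 0xc40) (.leaf 0xc75)) (.node (.leaf 0xd1e) (.leaf 0x3ac)))))) (.node (.node (.node (.node (.node (.leaf 0x115) (.leaf 0xaf1)) (.node (.leaf 0xa34) (.leaf 0xd38))) (.node (.node (.leaf 0x22e) (.leaf 0xa0f)) (.node (.leaf 0x810) (.leaf 0xf20)))) (.node (.node (.node (.leaf 0x181) (.leaf 0x926)) (.node (.leaf 0xada) (.leaf 0x389))) (.node (.node (.leaf 0xd14) (.leaf 0x4a9)) (.node (.leaf 0xa05) (.leaf 0xb21))))) (.node (.node (.node (.node (.leaf 0x9b2) (.leaf 0x2cf)) (.node (.leaf 0x1cc) (.leaf 0x660))) (.node (.node (.leaf 0xa2d) (.leaf 0xe6c)) (.node (.leaf 0xd82) (.leaf 0xe88)))) (.node (.node (.node (.leaf 0x49d) (.leaf 0x783)) (.node (.leaf 0xbbf) (.leaf 0xba2))) (.node (.node (.leaf 0x96a) (.leaf 0x7a6)) (.node (.leaf 0x1aa) (.leaf 0xfe2))))))) (.node (.node (.node (.node (.node (.node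 (.leaf 0xcf) (.leaf 0x269)) (.node (.leaf 0x6b2) (.leaf 0x475))) (.node (.node (.leaf 0xe5b) (.leaf 0x3d3)) (.node (.leaf 0x82f) (.leaf 0x686)))) (.node (.node (.node (.leaf 0x276) (.leaf 0x1c9)) (.node (.leaf 0x93e) (.leaf 0xa91))) (.node (.node (.leaf 0xee7) (.leaf 0xd20)) (.node (.leaf 0x5b9) (.leaf 0xcea))))) (.node (.node (.node (.node (.leaf 0xa0e) (.leaf 0xc86)) (.node (.leaf 0x19b) (.leaf 0x6eb))) (.node (.node (.leaf 0x2c5) (.leaf 0xf4e)) (.node (.leaf 0xc15) (.leaf 0x9a7)))) (.node (.node (.node (.leaf 0x157) (.leaf 0xb95)) (.node (.leaf 0x512) (.leaf 0xf56))) (.node (.node (.leaf 0x6b3) (.leaf 0x460)) (.node (.leaf 0x61c) (.leaf 0xd29)))))) (.node (.node (.node (.node (.node (.leaf 0x19) (.leaf 0xea3)) (.node (.leaf 0x1b0) (.leaf 0x598))) (.node (.node (.leaf 0xb02) (.leaf 0xe70)) (.node (.leaf 0x4ef) (.leaf 0xcad)))) (.node (.node (.node (.leaf 0xc5e) (.leaf 0x25d)) (.node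 (.leaf 0x1c6) (.leaf 0x61d))) (.node (.node (.leaf 0x8b9) (.leaf 0xa3c)) (.node (.leaf 0x651) (.leaf 0x2f3))))) (.node (.node (.node (.node (.leaf 0x172) (.leaf 0x93b)) (.node (.leaf 0x2e9) (.leaf 0xd33))) (.node (.node (.leaf 0x8c8) (.leaf 0x34)) (.node (.leaf 0x2ae) (.leaf 0xd89)))) (.node (.node (.node (.leaf 0x751) (.leaf 0x808)) (.node (.leaf 0x37e) (.leaf 0x3c5))) (.node (.node (.leaf 0xfa1) (.leaf 0xb0f)) (.node (.leaf 0xfd6) (.leaf 0x85c))))))))))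

/-- Part of `fixSrt`. -/
def fixSrt_p00 : Tr := .node fixSrt_p000 fixSrt_p001

/-- Part of `fixSrt`. -/
def fixSrt_p010 : Tr := (.node (.node (.node (.node (.node (.node (.node (.node (.node (.leaf 0x51) (.leaf 0xa67)) (.node (.leaf 0xb9f) (.leaf 0x540))) (.node (.node (.leaf 0x4dd) (.leaf 0x4ff)) (.node (.leaf 0x1cb) (.leaf 0xbd6)))) (.node (.node (.node (.leaf 0x266) (.leaf 0x5a8)) (.node (.leaf 0xcc5) (.leaf 0x4d4))) (.node (.node (.leaf 0x273) (.leaf 0xff1)) (.node (.leaf 0xbcf) (.leaf 0xc6c))))) (.node (.node (.node (.node (.leaf 0x65b) (.leaf 0xf88)) (.node (.leaf 0xacb) (.leaf 0xf19))) (.node (.node (.leaf 0xbf1) (.leaf 0x26f)) (.node (.leaf 0xcdf) (.leaf 0xba4)))) (.node (.node (.node (.leaf 0x3df) (.leaf 0x4c8)) (.node (.leaf 0x2b7) (.leaf 0x949))) (.node (.node (.leaf 0xda6) (.leaf 0xc0a)) (.node (.leaf 0xc63) (.leaf 0x6be)))))) (.node (.node (.node (.node (.node (.leaf 0x7c)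 (.leaf 0xe80)) (.node (.leaf 0x968) (.leaf 0x557))) (.node (.node (.leaf 0x1ae) (.leaf 0xb66)) (.node (.leaf 0x16) (.leaf 0xd1f)))) (.node (.node (.node (.leaf 0x444) (.leaf 0x431)) (.node (.leaf 0x583) (.leaf 0x4c1))) (.node (.node (.leaf 0xa8) (.leaf 0xd00)) (.node (.leaf 0xd66) (.leaf 0x42b))))) (.node (.node (.node (.node (.leaf 0x43a) (.leaf 0xfaa)) (.node (.leaf 0xca1) (.leaf 0xa97))) (.node (.node (.leaf 0x152) (.leaf 0x763)) (.node (.leaf 0xe9c) (.leaf 0xa1b)))) (.node (.node (.node (.leaf 0x125) (.leaf 0x8fc)) (.node (.leaf 0x2e5) (.leaf 0xd56))) (.node (.node (.leaf 0x8bb) (.leaf 0x7c4)) (.node (.leaf 0x79e) (.leaf 0x90c))))))) (.node (.node (.node (.node (.node (.node (.leaf 0xdd) (.leaf 0x72f)) (.node (.leaf 0x1e1) (.leaf 0x35a))) (.node (.node (.leaf 0xb7) (.leaf 0x930)) (.node (.leaf 0x92e) (.leaf 0x5e0)))) (.node (.node (.node (.leaf 0x34f) (.leaf 0x6e4)) (.node (.leaf 0x679)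 (.leaf 0x8f2))) (.node (.node (.leaf 0x61e) (.leaf 0xe98)) (.node (.leaf 0x1df) (.leaf 0xbe6))))) (.node (.node (.node (.node (.leaf 0x6) (.leaf 0xd34)) (.node (.leaf 0x657) (.leaf 0xc74))) (.node (.node (.leaf 0x3a4) (.leaf 0x5cd)) (.node (.leaf 0x4a6) (.leaf 0xf45)))) (.node (.node (.node (.leaf 0xe17) (.leaf 0x39e)) (.node (.leaf 0x40a) (.leaf 0xf57))) (.node (.node (.leaf 0x4e1) (.leaf 0x678)) (.node (.leaf 0xd7c) (.leaf 0xe7c)))))) (.node (.node (.node (.node (.node (.leaf 0xe4) (.leaf 0x576)) (.node (.leaf 0x496) (.leaf 0xf1a))) (.node (.node (.leaf 0x3e2) (.leaf 0x6b6)) (.node (.leaf 0x86b) (.leaf 0x995)))) (.node (.node (.node (.leaf 0x5a6) (.leaf 0xdc3)) (.node (.leaf 0x451) (.leaf 0xf67))) (.node (.node (.leaf 0x754) (.leaf 0x52a)) (.node (.leaf 0xa88) (.leaf 0xda2))))) (.node (.node (.node (.node (.leaf 0xd46) (.leaf 0x5df)) (.node (.leaf 0x8b7) (.leaf 0xcd1))) (.node (.node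 (.leaf 0x1d2) (.leaf 0x86e)) (.node (.leaf 0xf8b) (.leaf 0xec7)))) (.node (.node (.node (.leaf 0x1e6) (.leaf 0xeaf)) (.node (.leaf 0x5ba) (.leaf 0x4aa))) (.node (.node (.leaf 0x9ac) (.leaf 0x11a)) (.node (.leaf 0xe20) (.leaf 0x487)))))))) (.node (.node (.node (.node (.node (.node (.node (.leaf 0x12) (.leaf 0x13f)) (.node (.leaf 0x59b) (.leaf 0x85b))) (.node (.node (.leaf 0x735) (.leaf 0x640)) (.node (.leaf 0xf06) (.leaf 0x4ca)))) (.node (.node (.node (.leaf 0x140) (.leaf 0x641)) (.node (.leaf 0xa48) (.leaf 0x7b1))) (.node (.node (.leaf 0x8c5) (.leaf 0xd86)) (.node (.leaf 0x75d) (.leaf 0xd95))))) (.node (.node (.node (.node (.leaf 0x291) (.leaf 0xcdd)) (.node (.leaf 0x52d) (.leaf 0x832))) (.node (.node (.leaf 0x3bd) (.leaf 0xe7b)) (.node (.leaf 0xa70) (.leaf 0xd10)))) (.node (.node (.node (.leaf 0x631) (.leaf 0x7ee)) (.node (.leaf 0xdcc) (.leaf 0xe47))) (.node (.node (.leaf 0x3e0) (.leaf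 0xb33)) (.node (.leaf 0xdb0) (.leaf 0xbe8)))))) (.node (.node (.node (.node (.node (.leaf 0x2fd) (.leaf 0x72d)) (.node (.leaf 0x709) (.leaf 0x4ad))) (.node (.node (.leaf 0x19e) (.leaf 0xce9)) (.node (.leaf 0x300) (.leaf 0x79b)))) (.node (.node (.node (.leaf 0x160) (.leaf 0x374)) (.node (.leaf 0xad3) (.leaf 0xdff))) (.node (.node (.leaf 0xaff) (.leaf 0x5fe)) (.node (.leaf 0x691) (.leaf 0x857))))) (.node (.node (.node (.node (.leaf 0xb2b) (.leaf 0xbb9)) (.node (.leaf 0xcaa) (.leaf 0x90f))) (.node (.node (.leaf 0x2c1) (.leaf 0xcd2)) (.node (.leaf 0x1a5) (.leaf 0x997)))) (.node (.node (.node (.leaf 0x2ea) (.leaf 0x82e)) (.node (.leaf 0xe53) (.leaf 0x354))) (.node (.node (.leaf 0x369) (.leaf 0xecf)) (.node (.leaf 0x439) (.leaf 0x131))))))) (.node (.node (.node (.node (.node (.node (.leaf 0xe6) (.leaf 0x338)) (.node (.leaf 0x94c) (.leaf 0x6ba))) (.node (.node (.leaf 0x2e1) (.leaf 0xd9c)) (.node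 (.leaf 0x16a) (.leaf 0xaf8)))) (.node (.node (.node (.leaf 0xd4d) (.leaf 0xe6a)) (.node (.leaf 0x901) (.leaf 0x9d0))) (.node (.node (.leaf 0xe13) (.leaf 0xe52)) (.node (.leaf 0xd03) (.leaf 0xfbc))))) (.node (.node (.node (.node (.leaf 0x32e) (.leaf 0x5ab)) (.node (.leaf 0x217) (.leaf 0x554))) (.node (.node (.leaf 0xae) (.leaf 0xc20)) (.node (.leaf 0x934) (.leaf 0x994)))) (.node (.node (.node (.leaf 0x3c) (.leaf 0x97b)) (.node (.leaf 0x497) (.leaf 0x2c))) (.node (.node (.leaf 0x6d6) (.leaf 0xb79)) (.node (.leaf 0x600) (.leaf 0xabf)))))) (.node (.node (.node (.node (.node (.leaf 0xac4) (.leaf 0xd77)) (.node (.leaf 0x480) (.leaf 0x81f))) (.node (.node (.leaf 0x325) (.leaf 0xf2a)) (.node (.leaf 0xac0) (.leaf 0xb53)))) (.node (.node (.node (.leaf 0xa0d) (.leaf 0x4a4)) (.node (.leaf 0xd73) (.leaf 0xa75))) (.node (.node (.leaf 0x623) (.leaf 0x531)) (.node (.leaf 0xfc9) (.leaf 0x79d))))) (.node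 (.node (.node (.node (.leaf 0x3fe) (.leaf 0x6af)) (.node (.leaf 0xf5a) (.leaf 0xc77))) (.node (.node (.leaf 0x3f7) (.leaf 0x920)) (.node (.leaf 0xf25) (.leaf 0x6e7)))) (.node (.node (.node (.leaf 0x9b1) (.leaf 0xf41)) (.node (.leaf 0x915) (.leaf 0x9f2))) (.node (.node (.leaf 0x950) (.leaf 0xe4b)) (.node (.leaf 0x786) (.leaf 0x3f4))))))))) (.node (.node (.node (.node (.node (.node (.node (.node (.leaf 0x36) (.leaf 0x97c)) (.node (.leaf 0xf12) (.leaf 0x1b6))) (.node (.node (.leaf 0xe15) (.leaf 0xb37)) (.node (.leaf 0x77) (.leaf 0xc33)))) (.node (.node (.node (.leaf 0x228) (.leaf 0x586)) (.node (.leaf 0x645) (.leaf 0xe1b))) (.node (.node (.leaf 0x470) (.leaf 0x27f)) (.node (.leaf 0xcd3) (.leaf 0x5d8))))) (.node (.node (.node (.node (.leaf 0x1e7) (.leaf 0x89c)) (.node (.leaf 0xcae) (.leaf 0xf95))) (.node (.node (.leaf 0x185) (.leaf 0x4d1)) (.node (.leaf 0xd05) (.leaf 0xf16)))) (.node (.node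 (.node (.leaf 0x4e6) (.leaf 0xb65)) (.node (.leaf 0x9eb) (.leaf 0xf80))) (.node (.node (.leaf 0x286) (.leaf 0xa3f)) (.node (.leaf 0xf0a) (.leaf 0xb6b)))))) (.node (.node (.node (.node (.node (.leaf 0xbfb) (.leaf 0xc2d)) (.node (.leaf 0x48b) (.leaf 0x1c0))) (.node (.node (.leaf 0x437) (.leaf 0x6bf)) (.node (.leaf 0x60c) (.leaf 0xa49)))) (.node (.node (.node (.leaf 0xcc) (.leaf 0xae7)) (.node (.leaf 0x472) (.leaf 0xed2))) (.node (.node (.leaf 0x635) (.leaf 0x2b2)) (.node (.leaf 0xb46) (.leaf 0xe2d))))) (.node (.node (.node (.node (.leaf 0x2c3) (.leaf 0xcb7)) (.node (.leaf 0x371) (.leaf 0x5f))) (.node (.node (.leaf 0x1f9) (.leaf 0xf92)) (.node (.leaf 0x856) (.leaf 0xf50)))) (.node (.node (.node (.leaf 0x8c2) (.leaf 0xafc)) (.node (.leaf 0x6d4) (.leaf 0xd49))) (.node (.node (.leaf 0xe1d) (.leaf 0xc6)) (.node (.leaf 0xab8) (.leaf 0x346))))))) (.node (.node (.node (.node (.node (.node (.leaf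 0x50) (.leaf 0xc60)) (.node (.leaf 0x193) (.leaf 0xdd0))) (.node (.node (.leaf 0x4de) (.leaf 0xf60)) (.node (.leaf 0x897) (.leaf 0xcb3)))) (.node (.node (.node (.leaf 0x320) (.leaf 0xe8a)) (.node (.leaf 0x1a7) (.leaf 0xf40))) (.node (.node (.leaf 0xe18) (.leaf 0xad2)) (.node (.leaf 0xdd6) (.leaf 0xf0d))))) (.node (.node (.node (.node (.leaf 0x3db) (.leaf 0x764)) (.node (.leaf 0x363) (.leaf 0x4d5))) (.node (.node (.leaf 0x577) (.leaf 0x7be)) (.node (.leaf 0x9ef) (.leaf 0xa54)))) (.node (.node (.node (.leaf 0x905) (.leaf 0xaf0)) (.node (.leaf 0x290) (.leaf 0xad8))) (.node (.node (.leaf 0x8df) (.leaf 0xc9f)) (.node (.leaf 0x8e2) (.leaf 0x5e7)))))) (.node (.node (.node (.node (.node (.leaf 0x17b) (.leaf 0xb8a)) (.node (.leaf 0x184) (.leaf 0xf5e))) (.node (.node (.leaf 0xb77) (.leaf 0xad9)) (.node (.leaf 0x739) (.leaf 0xea1)))) (.node (.node (.node (.leaf 0xb4c) (.leaf 0xb00)) (.node (.leaf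 0x67a) (.leaf 0x979))) (.node (.node (.leaf 0xef1) (.leaf 0x634)) (.node (.leaf 0x1d4) (.leaf 0xe50))))) (.node (.node (.node (.node (.leaf 0xde2) (.leaf 0x2ee)) (.node (.leaf 0x864) (.leaf 0x24f))) (.node (.node (.leaf 0x253) (.leaf 0x964)) (.node (.leaf 0xaba) (.leaf 0xe8b)))) (.node (.node (.node (.leaf 0x1c8) (.leaf 0x9f4)) (.node (.leaf 0xe51) (.leaf 0xc69))) (.node (.node (.leaf 0x58a) (.leaf 0xb69)) (.node (.leaf 0xc2c) (.leaf 0x484)))))))) (.node (.node (.node (.node (.node (.node (.node (.leaf 0x14a) (.leaf 0x47d)) (.node (.leaf 0xc2b) (.leaf 0x5e6))) (.node (.node (.leaf 0x873) (.leaf 0xd75)) (.node (.leaf 0x938) (.leaf 0xcb4)))) (.node (.node (.node (.leaf 0x234) (.leaf 0xcff)) (.node (.leaf 0xb27) (.leaf 0xdaf))) (.node (.node (.leaf 0xedd) (.leaf 0x5f3)) (.node (.leaf 0x26e) (.leaf 0xf34))))) (.node (.node (.node (.node (.leaf 0x499) (.leaf 0xce6)) (.node (.leaf 0x10b) (.leaf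 0xa2e))) (.node (.node (.leaf 0x62f) (.leaf 0x666)) (.node (.leaf 0x790) (.leaf 0x122)))) (.node (.node (.node (.leaf 0x943) (.leaf 0xf7d)) (.node (.leaf 0x9fe) (.leaf 0xe7f))) (.node (.node (.leaf 0x38b) (.leaf 0xdec)) (.node (.leaf 0xea7) (.leaf 0xd6)))))) (.node (.node (.node (.node (.node (.leaf 0x1eb) (.leaf 0x2b5)) (.node (.leaf 0xecc) (.leaf 0xd54))) (.node (.node (.leaf 0xbdb) (.leaf 0x54d)) (.node (.leaf 0x430) (.leaf 0xff6)))) (.node (.node (.node (.leaf 0x449) (.leaf 0xbe9)) (.node (.leaf 0x653) (.leaf 0xbfe))) (.node (.node (.leaf 0xdb) (.leaf 0xb92)) (.node (.leaf 0x3a0) (.leaf 0x79f))))) (.node (.node (.node (.node (.leaf 0x167) (.leaf 0x2f4)) (.node (.leaf 0x27b) (.leaf 0xa1))) (.node (.node (.leaf 0x5c2) (.leaf 0x1cf)) (.node (.leaf 0xb1c) (.leaf 0xdf7)))) (.node (.node (.node (.leaf 0xb32) (.leaf 0xeb8)) (.node (.leaf 0xeb2) (.leaf 0xd3b))) (.node (.node (.leaf 0x861)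 (.leaf 0xd3f)) (.node (.leaf 0x8af) (.leaf 0xfa3))))))) (.node (.node (.node (.node (.node (.node (.leaf 0x2d1) (.leaf 0x214)) (.node (.leaf 0xf8c) (.leaf 0xebb))) (.node (.node (.leaf 0x199) (.leaf 0x77b)) (.node (.leaf 0x992) (.leaf 0xbbe)))) (.node (.node (.node (.leaf 0x294) (.leaf 0x7f6)) (.node (.leaf 0x5c4) (.leaf 0xa9a))) (.node (.node (.leaf 0xed7) (.leaf 0xe84)) (.node (.leaf 0xa24) (.leaf 0xf2c))))) (.node (.node (.node (.node (.leaf 0x51e) (.leaf 0x366)) (.node (.leaf 0x232) (.leaf 0x5dd))) (.node (.node (.leaf 0x8d7) (.leaf 0xf15)) (.node (.leaf 0xa89) (.leaf 0x765)))) (.node (.node (.node (.leaf 0x464) (.leaf 0x4b0)) (.node (.leaf 0x34a) (.leaf 0xdc9))) (.node (.node (.leaf 0x67d) (.leaf 0xbf0)) (.node (.leaf 0xaa8) (.leaf 0xc16)))))) (.node (.node (.node (.node (.node (.leaf 0x161) (.leaf 0xb20)) (.node (.leaf 0x8b0) (.leaf 0xadc))) (.node (.node (.leaf 0x69) (.leaf 0xdca))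 (.node (.leaf 0xc4c) (.leaf 0x9d7)))) (.node (.node (.node (.leaf 0x84b) (.leaf 0x192)) (.node (.leaf 0x7ca) (.leaf 0xbe2))) (.node (.node (.leaf 0xcd5) (.leaf 0xe8d)) (.node (.leaf 0x12e) (.leaf 0xab6))))) (.node (.node (.node (.node (.leaf 0x335) (.leaf 0x46d)) (.node (.leaf 0x47c) (.leaf 0x215))) (.node (.node (.leaf 0x30e) (.leaf 0x482)) (.node (.leaf 0x29b) (.leaf 0xa6a)))) (.node (.node (.node (.leaf 0xcab) (.leaf 0x32a)) (.node (.leaf 0x20b) (.leaf 0xd84))) (.node (.node (.leaf 0x51f) (.leaf 0xa2b)) (.node (.leaf 0x1e0) (.leaf 0x343))))))))))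

/-- Part of `fixSrt`. -/
def fixSrt_p011 : Tr := (.node (.node (.node (.node (.node (.node (.node (.node (.node (.leaf 0xa7) (.leaf 0x812)) (.node (.leaf 0x45f) (.leaf 0xe72))) (.node (.node (.leaf 0x969) (.leaf 0x70d)) (.node (.leaf 0x27c) (.leaf 0x73f)))) (.node (.node (.node (.leaf 0x334) (.leaf 0xed0)) (.node (.leaf 0xbbd) (.leaf 0x96d))) (.node (.node (.leaf 0xa43) (.leaf 0x19d)) (.node (.leaf 0x844) (.leaf 0x1ad))))) (.node (.node (.node (.node (.leaf 0xef) (.leaf 0x419)) (.node (.leaf 0x1d5) (.leaf 0xf5c))) (.node (.node (.leaf 0x8e9) (.leaf 0xa4d)) (.node (.leaf 0x94d) (.leaf 0x99e)))) (.node (.node (.node (.leaf 0x62d) (.leaf 0xc7f)) (.node (.leaf 0x318) (.leaf 0x393))) (.node (.node (.leaf 0x329) (.leaf 0x2f7)) (.node (.leaf 0x4f5) (.leaf 0x9db)))))) (.node (.node (.node (.node (.node (.leaf 0x11) (.leaf 0x251)) (.node (.leaf 0x1f1) (.leaf 0x4cc))) (.node (.node (.leaf 0x697)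 (.leaf 0x85a)) (.node (.leaf 0x5bb) (.leaf 0x3a8)))) (.node (.node (.node (.leaf 0x28f) (.leaf 0x8fb)) (.node (.leaf 0x62c) (.leaf 0x52e))) (.node (.node (.leaf 0xac9) (.leaf 0xfd5)) (.node (.leaf 0xa42) (.leaf 0xb42))))) (.node (.node (.node (.node (.leaf 0x11d) (.leaf 0xde1)) (.node (.leaf 0x883) (.leaf 0x785))) (.node (.node (.leaf 0x111) (.leaf 0x7e9)) (.node (.leaf 0x4b3) (.leaf 0x7e3)))) (.node (.node (.node (.leaf 0x1a8) (.leaf 0xe95)) (.node (.leaf 0x397) (.leaf 0x933))) (.node (.node (.leaf 0x317) (.leaf 0x3ed)) (.node (.leaf 0xa66) (.leaf 0x35))))))) (.node (.node (.node (.node (.node (.node (.leaf 0x52) (.leaf 0xbe7)) (.node (.leaf 0xfe0) (.leaf 0xfec))) (.node (.node (.leaf 0xa41) (.leaf 0x990)) (.node (.leaf 0xc10) (.leaf 0x75b)))) (.node (.node (.node (.leaf 0x1a2) (.leaf 0xdcd)) (.node (.leaf 0x8bd) (.leaf 0x4a7))) (.node (.node (.leaf 0xc6b) (.leaf 0x3cb)) (.node (.leaf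 0xba0) (.leaf 0x79a))))) (.node (.node (.node (.node (.leaf 0xc30) (.leaf 0x4cf)) (.node (.leaf 0x195) (.leaf 0xc2e))) (.node (.node (.leaf 0x622) (.leaf 0xc72)) (.node (.leaf 0xd1c) (.leaf 0x87f)))) (.node (.node (.node (.leaf 0x591) (.leaf 0x807)) (.node (.leaf 0xbbb) (.leaf 0xf08))) (.node (.node (.leaf 0x4e9) (.leaf 0x816)) (.node (.leaf 0xd7a) (.leaf 0xdc7)))))) (.node (.node (.node (.node (.node (.leaf 0x100) (.leaf 0x579)) (.node (.leaf 0x14f) (.leaf 0xc9a))) (.node (.node (.leaf 0x17d) (.leaf 0x88f)) (.node (.leaf 0xb4d) (.leaf 0xf2e)))) (.node (.node (.node (.leaf 0x55) (.leaf 0xe4a)) (.node (.leaf 0x609) (.leaf 0x5c9))) (.node (.node (.leaf 0x7ff) (.leaf 0x879)) (.node (.leaf 0x5c3) (.leaf 0xfb1))))) (.node (.node (.node (.node (.leaf 0x42e) (.leaf 0x871)) (.node (.leaf 0xe33) (.leaf 0x9c3))) (.node (.node (.leaf 0xa3b) (.leaf 0xb18)) (.node (.leaf 0x356) (.leaf 0xc92)))) (.node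 (.node (.node (.leaf 0x88e) (.leaf 0xfc0)) (.node (.leaf 0x722) (.leaf 0xd36))) (.node (.node (.leaf 0x66e) (.leaf 0x57f)) (.node (.leaf 0xa7b) (.leaf 0x4ec)))))))) (.node (.node (.node (.node (.node (.node (.node (.leaf 0x40) (.leaf 0x2ef)) (.node (.leaf 0x287) (.leaf 0x8d4))) (.node (.node (.leaf 0x6e0) (.leaf 0xbd9)) (.node (.leaf 0x340) (.leaf 0xbab)))) (.node (.node (.node (.leaf 0x50b) (.leaf 0x4f2)) (.node (.leaf 0xc89) (.leaf 0x1fe))) (.node (.node (.leaf 0x162) (.leaf 0x876)) (.node (.leaf 0xba7) (.leaf 0x357))))) (.node (.node (.node (.node (.leaf 0xbf9) (.leaf 0x551)) (.node (.leaf 0xca0) (.leaf 0xcfd))) (.node (.node (.leaf 0xc12) (.leaf 0xbaa)) (.node (.leaf 0xc4b) (.leaf 0xda9)))) (.node (.node (.node (.leaf 0x33) (.leaf 0xdab)) (.node (.leaf 0xf4d) (.leaf 0x891))) (.node (.node (.leaf 0x4ea) (.leaf 0xa81)) (.node (.leaf 0xcde) (.leaf 0x355)))))) (.node (.node (.node (.node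 (.node (.leaf 0x166) (.leaf 0xbd2)) (.node (.leaf 0x117) (.leaf 0xd9b))) (.node (.node (.leaf 0x376) (.leaf 0x7c3)) (.node (.leaf 0x405) (.leaf 0xf1e)))) (.node (.node (.node (.leaf 0x3fa) (.leaf 0x593)) (.node (.leaf 0x737) (.leaf 0xdd4))) (.node (.node (.leaf 0x57c) (.leaf 0xf00)) (.node (.leaf 0xa76) (.leaf 0x770))))) (.node (.node (.node (.node (.leaf 0x42f) (.leaf 0x6cb)) (.node (.leaf 0xdcf) (.leaf 0xfe1))) (.node (.node (.leaf 0x44e) (.leaf 0x261)) (.node (.leaf 0x6a2) (.leaf 0x766)))) (.node (.node (.node (.leaf 0x295) (.leaf 0xebc)) (.node (.leaf 0x617) (.leaf 0x5d3))) (.node (.node (.leaf 0x4a2) (.leaf 0x2c9)) (.node (.leaf 0xb3) (.leaf 0xe56))))))) (.node (.node (.node (.node (.node (.node (.leaf 0x24) (.leaf 0x43e)) (.node (.leaf 0x91b) (.leaf 0x980))) (.node (.node (.leaf 0xe91) (.leaf 0xfea)) (.node (.leaf 0xbc7) (.leaf 0x963)))) (.node (.node (.node (.leaf 0xabd) (.leaf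 0xb85)) (.node (.leaf 0x74f) (.leaf 0x80c))) (.node (.node (.leaf 0x3a6) (.leaf 0x79)) (.node (.leaf 0x5fc) (.leaf 0xe3b))))) (.node (.node (.node (.node (.leaf 0x65c) (.leaf 0xaf4)) (.node (.leaf 0x1b2) (.leaf 0xa4a))) (.node (.node (.leaf 0x169) (.leaf 0xf90)) (.node (.leaf 0xab1) (.leaf 0x7a9)))) (.node (.node (.node (.leaf 0x75) (.leaf 0x94b)) (.node (.leaf 0xf07) (.leaf 0xd9a))) (.node (.node (.leaf 0x264) (.leaf 0xa93)) (.node (.leaf 0xd6d) (.leaf 0xccb)))))) (.node (.node (.node (.node (.node (.leaf 0x9b) (.leaf 0xd5)) (.node (.leaf 0x66c) (.leaf 0x561))) (.node (.node (.leaf 0x3f1) (.leaf 0x72a)) (.node (.leaf 0x358) (.leaf 0xb34)))) (.node (.node (.node (.leaf 0x746) (.leaf 0x6b9)) (.node (.leaf 0x24a) (.leaf 0x795))) (.node (.node (.leaf 0x702) (.leaf 0x37f)) (.node (.leaf 0x805) (.leaf 0xdb8))))) (.node (.node (.node (.node (.leaf 0x17e) (.leaf 0xc50)) (.node (.leaf 0x543) (.leaf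 0x729))) (.node (.node (.leaf 0xf03) (.leaf 0xc7a)) (.node (.leaf 0xef8) (.leaf 0x5e1)))) (.node (.node (.node (.leaf 0x2c7) (.leaf 0xde8)) (.node (.leaf 0x8a1) (.leaf 0xf8e))) (.node (.node (.leaf 0xbea) (.leaf 0x436)) (.node (.leaf 0x3eb) (.leaf 0x33a))))))))) (.node (.node (.node (.node (.node (.node (.node (.node (.leaf 0xd) (.leaf 0x86)) (.node (.leaf 0x6f6) (.leaf 0xad0))) (.node (.node (.leaf 0xa62) (.leaf 0x887)) (.node (.leaf 0xc21) (.leaf 0xd64)))) (.node (.node (.node (.leaf 0x2a8) (.leaf 0x492)) (.node (.leaf 0x8f5) (.leaf 0x1b8))) (.node (.node (.leaf 0x293) (.leaf 0x82a)) (.node (.leaf 0x9e6) (.leaf 0xb16))))) (.node (.node (.node (.node (.leaf 0xb5) (.leaf 0x396)) (.node (.leaf 0xaeb) (.leaf 0x8c6))) (.node (.node (.leaf 0x672) (.leaf 0x999)) (.node (.leaf 0x941) (.leaf 0xe22)))) (.node (.node (.node (.leaf 0xc0) (.leaf 0x40e)) (.node (.leaf 0x4da) (.leaf 0xffc))) (.node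 (.node (.leaf 0xe9d) (.leaf 0x668)) (.node (.leaf 0x8ea) (.leaf 0x79c)))))) (.node (.node (.node (.node (.node (.leaf 0x5d) (.leaf 0xc7b)) (.node (.leaf 0xb49) (.leaf 0x123))) (.node (.node (.leaf 0x90a) (.leaf 0x924)) (.node (.leaf 0x165) (.leaf 0xc3a)))) (.node (.node (.node (.leaf 0x23d) (.leaf 0x81b)) (.node (.leaf 0x331) (.leaf 0xc61))) (.node (.node (.leaf 0x238) (.leaf 0xbce)) (.node (.leaf 0x380) (.leaf 0xfd0))))) (.node (.node (.node (.node (.leaf 0xf0) (.leaf 0xc3f)) (.node (.leaf 0xc76) (.leaf 0x364))) (.node (.node (.leaf 0xc26) (.leaf 0xe3e)) (.node (.leaf 0x1dd) (.leaf 0xac7)))) (.node (.node (.node (.leaf 0x4bf) (.leaf 0xaef)) (.node (.leaf 0x2f1) (.leaf 0x536))) (.node (.node (.leaf 0x32d) (.leaf 0x128)) (.node (.leaf 0x90) (.leaf 0xfa6))))))) (.node (.node (.node (.node (.node (.node (.leaf 0x8a) (.leaf 0x27e)) (.node (.leaf 0x20a) (.leaf 0xd2f))) (.node (.node (.leaf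 0x387) (.leaf 0x35e)) (.node (.leaf 0x66f) (.leaf 0xe11)))) (.node (.node (.node (.leaf 0x7cd) (.leaf 0x5c5)) (.node (.leaf 0x71d) (.leaf 0x8fe))) (.node (.node (.leaf 0x547) (.leaf 0x490)) (.node (.leaf 0x96) (.leaf 0xaa2))))) (.node (.node (.node (.node (.leaf 0x229) (.leaf 0xb09)) (.node (.leaf 0x16e) (.leaf 0xcac))) (.node (.node (.leaf 0xd2d) (.leaf 0xd0f)) (.node (.leaf 0xc02) (.leaf 0x55d)))) (.node (.node (.node (.leaf 0x5ec) (.leaf 0x45d)) (.node (.leaf 0xc14) (.leaf 0xa09))) (.node (.node (.leaf 0xae0) (.leaf 0xac6)) (.node (.leaf 0xbf) (.leaf 0x89a)))))) (.node (.node (.node (.node (.node (.leaf 0x30) (.leaf 0xc96)) (.node (.leaf 0xb22) (.leaf 0x3ab))) (.node (.node (.leaf 0x132) (.leaf 0x76f)) (.node (.leaf 0x716) (.leaf 0xec4)))) (.node (.node (.node (.leaf 0xc80) (.leaf 0x7a2)) (.node (.leaf 0x168) (.leaf 0x809))) (.node (.node (.leaf 0xdfa) (.leaf 0x13c)) (.node (.leaf 0xea6)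 (.leaf 0xec1))))) (.node (.node (.node (.node (.leaf 0x38d) (.leaf 0x44a)) (.node (.leaf 0x56a) (.leaf 0xf30))) (.node (.node (.leaf 0x8ca) (.leaf 0x23)) (.node (.leaf 0xc95) (.leaf 0xb43)))) (.node (.node (.node (.leaf 0x1f7) (.leaf 0xafa)) (.node (.leaf 0xc87) (.leaf 0xc3d))) (.node (.node (.leaf 0xc9e) (.leaf 0x706)) (.node (.leaf 0x182) (.leaf 0xb93)))))))) (.node (.node (.node (.node (.node (.node (.node (.leaf 0x20) (.leaf 0xfb9)) (.node (.leaf 0x1a1) (.leaf 0x7b2))) (.node (.node (.leaf 0x9d) (.leaf 0x296)) (.node (.leaf 0x501) (.leaf 0x53c)))) (.node (.node (.node (.leaf 0x23e) (.leaf 0x60f)) (.node (.leaf 0x448) (.leaf 0x981))) (.node (.node (.leaf 0x824) (.leaf 0xef4)) (.node (.leaf 0x68b) (.leaf 0xcfa))))) (.node (.node (.node (.node (.leaf 0x3d9) (.leaf 0xede)) (.node (.leaf 0x8a5) (.leaf 0x742))) (.node (.node (.leaf 0x922) (.leaf 0xb15)) (.node (.leaf 0xf64) (.leaf 0x41e))))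 (.node (.node (.node (.leaf 0xd06) (.leaf 0xf72)) (.node (.leaf 0x8cd) (.leaf 0x54a))) (.node (.node (.leaf 0xe4d) (.leaf 0x2e7)) (.node (.leaf 0x78c) (.leaf 0xf46)))))) (.node (.node (.node (.node (.node (.leaf 0x63) (.leaf 0x895)) (.node (.leaf 0xfcd) (.leaf 0xa22))) (.node (.node (.leaf 0x741) (.leaf 0xe81)) (.node (.leaf 0x8db) (.leaf 0xa98)))) (.node (.node (.node (.leaf 0x23f) (.leaf 0xff7)) (.node (.leaf 0x859) (.leaf 0xbf2))) (.node (.node (.leaf 0x70) (.leaf 0x817)) (.node (.leaf 0xce0) (.leaf 0xd81))))) (.node (.node (.node (.node (.leaf 0x9c8) (.leaf 0xd0b)) (.node (.leaf 0x5ef) (.leaf 0xefe))) (.node (.node (.leaf 0x5a1) (.leaf 0x99c)) (.node (.leaf 0x6a1) (.leaf 0x956)))) (.node (.node (.node (.leaf 0x378) (.leaf 0x461)) (.node (.leaf 0xd62) (.leaf 0xa11))) (.node (.node (.leaf 0x52f) (.leaf 0x3c1)) (.node (.leaf 0x9e3) (.leaf 0x491))))))) (.node (.node (.node (.node (.node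 (.node (.leaf 0x202) (.leaf 0x8a6)) (.node (.leaf 0x1c1) (.leaf 0x8d0))) (.node (.node (.leaf 0x975) (.leaf 0x381)) (.node (.leaf 0x718) (.leaf 0x82b)))) (.node (.node (.node (.leaf 0x2c4) (.leaf 0x352)) (.node (.leaf 0x7bc) (.leaf 0xa80))) (.node (.node (.leaf 0xf4a) (.leaf 0xda8)) (.node (.leaf 0xcca) (.leaf 0xf1d))))) (.node (.node (.node (.node (.leaf 0x227) (.leaf 0xaa1)) (.node (.leaf 0xa32) (.leaf 0x6f9))) (.node (.node (.leaf 0x2be) (.leaf 0x935)) (.node (.leaf 0x6c8) (.leaf 0x7d6)))) (.node (.node (.node (.leaf 0xcd6) (.leaf 0x1ca)) (.node (.leaf 0x16b) (.leaf 0xdf1))) (.node (.node (.leaf 0xdd2) (.leaf 0x40f)) (.node (.leaf 0xe9f) (.leaf 0xd8e)))))) (.node (.node (.node (.node (.node (.leaf 0x15) (.leaf 0x6dc)) (.node (.leaf 0x16d) (.leaf 0x687))) (.node (.node (.leaf 0xe79) (.leaf 0xfdc)) (.node (.leaf 0x95f) (.leaf 0xa86)))) (.node (.node (.node (.leaf 0x532) (.leaf 0xc56))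 (.node (.leaf 0xb01) (.leaf 0xed3))) (.node (.node (.leaf 0x4ac) (.leaf 0xa39)) (.node (.leaf 0x2cb) (.leaf 0x5fd))))) (.node (.node (.node (.node (.leaf 0x10d) (.leaf 0x9e8)) (.node (.leaf 0xe54) (.leaf 0x4d2))) (.node (.node (.leaf 0x907) (.leaf 0x483)) (.node (.leaf 0x9a2) (.leaf 0xdaa)))) (.node (.node (.node (.leaf 0xefd) (.leaf 0x32b)) (.node (.leaf 0xc1d) (.leaf 0x7e0))) (.node (.node (.leaf 0x62e) (.leaf 0xcb6)) (.node (.leaf 0xbd7) (.leaf 0x0))))))))))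

/-- Part of `fixSrt`. -/
def fixSrt_p01 : Tr := .node fixSrt_p010 fixSrt_p011

/-- Part of `fixSrt`. -/
def fixSrt_p0 : Tr := .node fixSrt_p00 fixSrt_p01

/-- Part of `fixSrt`. -/
def fixSrt_p100 : Tr := (.node (.node (.node (.node (.node (.node (.node (.node (.node (.leaf 0x1b) (.leaf 0x8d6)) (.node (.leaf 0xf84) (.leaf 0xb6c))) (.node (.node (.leaf 0xa37) (.leaf 0xdee)) (.node (.leaf 0xbd3) (.leaf 0xe10)))) (.node (.node (.node (.leaf 0x9ec) (.leaf 0x9e2)) (.node (.leaf 0xc0e) (.leaf 0xf04))) (.node (.node (.leaf 0x136) (.leaf 0xf9f)) (.node (.leaf 0xe0f) (.leaf 0xd63))))) (.node (.node (.node (.node (.leaf 0x6c) (.leaf 0xc78)) (.node (.leaf 0xeb6) (.leaf 0xa95))) (.node (.node (.leaf 0xb9c) (.leaf 0x7ec)) (.node (.leaf 0x843) (.leaf 0xb3f)))) (.node (.node (.node (.leaf 0x5d2) (.leaf 0xa59)) (.node (.leaf 0xca7) (.leaf 0x68e))) (.node (.node (.leaf 0x8f1) (.leaf 0xc11)) (.node (.leaf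 0x3b8) (.leaf 0xd0d)))))) (.node (.node (.node (.node (.node (.leaf 0x53) (.leaf 0xa19)) (.node (.leaf 0x6f2) (.leaf 0xa92))) (.node (.node (.leaf 0xb2) (.leaf 0x6f0)) (.node (.leaf 0xcb2) (.leaf 0xd23)))) (.node (.node (.node (.leaf 0xb97) (.leaf 0xc19)) (.node (.leaf 0xb48) (.leaf 0x5d5))) (.node (.node (.leaf 0xee2) (.leaf 0x41b)) (.node (.leaf 0x9ae) (.leaf 0xa9c))))) (.node (.node (.node (.node (.leaf 0x26a) (.leaf 0x6a8)) (.node (.leaf 0x503) (.leaf 0xddb))) (.node (.node (.leaf 0xd65) (.leaf 0xd93)) (.node (.leaf 0xcef) (.leaf 0xdb3)))) (.node (.node (.node (.leaf 0x155) (.leaf 0xb98)) (.node (.leaf 0x213) (.leaf 0xb45))) (.node (.node (.leaf 0x53f) (.leaf 0xc52)) (.node (.leaf 0xb17) (.leaf 0x2f8))))))) (.node (.node (.node (.node (.node (.node (.leaf 0x18) (.leaf 0x869)) (.node (.leaf 0x654) (.leaf 0x265))) (.node (.node (.leaf 0x236) (.leaf 0x711)) (.node (.leaf 0xaae) (.leaf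 0xab4)))) (.node (.node (.node (.leaf 0x224) (.leaf 0xca8)) (.node (.leaf 0xd19) (.leaf 0x518))) (.node (.node (.leaf 0x1d7) (.leaf 0xe2e)) (.node (.leaf 0x7ef) (.leaf 0x4f4))))) (.node (.node (.node (.node (.leaf 0x58) (.leaf 0xbb8)) (.node (.leaf 0x47e) (.leaf 0x2f9))) (.node (.node (.leaf 0x839) (.leaf 0x5bc)) (.node (.leaf 0x9bd) (.leaf 0xe78)))) (.node (.node (.node (.leaf 0x2b6) (.leaf 0x474)) (.node (.leaf 0xf4c) (.leaf 0x8a2))) (.node (.node (.leaf 0x34d) (.leaf 0x8f6)) (.node (.leaf 0x4ee) (.leaf 0xf6b)))))) (.node (.node (.node (.node (.node (.leaf 0x68) (.leaf 0x944)) (.node (.leaf 0x468) (.leaf 0xd8d))) (.node (.node (.leaf 0xeb5) (.leaf 0xbc9)) (.node (.leaf 0x489) (.leaf 0xf1b)))) (.node (.node (.node (.leaf 0x8c4) (.leaf 0xa61)) (.node (.leaf 0x88d) (.leaf 0xe5e))) (.node (.node (.leaf 0xae2) (.leaf 0x5b5)) (.node (.leaf 0x3b3) (.leaf 0x774))))) (.node (.node (.node (.node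 (.leaf 0x3e6) (.leaf 0x9e4)) (.node (.leaf 0x495) (.leaf 0xdd5))) (.node (.node (.leaf 0x248) (.leaf 0xe6d)) (.node (.leaf 0xca5) (.leaf 0x5be)))) (.node (.node (.node (.leaf 0x7a4) (.leaf 0x3f5)) (.node (.leaf 0x6da) (.leaf 0x6a0))) (.node (.node (.leaf 0xae9) (.leaf 0x6d)) (.node (.leaf 0x278) (.leaf 0x661)))))))) (.node (.node (.node (.node (.node (.node (.node (.leaf 0x2d) (.leaf 0x8da)) (.node (.leaf 0x574) (.leaf 0xf2b))) (.node (.node (.leaf 0xed5) (.leaf 0x8aa)) (.node (.leaf 0x494) (.leaf 0xb1f)))) (.node (.node (.node (.leaf 0x707) (.leaf 0x4f7)) (.node (.leaf 0xace) (.leaf 0x8d3))) (.node (.node (.leaf 0x48a) (.leaf 0xe71)) (.node (.leaf 0xb64) (.leaf 0xb3b))))) (.node (.node (.node (.node (.leaf 0x19f) (.leaf 0xda1)) (.node (.leaf 0x92) (.leaf 0xf31))) (.node (.node (.leaf 0x761) (.leaf 0xbc0)) (.node (.leaf 0xde0) (.leaf 0x562)))) (.node (.node (.node (.leaf 0x5ee) (.leaf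 0x9cd)) (.node (.leaf 0xe04) (.leaf 0xb2c))) (.node (.node (.leaf 0x6f3) (.leaf 0x94a)) (.node (.leaf 0x95d) (.leaf 0xf76)))))) (.node (.node (.node (.node (.node (.leaf 0x38c) (.leaf 0x22c)) (.node (.leaf 0x65a) (.leaf 0x5f2))) (.node (.node (.leaf 0x970) (.leaf 0x719)) (.node (.leaf 0x67e) (.leaf 0x6b1)))) (.node (.node (.node (.leaf 0x865) (.leaf 0x5bf)) (.node (.leaf 0x9ce) (.leaf 0xfe9))) (.node (.node (.leaf 0x32f) (.leaf 0x53a)) (.node (.leaf 0x6e8) (.leaf 0xb0a))))) (.node (.node (.node (.node (.leaf 0x11f) (.leaf 0x771)) (.node (.leaf 0x2ca) (.leaf 0x516))) (.node (.node (.leaf 0x2a9) (.leaf 0x9a8)) (.node (.leaf 0x9fc) (.leaf 0x9c0)))) (.node (.node (.node (.leaf 0x410) (.leaf 0xebd)) (.node (.leaf 0xad1) (.leaf 0xe2f))) (.node (.node (.leaf 0x659) (.leaf 0x159)) (.node (.leaf 0x200) (.leaf 0x66b))))))) (.node (.node (.node (.node (.node (.node (.leaf 0x1f) (.leaf 0x10e)) (.node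 (.leaf 0x70a) (.leaf 0xf9a))) (.node (.node (.leaf 0x2c8) (.leaf 0x704)) (.node (.leaf 0xf63) (.leaf 0x80f)))) (.node (.node (.node (.leaf 0x13b) (.leaf 0xc97)) (.node (.leaf 0xef0) (.leaf 0xa82))) (.node (.node (.leaf 0xfc1) (.leaf 0x80e)) (.node (.leaf 0x715) (.leaf 0x78a))))) (.node (.node (.node (.node (.leaf 0x1d) (.leaf 0x749)) (.node (.leaf 0xee9) (.leaf 0x98c))) (.node (.node (.leaf 0xa0c) (.leaf 0x6ee)) (.node (.leaf 0x732) (.leaf 0x55e)))) (.node (.node (.node (.leaf 0xb) (.leaf 0xdef)) (.node (.leaf 0x211) (.leaf 0xc8f))) (.node (.node (.leaf 0x447) (.leaf 0xf21)) (.node (.leaf 0x590) (.leaf 0xb51)))))) (.node (.node (.node (.node (.node (.leaf 0x401) (.leaf 0x664)) (.node (.leaf 0xc2) (.leaf 0x612))) (.node (.node (.leaf 0xc44) (.leaf 0xcfc)) (.node (.leaf 0x4c3) (.leaf 0x833)))) (.node (.node (.node (.leaf 0xf6) (.leaf 0x650)) (.node (.leaf 0x9fb) (.leaf 0x6b5))) (.node (.node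 (.leaf 0x417) (.leaf 0xd04)) (.node (.leaf 0x280) (.leaf 0xd21))))) (.node (.node (.node (.node (.leaf 0x70f) (.leaf 0x68f)) (.node (.leaf 0x1d8) (.leaf 0xea2))) (.node (.node (.leaf 0x3e5) (.leaf 0x178)) (.node (.leaf 0x919) (.leaf 0xa44)))) (.node (.node (.node (.leaf 0x903) (.leaf 0x77f)) (.node (.leaf 0xd50) (.leaf 0xec5))) (.node (.node (.leaf 0x6a5) (.leaf 0xd61)) (.node (.leaf 0x373) (.leaf 0x1fc))))))))) (.node (.node (.node (.node (.node (.node (.node (.node (.leaf 0x4f) (.leaf 0x394)) (.node (.leaf 0xf37) (.leaf 0x2ce))) (.node (.node (.leaf 0x752) (.leaf 0x7fe)) (.node (.leaf 0xb73) (.leaf 0x29d)))) (.node (.node (.node (.leaf 0x102) (.leaf 0x35d)) (.node (.leaf 0x649) (.leaf 0xd02))) (.node (.node (.leaf 0x31f) (.leaf 0xfc)) (.node (.leaf 0xc46) (.leaf 0x826))))) (.node (.node (.node (.node (.leaf 0x14d) (.leaf 0xd0c)) (.node (.leaf 0x96c) (.leaf 0x814))) (.node (.node (.leaf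 0x2ab) (.leaf 0xbf3)) (.node (.leaf 0xa50) (.leaf 0x7a0)))) (.node (.node (.node (.leaf 0x9c1) (.leaf 0x682)) (.node (.leaf 0x78) (.leaf 0xfac))) (.node (.node (.leaf 0xcc3) (.leaf 0x6ec)) (.node (.leaf 0x2) (.leaf 0x9d5)))))) (.node (.node (.node (.node (.node (.leaf 0xaa) (.leaf 0xe2)) (.node (.leaf 0x3f8) (.leaf 0xfdb))) (.node (.node (.leaf 0x1a9) (.leaf 0x6fb)) (.node (.leaf 0x549) (.leaf 0xd85)))) (.node (.node (.node (.leaf 0x105) (.leaf 0xeb9)) (.node (.leaf 0x64e) (.leaf 0xb70))) (.node (.node (.leaf 0x223) (.leaf 0xe55)) (.node (.leaf 0x279) (.leaf 0xa4b))))) (.node (.node (.node (.node (.leaf 0x124) (.leaf 0xfae)) (.node (.leaf 0x3c9) (.leaf 0xca))) (.node (.node (.leaf 0x4f8) (.leaf 0xe00)) (.node (.leaf 0xba8) (.leaf 0xcc8)))) (.node (.node (.node (.leaf 0x322) (.leaf 0x7f7)) (.node (.leaf 0x8cf) (.leaf 0xc85))) (.node (.node (.leaf 0xe9e) (.leaf 0xff2)) (.node (.leaf 0x701)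 (.leaf 0x65d))))))) (.node (.node (.node (.node (.node (.node (.leaf 0x74) (.leaf 0x56b)) (.node (.leaf 0xcaf) (.leaf 0x3ea))) (.node (.node (.leaf 0x6ed) (.leaf 0x5a7)) (.node (.leaf 0xbdc) (.leaf 0xec8)))) (.node (.node (.node (.leaf 0x106) (.leaf 0x406)) (.node (.leaf 0x690) (.leaf 0x6b0))) (.node (.node (.leaf 0xb4f) (.leaf 0xae3)) (.node (.leaf 0xf32) (.leaf 0xa5b))))) (.node (.node (.node (.node (.leaf 0x14c) (.leaf 0x4d6)) (.node (.leaf 0x59) (.leaf 0x542))) (.node (.node (.leaf 0x452) (.leaf 0x5d7)) (.node (.leaf 0x8eb) (.leaf 0x7a1)))) (.node (.node (.node (.leaf 0x4eb) (.leaf 0x67f)) (.node (.leaf 0x559) (.leaf 0x900))) (.node (.node (.leaf 0x316) (.leaf 0x3d6)) (.node (.leaf 0xac1) (.leaf 0xcf0)))))) (.node (.node (.node (.node (.node (.leaf 0x8b) (.leaf 0xd42)) (.node (.leaf 0x154) (.leaf 0xc0f))) (.node (.node (.leaf 0xd2) (.leaf 0x820)) (.node (.leaf 0x5c8) (.leaf 0xa9b))))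 (.node (.node (.node (.leaf 0x625) (.leaf 0x5b8)) (.node (.leaf 0xd57) (.leaf 0x9e7))) (.node (.node (.leaf 0x440) (.leaf 0xaaa)) (.node (.leaf 0xe49) (.leaf 0x97a))))) (.node (.node (.node (.node (.leaf 0x608) (.leaf 0x24e)) (.node (.leaf 0x6c5) (.leaf 0xfb))) (.node (.node (.leaf 0x860) (.leaf 0xa5e)) (.node (.leaf 0x788) (.leaf 0xe25)))) (.node (.node (.node (.leaf 0x442) (.leaf 0x81e)) (.node (.leaf 0x9a3) (.leaf 0x5d6))) (.node (.node (.leaf 0xb6) (.leaf 0x6a4)) (.node (.leaf 0x6d5) (.leaf 0xffb)))))))) (.node (.node (.node (.node (.node (.node (.node (.leaf 0xdc) (.leaf 0x837)) (.node (.leaf 0xc36) (.leaf 0xfe8))) (.node (.node (.leaf 0x606) (.leaf 0xc53)) (.node (.leaf 0x7c9) (.leaf 0xe08)))) (.node (.node (.node (.leaf 0x30b) (.leaf 0x246)) (.node (.leaf 0xccd) (.leaf 0xa85))) (.node (.node (.leaf 0xecd) (.leaf 0x7de)) (.node (.leaf 0x1d0) (.leaf 0x40d))))) (.node (.node (.node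 (.node (.leaf 0x39b) (.leaf 0xea5)) (.node (.leaf 0xec) (.leaf 0x8f4))) (.node (.node (.leaf 0xb0d) (.leaf 0xb13)) (.node (.leaf 0x5e9) (.leaf 0xe0c)))) (.node (.node (.node (.leaf 0x7ed) (.leaf 0xeee)) (.node (.leaf 0x9c9) (.leaf 0xa7c))) (.node (.node (.leaf 0x327) (.leaf 0xbb4)) (.node (.leaf 0x7c7) (.leaf 0x5b3)))))) (.node (.node (.node (.node (.node (.leaf 0xf3) (.leaf 0x108)) (.node (.leaf 0x92c) (.leaf 0x82))) (.node (.node (.leaf 0xc1f) (.leaf 0x6b4)) (.node (.leaf 0x377) (.leaf 0xa90)))) (.node (.node (.node (.leaf 0x289) (.leaf 0x230)) (.node (.leaf 0x6a9) (.leaf 0xaa3))) (.node (.node (.leaf 0x571) (.leaf 0xf9e)) (.node (.leaf 0xcc9) (.leaf 0x5b4))))) (.node (.node (.node (.node (.leaf 0xf1) (.leaf 0x3cd)) (.node (.leaf 0xf6e) (.leaf 0xfcc))) (.node (.node (.leaf 0x6fc) (.leaf 0x2e6)) (.node (.leaf 0xf8a) (.leaf 0xa01)))) (.node (.node (.node (.leaf 0x2e0) (.leaf 0xadd)) (.node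 (.leaf 0x2e3) (.leaf 0x1de))) (.node (.node (.leaf 0x39d) (.leaf 0x5c0)) (.node (.leaf 0xb0) (.leaf 0x7a))))))) (.node (.node (.node (.node (.node (.node (.leaf 0x2e4) (.leaf 0x308)) (.node (.leaf 0xc94) (.leaf 0x1cd))) (.node (.node (.leaf 0x16c) (.leaf 0xf7b)) (.node (.leaf 0x513) (.leaf 0xbe0)))) (.node (.node (.node (.leaf 0x3d8) (.leaf 0xe3a)) (.node (.leaf 0x1d6) (.leaf 0xf18))) (.node (.node (.leaf 0x118) (.leaf 0x894)) (.node (.leaf 0xee0) (.leaf 0xee6))))) (.node (.node (.node (.node (.leaf 0x2a2) (.leaf 0x1ba)) (.node (.leaf 0x8b5) (.leaf 0x4b8))) (.node (.node (.leaf 0x947) (.leaf 0x7df)) (.node (.leaf 0xde7) (.leaf 0x827)))) (.node (.node (.node (.leaf 0x3fb) (.leaf 0x63e)) (.node (.leaf 0xbf4) (.leaf 0xf28))) (.node (.node (.leaf 0x418) (.leaf 0xc58)) (.node (.leaf 0x429) (.leaf 0xc49)))))) (.node (.node (.node (.node (.node (.leaf 0x4f9) (.leaf 0xbdd)) (.node (.leaf 0xa06)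 (.leaf 0x866))) (.node (.node (.leaf 0x677) (.leaf 0xe30)) (.node (.leaf 0x8ec) (.leaf 0xaac)))) (.node (.node (.node (.leaf 0x50c) (.leaf 0xce5)) (.node (.leaf 0x196) (.leaf 0xa74))) (.node (.node (.leaf 0x4c6) (.leaf 0x604)) (.node (.leaf 0x511) (.leaf 0x3cc))))) (.node (.node (.node (.node (.leaf 0x1f0) (.leaf 0xf7c)) (.node (.leaf 0x7dc) (.leaf 0xf8f))) (.node (.node (.leaf 0xa6f) (.leaf 0x1a)) (.node (.leaf 0x84a) (.leaf 0xb68)))) (.node (.node (.node (.leaf 0x5af) (.leaf 0x476)) (.node (.leaf 0x888) (.leaf 0x858))) (.node (.node (.leaf 0x7d9) (.leaf 0x745)) (.node (.leaf 0x33f) (.leaf 0xfd))))))))))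

/-- Part of `fixSrt`. -/
def fixSrt_p101 : Tr := (.node (.node (.node (.node (.node (.node (.node (.node (.node (.leaf 0x3a) (.leaf 0x638)) (.node (.leaf 0x145) (.leaf 0x3c7))) (.node (.node (.leaf 0x50e) (.leaf 0xc8c)) (.node (.leaf 0x9fd) (.leaf 0xdeb)))) (.node (.node (.node (.leaf 0x22d) (.leaf 0xd68)) (.node (.leaf 0xad5) (.leaf 0x558))) (.node (.node (.leaf 0xb2f) (.leaf 0x45)) (.node (.leaf 0xa5a) (.leaf 0xb40))))) (.node (.node (.node (.node (.leaf 0x99) (.leaf 0x457)) (.node (.leaf 0x1e3) (.leaf 0xe74))) (.node (.node (.leaf 0x1c2) (.leaf 0xc82)) (.node (.leaf 0x940) (.leaf 0xcfb)))) (.node (.node (.node (.leaf 0xd1) (.leaf 0xc24)) (.node (.leaf 0x36b) (.leaf 0x359))) (.node (.node (.leaf 0xadb) (.leaf 0x368)) (.node (.leaf 0x285) (.leaf 0xbd0)))))) (.node (.node (.node (.node (.node (.leaf 0x2dc) (.leaf 0x2f0)) (.node (.leaf 0x7b7) (.leaf 0x4e8))) (.node (.node (.leaf 0x151)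 (.leaf 0xabe)) (.node (.leaf 0x413) (.leaf 0xbb2)))) (.node (.node (.node (.leaf 0x57a) (.leaf 0x565)) (.node (.leaf 0xa77) (.leaf 0x695))) (.node (.node (.leaf 0x25f) (.leaf 0xfef)) (.node (.leaf 0x84c) (.leaf 0xf3d))))) (.node (.node (.node (.node (.leaf 0x3dd) (.leaf 0xb7e)) (.node (.leaf 0xb4b) (.leaf 0x989))) (.node (.node (.leaf 0x2d9) (.leaf 0x917)) (.node (.leaf 0x6e3) (.leaf 0xb1a)))) (.node (.node (.node (.leaf 0x2ba) (.leaf 0xd98)) (.node (.leaf 0xc7) (.leaf 0xfe7))) (.node (.node (.leaf 0x6df) (.leaf 0x129)) (.node (.leaf 0x2f2) (.leaf 0x21d))))))) (.node (.node (.node (.node (.node (.node (.leaf 0x2a) (.leaf 0x5c7)) (.node (.leaf 0xac8) (.leaf 0xfeb))) (.node (.node (.leaf 0x902) (.leaf 0x93c)) (.node (.leaf 0x28a) (.leaf 0xcb1)))) (.node (.node (.node (.leaf 0x88a) (.leaf 0xe63)) (.node (.leaf 0x50f) (.leaf 0x69c))) (.node (.node (.leaf 0xd0) (.leaf 0xa8d)) (.node (.leaf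 0x7f0) (.leaf 0xba9))))) (.node (.node (.node (.node (.leaf 0xbfd) (.leaf 0xde3)) (.node (.leaf 0xa07) (.leaf 0xfb4))) (.node (.node (.leaf 0x134) (.leaf 0x4e2)) (.node (.leaf 0x71a) (.leaf 0x9d9)))) (.node (.node (.node (.leaf 0x8e4) (.leaf 0xa1a)) (.node (.leaf 0xf2) (.leaf 0xe7d))) (.node (.node (.leaf 0x25a) (.leaf 0xcb8)) (.node (.leaf 0x78f) (.leaf 0xb08)))))) (.node (.node (.node (.node (.node (.leaf 0x101) (.leaf 0x7cf)) (.node (.leaf 0x18e) (.leaf 0x874))) (.node (.node (.leaf 0x275) (.leaf 0xbc6)) (.node (.leaf 0xe16) (.leaf 0x775)))) (.node (.node (.node (.leaf 0xa3a) (.leaf 0x550)) (.node (.leaf 0x7a5) (.leaf 0x466))) (.node (.node (.leaf 0x1e2) (.leaf 0x4be)) (.node (.leaf 0xb54) (.leaf 0xf96))))) (.node (.node (.node (.node (.leaf 0x2d2) (.leaf 0x75c)) (.node (.leaf 0xe34) (.leaf 0xa52))) (.node (.node (.leaf 0x54e) (.leaf 0xb3e)) (.node (.leaf 0x72c) (.leaf 0x87a)))) (.node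 (.node (.node (.leaf 0x889) (.leaf 0xe14)) (.node (.leaf 0xcd4) (.leaf 0xa56))) (.node (.node (.leaf 0x22f) (.leaf 0xb9)) (.node (.leaf 0x717) (.leaf 0x485)))))))) (.node (.node (.node (.node (.node (.node (.node (.leaf 0x93) (.leaf 0xd72)) (.node (.leaf 0xa60) (.leaf 0x171))) (.node (.node (.leaf 0xd79) (.leaf 0xb7f)) (.node (.leaf 0x669) (.leaf 0x6cc)))) (.node (.node (.node (.leaf 0x605) (.leaf 0x8ff)) (.node (.leaf 0xae8) (.leaf 0x1b9))) (.node (.node (.leaf 0xbb) (.leaf 0x840)) (.node (.leaf 0x80d) (.leaf 0x1d1))))) (.node (.node (.node (.node (.leaf 0x8be) (.leaf 0xeba)) (.node (.leaf 0xe64) (.leaf 0xfb5))) (.node (.node (.leaf 0xd1a) (.leaf 0xcf4)) (.node (.leaf 0x768) (.leaf 0x5e2)))) (.node (.node (.node (.leaf 0xf) (.leaf 0xfa9)) (.node (.leaf 0x206) (.leaf 0x255))) (.node (.node (.leaf 0xaca) (.leaf 0x4bb)) (.node (.leaf 0x781) (.leaf 0x141)))))) (.node (.node (.node (.node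 (.node (.leaf 0x7f) (.leaf 0xa04)) (.node (.leaf 0xd76) (.leaf 0x5de))) (.node (.node (.leaf 0xb86) (.leaf 0xb58)) (.node (.leaf 0x5ed) (.leaf 0xc39)))) (.node (.node (.node (.leaf 0x773) (.leaf 0x288)) (.node (.leaf 0x8ef) (.leaf 0xe5c))) (.node (.node (.leaf 0x36a) (.leaf 0x250)) (.node (.leaf 0x769) (.leaf 0x427))))) (.node (.node (.node (.node (.leaf 0x2e) (.leaf 0xf44)) (.node (.leaf 0xb29) (.leaf 0x383))) (.node (.node (.leaf 0x658) (.leaf 0x13a)) (.node (.leaf 0x4f3) (.leaf 0x3b6)))) (.node (.node (.node (.leaf 0x493) (.leaf 0xf42)) (.node (.leaf 0xfd7) (.leaf 0xb12))) (.node (.node (.leaf 0x912) (.leaf 0x1b1)) (.node (.leaf 0x365) (.leaf 0x10))))))) (.node (.node (.node (.node (.node (.node (.leaf 0x6a) (.leaf 0x26c)) (.node (.leaf 0x7b9) (.leaf 0xe58))) (.node (.node (.leaf 0x56f) (.leaf 0xff9)) (.node (.leaf 0xead) (.leaf 0xe2c)))) (.node (.node (.node (.leaf 0x1ef) (.leaf 0x700))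 (.node (.leaf 0x283) (.leaf 0x7d4))) (.node (.node (.leaf 0x59e) (.leaf 0xe5f)) (.node (.leaf 0x527) (.leaf 0x545))))) (.node (.node (.node (.node (.leaf 0x2f6) (.leaf 0xf43)) (.node (.leaf 0x3d7) (.leaf 0xc0d))) (.node (.node (.leaf 0xecb) (.leaf 0x762)) (.node (.leaf 0xa08) (.leaf 0x9d6)))) (.node (.node (.node (.leaf 0x5e) (.leaf 0x847)) (.node (.leaf 0x89b) (.leaf 0xaa7))) (.node (.node (.leaf 0xeeb) (.leaf 0x97f)) (.node (.leaf 0xe94) (.leaf 0xdb5)))))) (.node (.node (.node (.node (.node (.leaf 0x2fc) (.leaf 0x198)) (.node (.leaf 0x8d9) (.leaf 0x821))) (.node (.node (.leaf 0xc2a) (.leaf 0xbd8)) (.node (.leaf 0x850) (.leaf 0xda4)))) (.node (.node (.node (.leaf 0x375) (.leaf 0xc1a)) (.node (.leaf 0x663) (.leaf 0x8b2))) (.node (.node (.leaf 0x326) (.leaf 0x5da)) (.node (.leaf 0x2ac) (.leaf 0xd88))))) (.node (.node (.node (.node (.leaf 0xc54) (.leaf 0x330)) (.node (.leaf 0xd70) (.leaf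 0xe3d))) (.node (.node (.leaf 0xdc5) (.leaf 0x33b)) (.node (.leaf 0x8f0) (.leaf 0x758)))) (.node (.node (.node (.leaf 0x2a4) (.leaf 0x3ae)) (.node (.leaf 0x727) (.leaf 0xf89))) (.node (.node (.leaf 0x133) (.leaf 0x303)) (.node (.leaf 0x72e) (.leaf 0x60))))))))) (.node (.node (.node (.node (.node (.node (.node (.node (.leaf 0x2dd) (.leaf 0x4db)) (.node (.leaf 0xb75) (.leaf 0x852))) (.node (.node (.leaf 0x776) (.leaf 0x4b6)) (.node (.leaf 0xb25) (.leaf 0xc70)))) (.node (.node (.node (.leaf 0x24c) (.leaf 0x46c)) (.node (.leaf 0x9e9) (.leaf 0x12c))) (.node (.node (.leaf 0x3e4) (.leaf 0xab2)) (.node (.leaf 0x6d8) (.leaf 0x5ff))))) (.node (.node (.node (.node (.leaf 0x8e) (.leaf 0x86a)) (.node (.leaf 0x85e) (.leaf 0x560))) (.node (.node (.leaf 0x957) (.leaf 0xcf3)) (.node (.leaf 0x4ed) (.leaf 0x3ef)))) (.node (.node (.node (.leaf 0xe85) (.leaf 0xee4)) (.node (.leaf 0xb88) (.leaf 0xf61))) (.node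 (.node (.leaf 0x450) (.leaf 0x414)) (.node (.leaf 0xce1) (.leaf 0xbe1)))))) (.node (.node (.node (.node (.node (.leaf 0x17a) (.leaf 0x272)) (.node (.leaf 0xefb) (.leaf 0x8c1))) (.node (.node (.leaf 0x8b1) (.leaf 0xb67)) (.node (.leaf 0x39f) (.leaf 0xf26)))) (.node (.node (.node (.leaf 0xdb7) (.leaf 0xb5f)) (.node (.leaf 0x4f1) (.leaf 0x19c))) (.node (.node (.leaf 0x399) (.leaf 0xe35)) (.node (.leaf 0xac2) (.leaf 0x870))))) (.node (.node (.node (.node (.leaf 0x6f) (.leaf 0x9aa)) (.node (.leaf 0x93a) (.leaf 0x12f))) (.node (.node (.leaf 0x382) (.leaf 0xee3)) (.node (.leaf 0xcf7) (.leaf 0xd3c)))) (.node (.node (.node (.leaf 0x149) (.leaf 0x1c5)) (.node (.leaf 0xd71) (.leaf 0xa23))) (.node (.node (.leaf 0xb7b) (.leaf 0xfa0)) (.node (.leaf 0x582) (.leaf 0x911))))))) (.node (.node (.node (.node (.node (.node (.leaf 0xb4) (.leaf 0x1b5)) (.node (.leaf 0xd9f) (.leaf 0x823))) (.node (.node (.leaf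 0x537) (.leaf 0x522)) (.node (.leaf 0xb8) (.leaf 0x6d3)))) (.node (.node (.node (.leaf 0x644) (.leaf 0x884)) (.node (.leaf 0xbac) (.leaf 0x8a9))) (.node (.node (.leaf 0xf7a) (.leaf 0x348)) (.node (.leaf 0x1bf) (.leaf 0xff5))))) (.node (.node (.node (.node (.leaf 0x23c) (.leaf 0xb1e)) (.node (.leaf 0x309) (.leaf 0x73d))) (.node (.node (.leaf 0x9b4) (.leaf 0xe27)) (.node (.leaf 0x836) (.leaf 0x8a8)))) (.node (.node (.node (.leaf 0x759) (.leaf 0x500)) (.node (.leaf 0x98e) (.leaf 0xd5b))) (.node (.node (.leaf 0x5ad) (.leaf 0x96f)) (.node (.leaf 0xe2a) (.leaf 0xe83)))))) (.node (.node (.node (.node (.node (.leaf 0xba) (.leaf 0xe1a)) (.node (.leaf 0x183) (.leaf 0xc35))) (.node (.node (.leaf 0x3c0) (.leaf 0xa69)) (.node (.leaf 0x952) (.leaf 0x78d)))) (.node (.node (.node (.leaf 0x91e) (.leaf 0xe76)) (.node (.leaf 0x163) (.leaf 0xad6))) (.node (.node (.leaf 0xdf6) (.leaf 0x2a1)) (.node (.leaf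 0x298) (.leaf 0xf78))))) (.node (.node (.node (.node (.leaf 0x4a0) (.leaf 0x56c)) (.node (.leaf 0x113) (.leaf 0x508))) (.node (.node (.leaf 0xc65) (.leaf 0x90d)) (.node (.leaf 0xe8f) (.leaf 0x918)))) (.node (.node (.node (.leaf 0x1fb) (.leaf 0xd99)) (.node (.leaf 0x3d2) (.leaf 0xd8b))) (.node (.node (.leaf 0xf5b) (.leaf 0xa46)) (.node (.leaf 0x509) (.leaf 0xff3)))))))) (.node (.node (.node (.node (.node (.node (.node (.leaf 0x8) (.leaf 0xe0a)) (.node (.leaf 0x110) (.leaf 0xf8))) (.node (.node (.leaf 0x13) (.leaf 0x333)) (.node (.leaf 0x210) (.leaf 0xdfb)))) (.node (.node (.node (.leaf 0x4a1) (.leaf 0x5ca)) (.node (.leaf 0x528) (.leaf 0xc55))) (.node (.node (.leaf 0x44c) (.leaf 0x6e5)) (.node (.leaf 0x747) (.leaf 0x99f))))) (.node (.node (.node (.node (.leaf 0x312) (.leaf 0xb72)) (.node (.leaf 0x398) (.leaf 0x2b4))) (.node (.node (.leaf 0x153) (.leaf 0xc90)) (.node (.leaf 0x9a1) (.leaf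 0x7e8)))) (.node (.node (.node (.leaf 0x46e) (.leaf 0xebf)) (.node (.leaf 0xb7c) (.leaf 0x60d))) (.node (.node (.leaf 0x2a5) (.leaf 0xc93)) (.node (.leaf 0xb6f) (.leaf 0xd60)))))) (.node (.node (.node (.node (.node (.leaf 0x57) (.leaf 0x477)) (.node (.leaf 0xd74) (.leaf 0xd3a))) (.node (.node (.leaf 0x220) (.leaf 0x97d)) (.node (.leaf 0x4e) (.leaf 0xdbd)))) (.node (.node (.node (.leaf 0x1ee) (.leaf 0xfc2)) (.node (.leaf 0xb90) (.leaf 0x55f))) (.node (.node (.leaf 0x673) (.leaf 0x740)) (.node (.leaf 0xc4d) (.leaf 0x985))))) (.node (.node (.node (.node (.leaf 0x7b3) (.leaf 0xd6b)) (.node (.leaf 0x7f3) (.leaf 0xc62))) (.node (.node (.leaf 0x519) (.leaf 0xb3d)) (.node (.leaf 0x83e) (.leaf 0x69d)))) (.node (.node (.node (.leaf 0xd45) (.leaf 0x1c3)) (.node (.leaf 0xc) (.leaf 0x696))) (.node (.node (.leaf 0x8b8) (.leaf 0xb4e)) (.node (.leaf 0xf9) (.leaf 0x384))))))) (.node (.node (.node (.node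 (.node (.node (.leaf 0x1c7) (.leaf 0x13e)) (.node (.leaf 0x498) (.leaf 0x77a))) (.node (.node (.leaf 0x780) (.leaf 0x506)) (.node (.leaf 0x2e8) (.leaf 0x4d7)))) (.node (.node (.node (.leaf 0x242) (.leaf 0xf13)) (.node (.leaf 0x8cc) (.leaf 0x3a3))) (.node (.node (.leaf 0xa4f) (.leaf 0x8f8)) (.node (.leaf 0x5b0) (.leaf 0xeab))))) (.node (.node (.node (.node (.leaf 0x97) (.leaf 0xb6a)) (.node (.leaf 0x41a) (.leaf 0x6fd))) (.node (.node (.leaf 0xc01) (.leaf 0x698)) (.node (.leaf 0x9ad) (.leaf 0x853)))) (.node (.node (.node (.leaf 0xc4) (.leaf 0xa9e)) (.node (.leaf 0x235) (.leaf 0xc51))) (.node (.node (.leaf 0xc79) (.leaf 0x9f9)) (.node (.leaf 0x3d0) (.leaf 0xf55)))))) (.node (.node (.node (.node (.node (.leaf 0x5a3) (.leaf 0xfbe)) (.node (.leaf 0x1da) (.leaf 0x1db))) (.node (.node (.leaf 0xa63) (.leaf 0xe7e)) (.node (.leaf 0x7e5) (.leaf 0xdb6)))) (.node (.node (.node (.leaf 0x176) (.leaf 0x404))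 (.node (.leaf 0xb14) (.leaf 0x68a))) (.node (.node (.leaf 0x73e) (.leaf 0x4e3)) (.node (.leaf 0x130) (.leaf 0x4a5))))) (.node (.node (.node (.node (.leaf 0x10f) (.leaf 0x797)) (.node (.leaf 0x925) (.leaf 0x818))) (.node (.node (.leaf 0x2eb) (.leaf 0x21a)) (.node (.leaf 0x568) (.leaf 0xe9a)))) (.node (.node (.node (.leaf 0x51b) (.leaf 0xfc8)) (.node (.leaf 0xbf5) (.leaf 0x875))) (.node (.node (.leaf 0x2d6) (.leaf 0x226)) (.node (.leaf 0xfba) (.leaf 0x3f3))))))))))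

/-- Part of `fixSrt`. -/
def fixSrt_p10 : Tr := .node fixSrt_p100 fixSrt_p101

/-- Part of `fixSrt`. -/
def fixSrt_p110 : Tr := (.node (.node (.node (.node (.node (.node (.node (.node (.node (.leaf 0x8c) (.leaf 0xca4)) (.node (.leaf 0x599) (.leaf 0x988))) (.node (.node (.leaf 0x3ec) (.leaf 0xd30)) (.node (.leaf 0xa) (.leaf 0xe2b)))) (.node (.node (.node (.leaf 0xe5) (.leaf 0x46a)) (.node (.leaf 0xcd9) (.leaf 0x996))) (.node (.node (.leaf 0x18d) (.leaf 0x48f)) (.node (.leaf 0x7a8) (.leaf 0xc8e))))) (.node (.node (.node (.node (.leaf 0x624) (.leaf 0xda)) (.node (.leaf 0x1ff) (.leaf 0xddc))) (.node (.node (.leaf 0xe8) (.leaf 0xc3c)) (.node (.leaf 0x2b0) (.leaf 0xab5)))) (.node (.node (.node (.leaf 0x9fa) (.leaf 0xe8e)) (.node (.leaf 0x7d8) (.leaf 0xc5a))) (.node (.node (.leaf 0xddf) (.leaf 0x39c)) (.node (.leaf 0xfd4) (.leaf 0xc04)))))) (.node (.node (.node (.node (.node (.leaf 0x203) (.leaf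 0x89f)) (.node (.leaf 0x8e1) (.leaf 0x987))) (.node (.node (.leaf 0xb1) (.leaf 0xd3e)) (.node (.leaf 0x567) (.leaf 0x8ac)))) (.node (.node (.node (.leaf 0x2bd) (.leaf 0x23b)) (.node (.leaf 0xd7d) (.leaf 0x90b))) (.node (.node (.leaf 0x81) (.leaf 0x6f7)) (.node (.leaf 0xa40) (.leaf 0xaf3))))) (.node (.node (.node (.node (.leaf 0x9b5) (.leaf 0xa2a)) (.node (.leaf 0xca2) (.leaf 0x7af))) (.node (.node (.leaf 0x674) (.leaf 0x828)) (.node (.leaf 0x92a) (.leaf 0xd37)))) (.node (.node (.node (.leaf 0x241) (.leaf 0xd2e)) (.node (.leaf 0x209) (.leaf 0xd59))) (.node (.node (.leaf 0x31e) (.leaf 0x1f8)) (.node (.leaf 0x372) (.leaf 0xc8))))))) (.node (.node (.node (.node (.node (.node (.leaf 0x25) (.leaf 0x252)) (.node (.leaf 0x4fa) (.leaf 0xb81))) (.node (.node (.leaf 0x83a) (.leaf 0x796)) (.node (.leaf 0x8b4) (.leaf 0x6ef)))) (.node (.node (.node (.leaf 0x9e) (.leaf 0x723)) (.node (.leaf 0x750) (.leaf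 0xaec))) (.node (.node (.leaf 0x731) (.leaf 0x755)) (.node (.leaf 0xb19) (.leaf 0x6cd))))) (.node (.node (.node (.node (.leaf 0x71) (.leaf 0x563)) (.node (.leaf 0x73b) (.leaf 0x6db))) (.node (.node (.leaf 0x59f) (.leaf 0x9a4)) (.node (.leaf 0xf6a) (.leaf 0xd31)))) (.node (.node (.node (.leaf 0x8e6) (.leaf 0xf3f)) (.node (.leaf 0xf85) (.leaf 0xfb3))) (.node (.node (.leaf 0x5ac) (.leaf 0xb23)) (.node (.leaf 0x4cd) (.leaf 0xdfc)))))) (.node (.node (.node (.node (.node (.leaf 0x120) (.leaf 0xe32)) (.node (.leaf 0x9c5) (.leaf 0x43b))) (.node (.node (.leaf 0x42c) (.leaf 0x61b)) (.node (.leaf 0xbd4) (.leaf 0xf22)))) (.node (.node (.node (.leaf 0x5a4) (.leaf 0xa79)) (.node (.leaf 0xbc4) (.leaf 0xa4c))) (.node (.node (.leaf 0xbc5) (.leaf 0xd4c)) (.node (.leaf 0x8e0) (.leaf 0xf82))))) (.node (.node (.node (.node (.leaf 0x8c0) (.leaf 0xa5c)) (.node (.leaf 0xa6e) (.leaf 0xd22))) (.node (.node (.leaf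 0x302) (.leaf 0xa8e)) (.node (.leaf 0xb8e) (.leaf 0xcdb)))) (.node (.node (.node (.leaf 0x2b8) (.leaf 0x314)) (.node (.leaf 0xb55) (.leaf 0x3aa))) (.node (.node (.leaf 0x7b4) (.leaf 0x5)) (.node (.leaf 0x488) (.leaf 0xe5d)))))))) (.node (.node (.node (.node (.node (.node (.node (.leaf 0x48) (.leaf 0x249)) (.node (.leaf 0xb8d) (.leaf 0x6ab))) (.node (.node (.leaf 0xa36) (.leaf 0x66d)) (.node (.leaf 0xf5f) (.leaf 0xcb0)))) (.node (.node (.node (.leaf 0x42d) (.leaf 0x70e)) (.node (.leaf 0x7c2) (.leaf 0x53d))) (.node (.node (.leaf 0x15f) (.leaf 0x5e3)) (.node (.leaf 0x822) (.leaf 0xfda))))) (.node (.node (.node (.node (.leaf 0xf7) (.leaf 0xfb0)) (.node (.leaf 0x19a) (.leaf 0x9f1))) (.node (.node (.leaf 0x621) (.leaf 0x7e4)) (.node (.leaf 0x9d2) (.leaf 0xdfe)))) (.node (.node (.node (.leaf 0x733) (.leaf 0x6ce)) (.node (.leaf 0x575) (.leaf 0xffa))) (.node (.node (.leaf 0x233) (.leaf 0x815))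 (.node (.leaf 0x782) (.leaf 0xf70)))))) (.node (.node (.node (.node (.node (.leaf 0x45a) (.leaf 0x58b)) (.node (.leaf 0xe0) (.leaf 0x80a))) (.node (.node (.leaf 0x2c2) (.leaf 0x892)) (.node (.leaf 0x2ed) (.leaf 0x98d)))) (.node (.node (.node (.leaf 0x21e) (.leaf 0xde9)) (.node (.leaf 0x423) (.leaf 0xf77))) (.node (.node (.leaf 0x898) (.leaf 0x3a9)) (.node (.leaf 0x35f) (.leaf 0xbb7))))) (.node (.node (.node (.node (.leaf 0x5b) (.leaf 0x6cf)) (.node (.leaf 0x22b) (.leaf 0x515))) (.node (.node (.leaf 0x24d) (.leaf 0xe01)) (.node (.leaf 0x9c2) (.leaf 0x7e6)))) (.node (.node (.node (.leaf 0x5f0) (.leaf 0xab3)) (.node (.leaf 0xeb1) (.leaf 0x29f))) (.node (.node (.leaf 0xc09) (.leaf 0xee8)) (.node (.leaf 0x743) (.leaf 0xa5))))))) (.node (.node (.node (.node (.node (.node (.leaf 0x27) (.leaf 0xbed)) (.node (.leaf 0x9f7) (.leaf 0x684))) (.node (.node (.leaf 0xeca) (.leaf 0xcbf)) (.node (.leaf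 0x2e2) (.leaf 0xd24)))) (.node (.node (.node (.leaf 0x445) (.leaf 0xb76)) (.node (.leaf 0xa1d) (.leaf 0xa99))) (.node (.node (.leaf 0x5eb) (.leaf 0xf11)) (.node (.leaf 0x64d) (.leaf 0x794))))) (.node (.node (.node (.node (.leaf 0x13d) (.leaf 0xb5c)) (.node (.leaf 0x3ce) (.leaf 0x8d1))) (.node (.node (.leaf 0x2de) (.leaf 0xebe)) (.node (.leaf 0xa0a) (.leaf 0xdc0)))) (.node (.node (.node (.leaf 0x675) (.leaf 0x636)) (.node (.leaf 0x667) (.leaf 0xccf))) (.node (.node (.leaf 0x83d) (.leaf 0xe9b)) (.node (.leaf 0xca3) (.leaf 0x6ff)))))) (.node (.node (.node (.node (.node (.leaf 0x8f) (.leaf 0xb10)) (.node (.leaf 0x360) (.leaf 0x854))) (.node (.node (.leaf 0x646) (.leaf 0xa13)) (.node (.leaf 0xb6d) (.leaf 0xb52)))) (.node (.node (.node (.leaf 0x928) (.leaf 0x5d9)) (.node (.leaf 0x189) (.leaf 0x64c))) (.node (.node (.leaf 0xddd) (.leaf 0x386)) (.node (.leaf 0xed8) (.leaf 0xd87))))) (.node (.node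 (.node (.node (.leaf 0x1fa) (.leaf 0xf39)) (.node (.leaf 0x8dc) (.leaf 0x799))) (.node (.node (.leaf 0x47f) (.leaf 0x486)) (.node (.leaf 0x7e7) (.leaf 0xb8f)))) (.node (.node (.node (.leaf 0x831) (.leaf 0x5ce)) (.node (.leaf 0xd16) (.leaf 0xef9))) (.node (.node (.leaf 0x7fa) (.leaf 0x435)) (.node (.leaf 0xae4) (.leaf 0x15b))))))))) (.node (.node (.node (.node (.node (.node (.node (.node (.leaf 0xa6) (.leaf 0xbcb)) (.node (.leaf 0x11c) (.leaf 0x588))) (.node (.node (.leaf 0xced) (.leaf 0x4ae)) (.node (.leaf 0x91f) (.leaf 0xa5f)))) (.node (.node (.node (.leaf 0x2c0) (.leaf 0xf35)) (.node (.leaf 0x76a) (.leaf 0x6bb))) (.node (.node (.leaf 0x978) (.leaf 0xf3e)) (.node (.leaf 0x3d1) (.leaf 0x58e))))) (.node (.node (.node (.node (.leaf 0x510) (.leaf 0x1b7)) (.node (.leaf 0xcfe) (.leaf 0xc08))) (.node (.node (.leaf 0xcc7) (.leaf 0xa4e)) (.node (.leaf 0x7a3) (.leaf 0x878)))) (.node (.node (.node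 (.leaf 0x4b2) (.leaf 0xdf3)) (.node (.leaf 0x4e0) (.leaf 0xfa8))) (.node (.node (.leaf 0x34b) (.leaf 0x478)) (.node (.leaf 0xbfc) (.leaf 0xdbe)))))) (.node (.node (.node (.node (.node (.leaf 0x65) (.leaf 0x341)) (.node (.leaf 0x2b3) (.leaf 0xd12))) (.node (.node (.leaf 0xab) (.leaf 0x793)) (.node (.leaf 0xd5a) (.leaf 0x9de)))) (.node (.node (.node (.leaf 0x463) (.leaf 0xc1e)) (.node (.leaf 0x35c) (.leaf 0xfed))) (.node (.node (.leaf 0x7cc) (.leaf 0x7ab)) (.node (.leaf 0xc4f) (.leaf 0xa47))))) (.node (.node (.node (.node (.leaf 0x11e) (.leaf 0x3c8)) (.node (.leaf 0x9e5) (.leaf 0xfa))) (.node (.node (.leaf 0x49a) (.leaf 0xbe4)) (.node (.leaf 0xc6d) (.leaf 0xc42)))) (.node (.node (.node (.leaf 0x1e5) (.leaf 0xe36)) (.node (.leaf 0x784) (.leaf 0xc84))) (.node (.node (.leaf 0x247) (.leaf 0x2cc)) (.node (.leaf 0xf0e) (.leaf 0x258))))))) (.node (.node (.node (.node (.node (.node (.leaf 0x14b)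 (.leaf 0x756)) (.node (.leaf 0x11b) (.leaf 0xe65))) (.node (.node (.leaf 0x207) (.leaf 0x14e)) (.node (.leaf 0x208) (.leaf 0xb5a)))) (.node (.node (.node (.leaf 0xbe) (.leaf 0xdb1)) (.node (.leaf 0x9af) (.leaf 0xb7d))) (.node (.node (.leaf 0x9e0) (.leaf 0xff)) (.node (.leaf 0x942) (.leaf 0x5bd))))) (.node (.node (.node (.node (.leaf 0x221) (.leaf 0xe26)) (.node (.leaf 0x610) (.leaf 0x76c))) (.node (.node (.leaf 0x39a) (.leaf 0xd35)) (.node (.leaf 0x6ac) (.leaf 0x420)))) (.node (.node (.node (.leaf 0x1e4) (.leaf 0x9df)) (.node (.leaf 0x8f3) (.leaf 0xdd3))) (.node (.node (.leaf 0xb2e) (.leaf 0xd8a)) (.node (.leaf 0xd7) (.leaf 0xaa4)))))) (.node (.node (.node (.node (.node (.leaf 0xbc) (.leaf 0xdea)) (.node (.leaf 0x39) (.leaf 0x760))) (.node (.node (.leaf 0xbe3) (.leaf 0xf53)) (.node (.leaf 0x526) (.leaf 0xfdf)))) (.node (.node (.node (.leaf 0x3b) (.leaf 0x350)) (.node (.leaf 0x615) (.leaf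 0xf83))) (.node (.node (.leaf 0xeef) (.leaf 0x724)) (.node (.leaf 0x5f7) (.leaf 0xdbc))))) (.node (.node (.node (.node (.leaf 0x38a) (.leaf 0x5f4)) (.node (.leaf 0x6ea) (.leaf 0x43f))) (.node (.node (.leaf 0x5cb) (.leaf 0xaf7)) (.node (.leaf 0xe29) (.leaf 0xa57)))) (.node (.node (.node (.leaf 0xc5) (.leaf 0xafb)) (.node (.leaf 0x4c5) (.leaf 0x9d4))) (.node (.node (.leaf 0xa35) (.leaf 0x3b7)) (.node (.leaf 0x187) (.leaf 0xeda)))))))) (.node (.node (.node (.node (.node (.node (.node (.leaf 0x3f) (.leaf 0x237)) (.node (.leaf 0xc45) (.leaf 0x84d))) (.node (.node (.leaf 0x3e) (.leaf 0xe61)) (.node (.leaf 0xe1c) (.leaf 0xaf2)))) (.node (.node (.node (.leaf 0xc29) (.leaf 0xe66)) (.node (.leaf 0xae6) (.leaf 0x517))) (.node (.node (.leaf 0xcbb) (.leaf 0xe6b)) (.node (.leaf 0x524) (.leaf 0xd11))))) (.node (.node (.node (.node (.leaf 0x292) (.leaf 0x932)) (.node (.leaf 0x305) (.leaf 0xb62))) (.node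 (.node (.leaf 0x2d8) (.leaf 0x955)) (.node (.leaf 0x84e) (.leaf 0xd8f)))) (.node (.node (.node (.leaf 0x95) (.leaf 0xe3f)) (.node (.leaf 0x44f) (.leaf 0xbc8))) (.node (.node (.leaf 0xb2a) (.leaf 0x7d7)) (.node (.leaf 0x792) (.leaf 0x40c)))))) (.node (.node (.node (.node (.node (.leaf 0x1c) (.leaf 0xf01)) (.node (.leaf 0x74e) (.leaf 0xa1c))) (.node (.node (.leaf 0x1b4) (.leaf 0xb5b)) (.node (.leaf 0x48d) (.leaf 0xa71)))) (.node (.node (.node (.leaf 0xb24) (.leaf 0x3a5)) (.node (.leaf 0xa87) (.leaf 0x9d8))) (.node (.node (.leaf 0x462) (.leaf 0x142)) (.node (.leaf 0x570) (.leaf 0x552))))) (.node (.node (.node (.node (.leaf 0x28) (.leaf 0xeea)) (.node (.leaf 0x24b) (.leaf 0x26b))) (.node (.node (.leaf 0xdcb) (.leaf 0xcf9)) (.node (.leaf 0x2b1) (.leaf 0x825)))) (.node (.node (.node (.leaf 0x403) (.leaf 0xaab)) (.node (.leaf 0x580) (.leaf 0x83f))) (.node (.node (.leaf 0xb03) (.leaf 0x569)) (.node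 (.leaf 0x3bc) (.leaf 0xcb))))))) (.node (.node (.node (.node (.node (.node (.leaf 0x3b5) (.leaf 0x173)) (.node (.leaf 0x87c) (.leaf 0xd94))) (.node (.node (.leaf 0x60e) (.leaf 0x2b9)) (.node (.leaf 0x20c) (.leaf 0x6f8)))) (.node (.node (.node (.leaf 0x5f1) (.leaf 0x315)) (.node (.leaf 0x361) (.leaf 0x8fa))) (.node (.node (.leaf 0x74a) (.leaf 0x703)) (.node (.leaf 0x92f) (.leaf 0xa72))))) (.node (.node (.node (.node (.leaf 0x385) (.leaf 0x71c)) (.node (.leaf 0xb71) (.leaf 0x388))) (.node (.node (.leaf 0x573) (.leaf 0xe28)) (.node (.leaf 0x8e3) (.leaf 0xa55)))) (.node (.node (.node (.leaf 0x471) (.leaf 0x59d)) (.node (.leaf 0xfc4) (.leaf 0xd58))) (.node (.node (.leaf 0xe67) (.leaf 0x467)) (.node (.leaf 0xf29) (.leaf 0xf58)))))) (.node (.node (.node (.node (.node (.leaf 0x1c4) (.leaf 0xea4)) (.node (.leaf 0x30a) (.leaf 0xd52))) (.node (.node (.leaf 0x607) (.leaf 0xbc3)) (.node (.leaf 0xea8)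 (.leaf 0xf6f)))) (.node (.node (.node (.leaf 0x1a6) (.leaf 0x8ba)) (.node (.leaf 0x8a4) (.leaf 0x9da))) (.node (.node (.leaf 0x4ba) (.leaf 0xd67)) (.node (.leaf 0xb9e) (.leaf 0x9bc))))) (.node (.node (.node (.node (.leaf 0x240) (.leaf 0x693)) (.node (.leaf 0x7ad) (.leaf 0xa6d))) (.node (.node (.leaf 0x4c4) (.leaf 0x175)) (.node (.leaf 0xcf8) (.leaf 0xe77)))) (.node (.node (.node (.leaf 0x30d) (.leaf 0x7da)) (.node (.leaf 0x6d7) (.leaf 0xc9c))) (.node (.node (.leaf 0xd1b) (.leaf 0x409)) (.node (.leaf 0x186) (.leaf 0x254))))))))))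

/-- Part of `fixSrt`. -/
def fixSrt_p111 : Tr := (.node (.node (.node (.node (.node (.node (.node (.node (.node (.leaf 0xa9) (.leaf 0xec0)) (.node (.leaf 0xeb3) (.leaf 0xe45))) (.node (.node (.leaf 0x5dc) (.leaf 0xbba)) (.node (.leaf 0xa29) (.leaf 0x4a8)))) (.node (.node (.node (.leaf 0x681) (.leaf 0x848)) (.node (.leaf 0x8ad) (.leaf 0x830))) (.node (.node (.leaf 0x479) (.leaf 0xfa5)) (.node (.leaf 0x75e) (.leaf 0x58c))))) (.node (.node (.node (.node (.leaf 0x4d) (.leaf 0x415)) (.node (.leaf 0xd6a) (.leaf 0x73c))) (.node (.node (.leaf 0x685) (.leaf 0xd44)) (.node (.leaf 0xcdc) (.leaf 0x99a)))) (.node (.node (.node (.leaf 0xa28) (.leaf 0xde5)) (.node (.leaf 0xbca) (.leaf 0x9a0))) (.node (.node (.leaf 0x328) (.leaf 0x313)) (.node (.leaf 0x738) (.leaf 0xbcd)))))) (.node (.node (.node (.node (.node (.leaf 0x3d) (.leaf 0x973)) (.node (.leaf 0x3dc) (.leaf 0x98b))) (.node (.node (.leaf 0x688)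 (.leaf 0xb91)) (.node (.leaf 0x7ae) (.leaf 0xd28)))) (.node (.node (.node (.leaf 0x107) (.leaf 0xd97)) (.node (.leaf 0x92d) (.leaf 0x9ba))) (.node (.node (.leaf 0x862) (.leaf 0x4fe)) (.node (.leaf 0x425) (.leaf 0xcc0))))) (.node (.node (.node (.node (.leaf 0x201) (.leaf 0x95c)) (.node (.leaf 0x9f6) (.leaf 0xc27))) (.node (.node (.leaf 0x906) (.leaf 0x87b)) (.node (.leaf 0xc83) (.leaf 0xd4e)))) (.node (.node (.node (.leaf 0x8b3) (.leaf 0x45e)) (.node (.leaf 0xbde) (.leaf 0x44))) (.node (.node (.leaf 0x6f4) (.leaf 0xed6)) (.node (.leaf 0xd6e) (.leaf 0x61))))))) (.node (.node (.node (.node (.node (.node (.leaf 0x9a) (.leaf 0xb41)) (.node (.leaf 0xfcb) (.leaf 0xf6d))) (.node (.node (.leaf 0x530) (.leaf 0x714)) (.node (.leaf 0x9ca) (.leaf 0xb3a)))) (.node (.node (.node (.leaf 0x927) (.leaf 0x28d)) (.node (.leaf 0x520) (.leaf 0xc5b))) (.node (.node (.leaf 0x614) (.leaf 0x7f1)) (.node (.leaf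 0x86f) (.leaf 0x4c9))))) (.node (.node (.node (.node (.leaf 0x17) (.leaf 0xa53)) (.node (.leaf 0x188) (.leaf 0x881))) (.node (.node (.leaf 0x5a2) (.leaf 0xba6)) (.node (.leaf 0x8e8) (.leaf 0xc31)))) (.node (.node (.node (.leaf 0x56e) (.leaf 0xb2d)) (.node (.leaf 0x70c) (.leaf 0xf59))) (.node (.node (.leaf 0xfb7) (.leaf 0x438)) (.node (.leaf 0x6c1) (.leaf 0xb78)))))) (.node (.node (.node (.node (.node (.leaf 0x7d) (.leaf 0x304)) (.node (.leaf 0xac) (.leaf 0x893))) (.node (.node (.leaf 0xa7f) (.leaf 0xad7)) (.node (.leaf 0x2ec) (.leaf 0xdbb)))) (.node (.node (.node (.leaf 0x407) (.leaf 0xf7f)) (.node (.leaf 0x446) (.leaf 0x629))) (.node (.node (.leaf 0x46f) (.leaf 0xa38)) (.node (.leaf 0x91d) (.leaf 0xdc1))))) (.node (.node (.node (.node (.leaf 0x18b) (.leaf 0x212)) (.node (.leaf 0xb99) (.leaf 0x426))) (.node (.node (.leaf 0x94e) (.leaf 0x36f)) (.node (.leaf 0x260) (.leaf 0xd5e)))) (.node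 (.node (.node (.leaf 0xbad) (.leaf 0x7f5)) (.node (.leaf 0x9f5) (.leaf 0xa16))) (.node (.node (.leaf 0xd9d) (.leaf 0xcee)) (.node (.leaf 0xbd1) (.leaf 0xff4)))))))) (.node (.node (.node (.node (.node (.node (.node (.leaf 0x54) (.leaf 0xf02)) (.node (.leaf 0x594) (.leaf 0x2fa))) (.node (.node (.leaf 0xa1e) (.leaf 0x7c6)) (.node (.leaf 0x923) (.leaf 0x993)))) (.node (.node (.node (.leaf 0x3e3) (.leaf 0x597)) (.node (.leaf 0x896) (.leaf 0xed9))) (.node (.node (.leaf 0x548) (.leaf 0x868)) (.node (.leaf 0x8e7) (.leaf 0x525))))) (.node (.node (.node (.node (.leaf 0x274) (.leaf 0xf2d)) (.node (.leaf 0x47b) (.leaf 0xce4))) (.node (.node (.leaf 0x736) (.leaf 0xc68)) (.node (.leaf 0xce2) (.leaf 0xa6b)))) (.node (.node (.node (.leaf 0x3) (.leaf 0xff8)) (.node (.leaf 0xd15) (.leaf 0x778))) (.node (.node (.leaf 0x3bb) (.leaf 0xa84)) (.node (.leaf 0xf0c) (.leaf 0x523)))))) (.node (.node (.node (.node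 (.node (.leaf 0x21f) (.leaf 0x15d)) (.node (.leaf 0xf9c) (.leaf 0x3be))) (.node (.node (.leaf 0x713) (.leaf 0xc8a)) (.node (.leaf 0x87) (.leaf 0xf94)))) (.node (.node (.node (.leaf 0x137) (.leaf 0x323)) (.node (.leaf 0xefc) (.leaf 0xab9))) (.node (.node (.leaf 0x66) (.leaf 0x391)) (.node (.leaf 0xa73) (.leaf 0xf71))))) (.node (.node (.node (.node (.leaf 0xbd) (.leaf 0xe93)) (.node (.leaf 0xfe6) (.leaf 0x27d))) (.node (.node (.leaf 0xdf2) (.leaf 0x353)) (.node (.leaf 0x5cf) (.leaf 0xe0b)))) (.node (.node (.node (.leaf 0x49f) (.leaf 0x982)) (.node (.leaf 0xd43) (.leaf 0x9a9))) (.node (.node (.leaf 0xe4f) (.leaf 0x21c)) (.node (.leaf 0xaf) (.leaf 0x347))))))) (.node (.node (.node (.node (.node (.node (.leaf 0xde) (.leaf 0x85)) (.node (.leaf 0xc43) (.leaf 0xd96))) (.node (.node (.leaf 0xd69) (.leaf 0x7d0)) (.node (.leaf 0xc81) (.leaf 0xbc1)))) (.node (.node (.node (.leaf 0x83b) (.leaf 0xa96))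 (.node (.leaf 0x362) (.leaf 0x5b6))) (.node (.node (.leaf 0xd7e) (.leaf 0x345)) (.node (.leaf 0x3b1) (.leaf 0xdb9))))) (.node (.node (.node (.node (.leaf 0x71f) (.leaf 0xd90)) (.node (.leaf 0x2d0) (.leaf 0x966))) (.node (.node (.leaf 0x57e) (.leaf 0x36c)) (.node (.leaf 0xb47) (.leaf 0xcbc)))) (.node (.node (.node (.leaf 0xe7) (.leaf 0x6d2)) (.node (.leaf 0xc13) (.leaf 0x971))) (.node (.node (.leaf 0xf9b) (.leaf 0x556)) (.node (.leaf 0xf4b) (.leaf 0xf36)))))) (.node (.node (.node (.node (.node (.leaf 0x572) (.leaf 0x505)) (.node (.leaf 0x616) (.leaf 0x533))) (.node (.node (.leaf 0x23a) (.leaf 0xcce)) (.node (.leaf 0x5f6) (.leaf 0x9cf)))) (.node (.node (.node (.leaf 0x7ea) (.leaf 0x5aa)) (.node (.leaf 0xbf8) (.leaf 0xb80))) (.node (.node (.leaf 0x5ae) (.leaf 0xc6a)) (.node (.leaf 0xf7e) (.leaf 0x5d0))))) (.node (.node (.node (.node (.leaf 0x867) (.leaf 0x708)) (.node (.leaf 0x4bc) (.leaf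 0x838))) (.node (.node (.leaf 0x245) (.leaf 0xfa7)) (.node (.leaf 0xec2) (.leaf 0xd83)))) (.node (.node (.node (.leaf 0x7bd) (.leaf 0x984)) (.node (.leaf 0xa18) (.leaf 0x7aa))) (.node (.node (.leaf 0xd40) (.leaf 0xa0)) (.node (.leaf 0xa31) (.leaf 0x22))))))))) (.node (.node (.node (.node (.node (.node (.node (.node (.leaf 0x2f) (.leaf 0x337)) (.node (.leaf 0x34e) (.leaf 0x6c6))) (.node (.node (.leaf 0xda7) (.leaf 0xe7a)) (.node (.leaf 0x49c) (.leaf 0xf48)))) (.node (.node (.node (.leaf 0x2a7) (.leaf 0x4af)) (.node (.leaf 0x602) (.leaf 0x367))) (.node (.node (.leaf 0x8f7) (.leaf 0xdd7)) (.node (.leaf 0x789) (.leaf 0xb38))))) (.node (.node (.node (.node (.leaf 0xf4) (.leaf 0xee5)) (.node (.leaf 0x35b) (.leaf 0xb11))) (.node (.node (.leaf 0x9cb) (.leaf 0xdfd)) (.node (.leaf 0xee1) (.leaf 0xd5d)))) (.node (.node (.node (.leaf 0x4a) (.leaf 0xc18)) (.node (.leaf 0x974) (.leaf 0xffd))) (.node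 (.node (.leaf 0xdde) (.leaf 0x9a5)) (.node (.leaf 0x8c9) (.leaf 0xdb2)))))) (.node (.node (.node (.node (.node (.leaf 0xdf) (.leaf 0x112)) (.node (.leaf 0x670) (.leaf 0xe6e))) (.node (.node (.leaf 0x18f) (.leaf 0x6c3)) (.node (.leaf 0xee) (.leaf 0xfe4)))) (.node (.node (.node (.leaf 0x801) (.leaf 0xe03)) (.node (.leaf 0x5b1) (.leaf 0x4c2))) (.node (.node (.leaf 0xc03) (.leaf 0xbd5)) (.node (.leaf 0x851) (.leaf 0x6c9))))) (.node (.node (.node (.node (.leaf 0x204) (.leaf 0x7ce)) (.node (.leaf 0x5db) (.leaf 0xe9))) (.node (.node (.leaf 0xc9b) (.leaf 0xf10)) (.node (.leaf 0xa8c) (.leaf 0xa00)))) (.node (.node (.node (.leaf 0x66a) (.leaf 0xe38)) (.node (.leaf 0xb82) (.leaf 0x6fe))) (.node (.node (.leaf 0x239) (.leaf 0xc5f)) (.node (.leaf 0x150) (.leaf 0xfa4))))))) (.node (.node (.node (.node (.node (.node (.leaf 0x72) (.leaf 0xe1)) (.node (.leaf 0xc98) (.leaf 0xc57))) (.node (.node (.leaf 0xdc6)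 (.leaf 0x95b)) (.node (.leaf 0xa7a) (.leaf 0x52b)))) (.node (.node (.node (.leaf 0x351) (.leaf 0xaaf)) (.node (.leaf 0x3fc) (.leaf 0xdb4))) (.node (.node (.leaf 0xeb0) (.leaf 0x42a)) (.node (.leaf 0xea) (.leaf 0xce7))))) (.node (.node (.node (.node (.leaf 0x1e8) (.leaf 0xc91)) (.node (.leaf 0xd07) (.leaf 0xbb5))) (.node (.node (.leaf 0xa3d) (.leaf 0xe0d)) (.node (.leaf 0x5f8) (.leaf 0xf66)))) (.node (.node (.node (.leaf 0x1f3) (.leaf 0x779)) (.node (.leaf 0x28c) (.leaf 0x89d))) (.node (.node (.leaf 0x62b) (.leaf 0xcb9)) (.node (.leaf 0x428) (.leaf 0xe86)))))) (.node (.node (.node (.node (.node (.leaf 0x26) (.leaf 0xd4a)) (.node (.leaf 0xc9d) (.leaf 0x753))) (.node (.node (.leaf 0xb31) (.leaf 0xd26)) (.node (.leaf 0x3b4) (.leaf 0xf79)))) (.node (.node (.node (.leaf 0xe02) (.leaf 0xdae)) (.node (.leaf 0x725) (.leaf 0x93d))) (.node (.node (.leaf 0xb56) (.leaf 0x647)) (.node (.leaf 0xb8c)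 (.leaf 0xd91))))) (.node (.node (.node (.node (.leaf 0xc7e) (.leaf 0xd5f)) (.node (.leaf 0x6a7) (.leaf 0xba3))) (.node (.node (.leaf 0x538) (.leaf 0x7b)) (.node (.leaf 0x589) (.leaf 0x3c6)))) (.node (.node (.node (.leaf 0xc3) (.leaf 0xaad)) (.node (.leaf 0xe96) (.leaf 0xd25))) (.node (.node (.leaf 0x75a) (.leaf 0xd80)) (.node (.leaf 0xa02) (.leaf 0xf9d)))))))) (.node (.node (.node (.node (.node (.node (.node (.leaf 0x32) (.leaf 0xc7c)) (.node (.leaf 0x2df) (.leaf 0x846))) (.node (.node (.leaf 0x4b) (.leaf 0x96e)) (.node (.leaf 0x937) (.leaf 0x972)))) (.node (.node (.node (.leaf 0x22a) (.leaf 0x6c4)) (.node (.leaf 0x6aa) (.leaf 0xa7e))) (.node (.node (.leaf 0x1f4) (.leaf 0xcbe)) (.node (.leaf 0xa27) (.leaf 0x6d1))))) (.node (.node (.node (.node (.leaf 0x148) (.leaf 0x954)) (.node (.leaf 0x3de) (.leaf 0xf05))) (.node (.node (.leaf 0x119) (.leaf 0x596)) (.node (.leaf 0xe69) (.leaf 0x7d2))))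 (.node (.node (.node (.leaf 0x7c5) (.leaf 0x3a2)) (.node (.leaf 0x390) (.leaf 0x6b7))) (.node (.node (.leaf 0x6f5) (.leaf 0x2a6)) (.node (.leaf 0x791) (.leaf 0xcf6)))))) (.node (.node (.node (.node (.node (.leaf 0x6e1) (.leaf 0x76e)) (.node (.leaf 0x89e) (.leaf 0x69f))) (.node (.node (.leaf 0x603) (.leaf 0xd53)) (.node (.leaf 0x5f5) (.leaf 0xa8f)))) (.node (.node (.node (.leaf 0xdc4) (.leaf 0xc37)) (.node (.leaf 0xc88) (.leaf 0xd32))) (.node (.node (.leaf 0x7bb) (.leaf 0x1dc)) (.node (.leaf 0x307) (.leaf 0x962))))) (.node (.node (.node (.node (.leaf 0xbff) (.leaf 0xaf5)) (.node (.leaf 0x9f0) (.leaf 0xfa2))) (.node (.node (.leaf 0x59c) (.leaf 0xec9)) (.node (.leaf 0xf86) (.leaf 0x539)))) (.node (.node (.node (.leaf 0x7a7) (.leaf 0xe92)) (.node (.leaf 0xacd) (.leaf 0xbb6))) (.node (.node (.leaf 0x872) (.leaf 0xa20)) (.node (.leaf 0x21b) (.leaf 0xfee))))))) (.node (.node (.node (.node (.node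 (.node (.leaf 0x7e) (.leaf 0x504)) (.node (.leaf 0x689) (.leaf 0xcd8))) (.node (.node (.leaf 0x158) (.leaf 0x5c1)) (.node (.leaf 0x671) (.leaf 0x841)))) (.node (.node (.node (.leaf 0x25c) (.leaf 0xf6c)) (.node (.leaf 0x991) (.leaf 0x4ab))) (.node (.node (.leaf 0x584) (.leaf 0x7d5)) (.node (.leaf 0x8cb) (.leaf 0xce3))))) (.node (.node (.node (.node (.leaf 0x84) (.leaf 0x90e)) (.node (.leaf 0x8c7) (.leaf 0x6e9))) (.node (.node (.leaf 0x9b6) (.leaf 0xd6f)) (.node (.leaf 0xac3) (.leaf 0xf68)))) (.node (.node (.node (.leaf 0x243) (.leaf 0x434)) (.node (.leaf 0x114) (.leaf 0xab0))) (.node (.node (.leaf 0xf8d) (.leaf 0xcc4)) (.node (.leaf 0xea0) (.leaf 0xfc7)))))) (.node (.node (.node (.node (.node (.leaf 0x2db) (.leaf 0x8a7)) (.node (.leaf 0xd08) (.leaf 0xade))) (.node (.node (.leaf 0xded) (.leaf 0x721)) (.node (.leaf 0x7fb) (.leaf 0x143)))) (.node (.node (.node (.leaf 0x5f9) (.leaf 0xe89))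 (.node (.leaf 0xb30) (.leaf 0x6ae))) (.node (.node (.leaf 0xccc) (.leaf 0x3a7)) (.node (.leaf 0x15e) (.leaf 0x849))))) (.node (.node (.node (.node (.leaf 0x144) (.leaf 0x710)) (.node (.leaf 0xb89) (.leaf 0xdba))) (.node (.node (.leaf 0x50d) (.leaf 0x344)) (.node (.leaf 0xfc6) (.leaf 0x6a3)))) (.node (.node (.node (.leaf 0x156) (.leaf 0xbee)) (.node (.leaf 0x777) (.leaf 0xc34))) (.node (.node (.leaf 0x67c) (.leaf 0x9f8)) (.leaf 0xd55)))))))))

/-- Part of `fixSrt`. -/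
def fixSrt_p11 : Tr := .node fixSrt_p110 fixSrt_p111

/-- Part of `fixSrt`. -/
def fixSrt_p1 : Tr := .node fixSrt_p10 fixSrt_p11

/-- Part of `fixSrt`. -/
def fixSrt_p : Tr := .node fixSrt_p0 fixSrt_p1

/-- Table. -/
def fixSrt : Tr := fixSrt_p

end CfsgLib.SuzCoZero
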