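import Cfsg.Agent.Lib.OutSuz.Graph
import Cfsg.Agent.Lib.SuzCo0.MaskData
import Cfsg.Agent.Lib.SuzCo0.InvolutionData
import Cfsg.Agent.Lib.SuzCo0.Count

/-!
Words in the presented Suzuki group compared on the 1782 points, and an upper bound for the
centraliser of a letter.
-/

set_option autoImplicit false
set_option maxRecDepth 100000
set_option Elab.async false

namespace CfsgLib.SuzCoZero

open CfsgLib.Presented CfsgLib.Presented.Vec CfsgLib.OutSuz CfsgLib.Sporadic
open CfsgLib.Presented.SuzCosets (phi phi_ev rep_valid ev H)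
open CfsgLib.Presented.SuzCert (rep)

/-- Letters only. -/
def ltSeven (w : List ℕ) : Bool := w.all fun y => Nat.blt y 7

/-- The words agree on the points. -/
noncomputable def eqW (u v : List ℕ) : Bool :=
  ltSeven u && ltSeven v && sameNet (rep.netW u) (rep.netW v)

/-- The words differ on the points. -/
noncomputable def neW (u v : List ℕ) : Bool :=
  ltSeven u && ltSeven v && !sameNet (rep.netW u) (rep.netW v)

theorem eqW_spec {u v : List ℕ} (h : eqW u v = true) : evW ev u = evW ev v := by
  simp only [eqW, Bool.and_eq_true] at h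
  exact SuzOrder.phi_injective ((net_word h.1.1).eq_of_same (net_word h.1.2) h.2)

theorem sameNet_of_eq {l l' : List Stage} {π : Pm} (h : NetOf l π) (h' : NetOf l' π) :
    sameNet l l' = true := by
  simp only [sameNet, List.all_eq_true]
  intro s _
  refine Nat.beq_eq.mpr (Nat.eq_of_testBit_eq fun j => ?_)
  show (applyNet l s &&& ones rep.N).testBit j = (applyNet l' s &&& ones rep.N).testBit j
  rw [Nat.testBit_and, Nat.testBit_and, testBit_ones]
  by_cases hj : j < rep.N
  · rw [show j = ((⟨j, hj⟩ : Fin rep.N) : ℕ) from rfl, h.bit, h'.bit]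
  · simp [hj]

theorem neW_spec {u v : List ℕ} (h : neW u v = true) : evW ev u ≠ evW ev v := by
  simp only [neW, Bool.and_eq_true, Bool.not_eq_true'] at h
  intro e
  have h' := sameNet_of_eq (net_word h.1.1) (e ▸ net_word h.1.2)
  rw [h.2] at h'
  exact Bool.false_ne_true h'

/-- The involution. -/
noncomputable def zEl : Cfsg.Spor.Suz := evW ev [0]

theorem z_sq_ok : (eqW [0, 0] [] && neW [0] []) = true := by decide +kernel

theorem z_ne : zEl ≠ 1 := by
  have h := z_sq_ok
  rw [Bool.and_eq_true] at h
  exact neW_spec h.2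

theorem z_sq : zEl * zEl = 1 := by
  have h := z_sq_ok
  rw [Bool.and_eq_true] at h
  have := eqW_spec h.1
  simpa [zEl] using this

/-- The fixed points of the involution. -/
theorem fixZero_ok : (Nat.beq (fixMask (rep.netW [0])) fixZero && Nat.beq (bitCount fixZero rep.N) 54 &&
    Nat.beq (Nat.land fixZero (ones rep.N)) fixZero) = true := by decide +kernel

theorem fixZero_spec (j : Fin rep.N) : fixZero.testBit j = true ↔ phi zEl j = j := by
  have h := fixZero_ok
  simp only [Bool.and_eq_true] at h
  rw [← Nat.eq_of_beq_eq_true h.1.1]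
  exact fixMask_spec (net_word (w := [0]) (by decide)) j

/-- One step of the table of fixed point sets. -/
noncomputable def fixStep (t : ℕ) : Bool :=
  Nat.beq (Nat.land (fixT.get t) (ones rep.N)) (fixT.get t) &&
    bif Nat.beq t 0 then Nat.beq (fixT.get 0) fixZero
    else force (fixPar.get t) fun a => Nat.blt (Nat.mod a 8192) t && Nat.blt (Nat.div a 8192) 6 &&
      Nat.beq (applyNet (rep.net (Nat.div a 8192)) (fixT.get (Nat.mod a 8192))) (fixT.get t)

theorem fixStep0 : allFrom 0 512 fixStep = true := by decide +kernel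
theorem fixStep1 : allFrom 512 512 fixStep = true := by decide +kernel
theorem fixStep2 : allFrom 1024 512 fixStep = true := by decide +kernel
theorem fixStep3 : allFrom 1536 512 fixStep = true := by decide +kernel
theorem fixStep4 : allFrom 2048 512 fixStep = true := by decide +kernel
theorem fixStep5 : allFrom 2560 512 fixStep = true := by decide +kernel
theorem fixStep6 : allFrom 3072 512 fixStep = true := by decide +kernel
theorem fixStep7 : allFrom 3584 511 fixStep = true := by decide +kernel

theorem fixStep_ok : allFrom 0 4095 fixStep = true := by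
  rw [allFrom_eq_true]
  intro i _ hi
  by_cases h0 : i < 512
  · exact allFrom_eq_true.1 fixStep0 i (by omega) (by omega)
  by_cases h1 : i < 1024
  · exact allFrom_eq_true.1 fixStep1 i (by omega) (by omega)
  by_cases h2 : i < 1536
  · exact allFrom_eq_true.1 fixStep2 i (by omega) (by omega)
  by_cases h3 : i < 2048
  · exact allFrom_eq_true.1 fixStep3 i (by omega) (by omega)
  by_cases h4 : i < 2560
  · exact allFrom_eq_true.1 fixStep4 i (by omega) (by omega)
  by_cases h5 : i < 3072
  · exact allFrom_eq_true.1 fixStep5 i (by omega) (by omega)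
  by_cases h6 : i < 3584
  · exact allFrom_eq_true.1 fixStep6 i (by omega) (by omega)
  exact allFrom_eq_true.1 fixStep7 i (by omega) (by omega)

/-- One step of the ordering. -/
noncomputable def fixSrtStep (j : ℕ) : Bool :=
  Nat.blt (fixSrt.get j) 4095 &&
    (Nat.ble 4094 j || Nat.blt (fixT.get (fixSrt.get j)) (fixT.get (fixSrt.get (Nat.add j 1))))

theorem fixSrt_ok : allFrom 0 4095 fixSrtStep = true := by decide +kernel

theorem fix_rep : ∀ t, t < 4095 → ∃ g ∈ H, ∀ j : Fin rep.N,
    (fixT.get t).testBit j = true ↔ phi (g * zEl * g⁻¹) j = j := by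
  intro t
  induction t using Nat.strong_induction_on with
  | _ t ih =>
    intro ht
    have h := of_allFrom_zero fixStep_ok ht
    simp only [fixStep, Bool.and_eq_true] at h
    by_cases h0 : t = 0
    · subst h0
      refine ⟨1, one_mem _, fun j => ?_⟩
      have h2 := h.2
      rw [show Nat.beq 0 0 = true from rfl, cond_true] at h2
      rw [Nat.eq_of_beq_eq_true h2, fixZero_spec, one_mul, inv_one, mul_one]
    · have h2 := h.2
      rw [show Nat.beq t 0 = false from Bool.eq_false_iff.2 fun e => h0 (Nat.eq_of_beq_eq_true e)] at h2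
      simp only [cond_false, force_eq, Bool.and_eq_true, Nat.blt_eq] at h2
      set a := fixPar.get t
      obtain ⟨⟨hlt, hk⟩, he⟩ := h2
      obtain ⟨g, hg, hr⟩ := ih _ hlt (by omega)
      have hk' : Nat.div a 8192 < 7 := Nat.lt_succ_of_lt hk
      have hx : ev (Nat.div a 8192) ∈ H := by
        have : [Nat.div a 8192] ∈ SuzCosets.hWords := by
          generalize Nat.div a 8192 = k at hk
          interval_cases k <;> decide
        simpa using SuzCosets.mem_H this
      refine ⟨(ev (Nat.div a 8192))⁻¹ * g, mul_mem (inv_mem hx) hg, fun j => ?_⟩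
      rw [← Nat.eq_of_beq_eq_true he, (net_letter hk').bit, hr,
        show (ev (Nat.div a 8192))⁻¹ * g * zEl * ((ev (Nat.div a 8192))⁻¹ * g)⁻¹ =
          (ev (Nat.div a 8192))⁻¹ * (g * zEl * g⁻¹) * ev (Nat.div a 8192) by group,
        map_mul phi _ (ev (Nat.div a 8192)), map_mul phi _ (g * zEl * g⁻¹), map_inv, Equiv.Perm.mul_apply,
        Equiv.Perm.mul_apply]
      exact ((Equiv.symm_apply_eq _)).symm

theorem card_H : Nat.card H = 251596800 := by
  have h := H.card_mul_index
  rw [SuzCosets.index_eq, SuzOrder.card_eq] at h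
  exact Nat.eq_of_mul_eq_mul_right (show 0 < 1782 by norm_num) (h.trans (by norm_num))

/-- The centraliser of the involution. -/
noncomputable abbrev cz : Subgroup Cfsg.Spor.Suz := Subgroup.centralizer {zEl}

theorem finite_suz : Finite Cfsg.Spor.Suz := Nat.finite_of_card_ne_zero (by rw [SuzOrder.card_eq]; norm_num)

theorem card_H_inf : Nat.card ↥(H ⊓ cz) ≤ 61440 := by
  have := finite_suz
  choose g hg hr using fun t : Fin 4095 => fix_rep t.1 t.2
  have hs : ∀ j < 4095, fixSrt.get j < 4095 ∧
      (j + 1 < 4095 → fixT.get (fixSrt.get j) < fixT.get (fixSrt.get (j + 1))) := by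
    intro j hj
    have h := of_allFrom_zero fixSrt_ok hj
    simp only [fixSrtStep, Bool.and_eq_true, Bool.or_eq_true, Nat.blt_eq, Nat.ble_eq, Nat.add_eq] at h
    exact ⟨h.1, fun hj' => h.2.resolve_left (by omega)⟩
  have hinj : Function.Injective fun t : Fin 4095 => fixT.get t.1 :=
    injective_of_sorted (s := fixSrt.get) (T := fixT.get) (fun _ => rfl) (fun j hj => (hs j hj).1)
      (fun j hj => (hs j (by omega)).2 hj)
  have h := mul_card_le (G := Cfsg.Spor.Suz) (K := H) (H := H ⊓ cz) inf_le_left g hg
    (fun x => x * zEl * x⁻¹) (fun i c hc => by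
      have hc' : zEl * c = c * zEl :=
        Subgroup.mem_centralizer_iff.1 (Subgroup.mem_inf.1 hc).2 zEl rfl
      show g i * c * zEl * (g i * c)⁻¹ = _
      rw [mul_assoc (g i) c, ← hc']
      group)
    (fun a b e => hinj (by
      have e' : g a * zEl * (g a)⁻¹ = g b * zEl * (g b)⁻¹ := e
      refine Nat.eq_of_testBit_eq fun j => ?_
      have hb : ∀ t : Fin 4095, (fixT.get t.1 &&& ones rep.N).testBit j = (fixT.get t.1).testBit j := by
        intro t
        have h := of_allFrom_zero fixStep_ok t.2
        simp only [fixStep, Bool.and_eq_true] at h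
        exact congrArg (fun n => n.testBit j) (Nat.eq_of_beq_eq_true h.1)
      rw [← hb a, ← hb b, Nat.testBit_and, Nat.testBit_and, testBit_ones]
      by_cases hj : j < rep.N
      · simp only [hj, decide_true, Bool.and_true]
        rw [Bool.eq_iff_iff, show j = ((⟨j, hj⟩ : Fin rep.N) : ℕ) from rfl, hr a, hr b, e']
      · simp [hj]))
  rw [card_H] at h
  omega

theorem card_cz_le : Nat.card cz ≤ 3317760 := by
  have := finite_suz
  have hmul := (H.subgroupOf cz).card_mul_index
  have hle : Nat.card (H.subgroupOf cz) ≤ 61440 := by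
    rw [← Subgroup.inf_subgroupOf_right, Nat.card_congr (Subgroup.subgroupOfEquivOfLe inf_le_right).toEquiv]
    exact card_H_inf
  have hH : ∀ x : Cfsg.Spor.Suz, x ∈ H ↔ phi x p0 = p0 := fun x =>
    ⟨fun hx => SuzCosets.H_fix x hx, mem_H_of_fix⟩
  have hidx : (H.subgroupOf cz).index ≤ 54 := by
    have hlift : ∀ a b : cz, QuotientGroup.leftRel (H.subgroupOf cz) a b →
        phi (a : Cfsg.Spor.Suz) p0 = phi (b : Cfsg.Spor.Suz) p0 := by
      intro a b hab
      rw [QuotientGroup.leftRel_apply, Subgroup.mem_subgroupOf] at hab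
      have h := (hH _).1 hab
      rw [Subgroup.coe_mul, Subgroup.coe_inv, map_mul, map_inv, Equiv.Perm.mul_apply] at h
      exact ((Equiv.symm_apply_eq _).1 h).symm
    let f : cz ⧸ H.subgroupOf cz → {i // i ∈ (Finset.range rep.N).filter fun i => fixZero.testBit i = true} :=
      fun q => Quotient.liftOn' q (fun a => ⟨((phi (a : Cfsg.Spor.Suz) p0 : Fin rep.N) : ℕ), by
        rw [Finset.mem_filter, Finset.mem_range]
        refine ⟨Fin.is_lt _, (fixZero_spec _).2 ?_⟩
        have hz0 : phi zEl p0 = p0 := by
          have h1 : zEl ∈ H := SuzCosets.mem_H (by decide)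
          exact (hH _).1 h1
        rw [← Equiv.Perm.mul_apply, ← map_mul, Subgroup.mem_centralizer_iff.1 a.2 zEl rfl, map_mul,
          Equiv.Perm.mul_apply, hz0]⟩) (fun a b hab => Subtype.ext (congrArg Fin.val (hlift a b hab)))
    have hf : Function.Injective f := by
      intro p q
      induction p using Quotient.inductionOn' with | _ a => ?_
      induction q using Quotient.inductionOn' with | _ b => ?_
      intro e
      refine Quotient.sound' ?_
      rw [QuotientGroup.leftRel_apply, Subgroup.mem_subgroupOf, Subgroup.coe_mul, Subgroup.coe_inv, hH,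
        map_mul, map_inv, Equiv.Perm.mul_apply]
      exact (Equiv.symm_apply_eq _).2 (Fin.ext (congrArg Subtype.val e).symm)
    have h := Nat.card_le_card_of_injective f hf
    have h54 := fixZero_ok
    simp only [Bool.and_eq_true] at h54
    rw [Nat.card_eq_finsetCard, ← bitCount_eq, Nat.eq_of_beq_eq_true h54.1.2] at h
    exact h
  rw [← hmul]
  exact (Nat.mul_le_mul hle hidx).trans (by norm_num)

end CfsgLib.SuzCoZero
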